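import Cfsg.Agent.ThreeLocalEight.Model
import Mathlib.GroupTheory.SpecificGroups.Dihedral
import Mathlib.Data.ZMod.Basic

/-!
Finite facts about `Sym(3) × Sym(5)` as the normalizer of a subgroup of order 3.
-/

set_option autoImplicit false
set_option maxRecDepth 100000

namespace CfsgLib.ThreeLocalSymEight

open Equiv Equiv.Perm
open CfsgLib.ThreeLocalEight (c3 t3 c5)

/-- `Sym(3) × Sym(5)`. -/
abbrev P35 := Perm (Fin 3) × Perm (Fin 5)

/-- the transposition centralising the Sylow 3-subgroup -/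
def t5 : Perm (Fin 5) := swap 3 4
/-- a transposition inverting `c5` -/
def s5 : Perm (Fin 5) := swap 0 1

def eZ : P35 := (c3, 1)
def eZ' : P35 := (1, c5)
def eT : P35 := (1, t5)
def eA : P35 := (t3, 1)
def eC : P35 := (1, s5)
/-- The element with coordinates `(a, b)` of the Sylow subgroup. -/
def dd (a b : Fin 3) : P35 := (c3 ^ a.val, c5 ^ b.val)

theorem dd_mul : ∀ a b a' b' : Fin 3, dd a b * dd a' b' = dd (a + a') (b + b') := by decide +kernel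

theorem dd_inv : ∀ a b : Fin 3, (dd a b)⁻¹ = dd (-a) (-b) := by decide +kernel

theorem dd_zero : dd 0 0 = 1 := by decide +kernel

theorem dd_one_zero : dd 1 0 = eZ := by decide +kernel

theorem dd_zero_one : dd 0 1 = eZ' := by decide +kernel

theorem dd_inj : ∀ a b a' b' : Fin 3, dd a b = dd a' b' → a = a' ∧ b = b' := by decide +kernel

theorem dd_inj2 : ∀ a b a' b' : Fin 3, ∀ e e' : Fin 2,
    dd a b * eT ^ e.val = dd a' b' * eT ^ e'.val → a = a' ∧ b = b' ∧ e = e' := by decide +kernel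

theorem dd_cube : ∀ a b : Fin 3, dd a b ^ 3 = 1 := by decide +kernel

theorem dd_flip : ∀ a b : Fin 3, eA * dd a b * eA⁻¹ = dd (-a) b ∧
    eC * dd a b * eC⁻¹ = dd a (-b) ∧ eA * eC * dd a b * (eA * eC)⁻¹ = dd (-a) (-b) := by decide +kernel

theorem dd_move : ∀ a b a' b' : Fin 3, a ≠ 0 → b ≠ 0 → a' ≠ 0 → b' ≠ 0 →
    ∃ m : P35, (m = 1 ∨ m = eA ∨ m = eC ∨ m = eA * eC) ∧ m * dd a b * m⁻¹ = dd a' b' := by
  intro a b a' b' h1 h2 h3 h4
  have k : ∀ a b a' b' : Fin 3, a ≠ 0 → b ≠ 0 → a' ≠ 0 → b' ≠ 0 →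
      ∃ i : Fin 4, (![1, eA, eC, eA * eC] i) * dd a b * (![1, eA, eC, eA * eC] i)⁻¹ = dd a' b' := by
    decide +kernel
  obtain ⟨i, hi⟩ := k a b a' b' h1 h2 h3 h4
  refine ⟨_, ?_, hi⟩
  fin_cases i <;> simp

theorem conj_dd : ∀ s : Perm (Fin 3), ∀ a : Fin 3, ∃ a' : Fin 3,
    s * c3 ^ a.val * s⁻¹ = c3 ^ a'.val := by decide

theorem norm_c5 : ∀ p : Perm (Fin 5), (∃ b : Fin 3, p * c5 * p⁻¹ = c5 ^ b.val) →
    (p * c5 * p⁻¹ = c5 ∨ p * c5 * p⁻¹ = c5⁻¹) := by decide +kernel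

theorem g_image : ∀ p : Perm (Fin 5), p ^ 2 = 1 ∧ p * c5 = c5⁻¹ * p ∧ p * t5 = t5 * p →
    ∃ k : Fin 3, ∃ e : Fin 2, p = c5 ^ k.val * (s5 * t5 ^ e.val) * (c5 ^ k.val)⁻¹ := by decide +kernel

theorem g_image_fst : ∀ s : Perm (Fin 3), s * c3 = c3 * s ∧ s ^ 2 = 1 → s = 1 := by decide

theorem cd_shift : ∀ k : Fin 3, ∀ e : Fin 2,
    (1, c5 ^ (-k).val) * ((1 : Perm (Fin 3)), c5 ^ k.val * (s5 * t5 ^ e.val) * (c5 ^ k.val)⁻¹) *
      (1, c5 ^ (-k).val)⁻¹ = eC * eT ^ e.val := by decide +kernel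

theorem centT_z : ∀ p : Perm (Fin 5), p * t5 = t5 * p → (p * c5 * p⁻¹ = c5 ∨ p * c5 * p⁻¹ = c5⁻¹) := by
  decide +kernel

theorem fin3_eq : ∀ a : Fin 3, a = 0 ∨ a = 1 ∨ a = -1 := by decide

theorem no_lower : ∀ a b e : Fin 3, a ≠ 0 → b ≠ 0 → e ≠ 0 →
    b * a * (a * a) + e * b * (a * a) + e * e * b * a + e * e * e * b = 0 →
    (-b) * (-a) * ((-a) * (-a)) + e * (-b) * ((-a) * (-a)) + e * e * (-b) * (-a) +
      e * e * e * (-b) = 0 → False := by decide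

/-- The group `D₈ × 2`. -/
abbrev D82 := DihedralGroup 4 × Multiplicative (ZMod 2)

theorem d82_exp : ∀ x : D82, x ^ 4 = 1 := by decide +kernel

theorem d82_sq : ∀ x y : D82, x * x ≠ 1 → y * y ≠ 1 → x * x = y * y := by decide +kernel

theorem d8_not_comm : ∃ x y : DihedralGroup 4, x * y ≠ y * x := by decide +kernel

theorem c5_pow_pow : ∀ b b' : Fin 3, (c5 ^ b.val) ^ b'.val = c5 ^ (b * b').val := by decide +kernel

theorem dd_lin : ∀ a b e i j : Fin 3,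
    dd a b ^ i.val * dd 0 e ^ j.val = dd (i * a) (i * b + j * e) := by decide +kernel

theorem four_calc : ∀ a b e : Fin 3, a ≠ 0 →
    a * a * a * b + (a * a * b + (a * b + b * e) * e) * e = 0 →
    b * a * (a * a) + e * b * (a * a) + e * e * b * a + e * e * e * b = 0 := by decide

theorem pow_axis : ∀ b1 b2 : Fin 3, b1 ≠ 0 → ∃ c : Fin 3, dd 0 b2 = dd 0 b1 ^ c.val := by decide +kernel

theorem swap_lin : ∀ i j : Fin 3, eZ' ^ i.val * eZ ^ j.val = dd j i := by decide +kernel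

theorem sq_fix : ∀ i : Fin 3, ∀ f : Fin 2,
    dd 0 (-i) * (dd i i * eT ^ f.val) * dd (-i) 0 = eT ^ f.val := by decide +kernel

theorem fin2_one : ∀ f : Fin 2, f ≠ 0 → f = 1 := by decide

theorem twisted_nc : ∀ k : Fin 3, ∀ e : Fin 2,
    ((1 : Perm (Fin 3)), c5 ^ k.val * (s5 * t5 ^ e.val) * (c5 ^ k.val)⁻¹) * eT * eA * eZ ≠
      eZ * (((1 : Perm (Fin 3)), c5 ^ k.val * (s5 * t5 ^ e.val) * (c5 ^ k.val)⁻¹) * eT * eA) := by
  decide +kernel

theorem conj_shift : ∀ k : Fin 3, dd (-k) k * eA * (dd (-k) k)⁻¹ = dd k 0 * eA := by decide +kernel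

theorem shift_image : ∀ k : Fin 3, ∀ e : Fin 2,
    dd 0 k * ((1 : Perm (Fin 3)), c5 ^ k.val * (s5 * t5 ^ e.val) * (c5 ^ k.val)⁻¹) =
      eC * eT ^ e.val := by decide +kernel

theorem shift_sq : ∀ k : Fin 3, dd k (-k) * eT ^ (0 : Fin 2).val * dd (-k) k = 1 := by decide +kernel

theorem dd_fix : ∀ i : Fin 3,
    dd i 0 * eZ * (dd i 0)⁻¹ = eZ ∧ dd i 0 * eZ' * (dd i 0)⁻¹ = eZ' := by decide +kernel

end CfsgLib.ThreeLocalSymEight
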