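import Cfsg.Agent.Invol.ThompsonTransfer
import Mathlib.GroupTheory.PGroup
import Mathlib.GroupTheory.GroupAction.Quotient

/-!
A subgroup containing the centralizer of an involution and a single class of its conjugates has
odd index, and gives a normal subgroup of index 2.
-/

set_option autoImplicit false

namespace CfsgLib.ThreeLocalSymEight

open Subgroup

universe u

variable {G : Type u} [Group G] [Finite G]

/-- If the only fixed point of an involution on the cosets of `X` is `X`, the index of `X` is
odd. -/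
theorem odd_index (X : Subgroup G) {t : G} (ht : t * t = 1) (ht1 : t ≠ 1) (htX : t ∈ X)
    (h : ∀ x : G, x⁻¹ * t * x ∈ X → x ∈ X) : Odd X.index := by
  haveI := Fact.mk Nat.prime_two
  have hp : IsPGroup 2 (zpowers t) := IsPGroup.of_card (n := 1) (by
    rw [Nat.card_zpowers, pow_one]
    exact orderOf_eq_prime (by rw [sq, ht]) ht1)
  have hmod := hp.card_modEq_card_fixedPoints (G ⧸ X)
  have hfix : Nat.card (MulAction.fixedPoints (zpowers t) (G ⧸ X)) = 1 := by
    refine Nat.card_eq_one_iff_unique.2 ⟨⟨?_⟩, ⟨⟨((1 : G) : G ⧸ X), ?_⟩⟩⟩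
    · rintro ⟨a, ha⟩ ⟨b, hb⟩
      have key : ∀ a : G ⧸ X, a ∈ MulAction.fixedPoints (zpowers t) (G ⧸ X) →
          a = ((1 : G) : G ⧸ X) := by
        intro a ha
        induction a using QuotientGroup.induction_on with
        | H x =>
          have h1 : ((t * x : G) : G ⧸ X) = (x : G ⧸ X) := ha ⟨t, mem_zpowers t⟩
          have h2 : x⁻¹ * (t * x) ∈ X := QuotientGroup.eq.1 h1.symm
          rw [← mul_assoc] at h2
          exact QuotientGroup.eq.2 (by simpa using inv_mem (h x h2))
      exact Subtype.ext ((key a ha).trans (key b hb).symm)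
    · rintro ⟨w, hw⟩
      show ((w * 1 : G) : G ⧸ X) = ((1 : G) : G ⧸ X)
      rw [mul_one]
      refine QuotientGroup.eq.2 ?_
      rw [mul_one]
      exact inv_mem (zpowers_le.2 htX hw)
  rw [hfix] at hmod
  rw [Subgroup.index_eq_card, Nat.odd_iff]
  exact hmod

/-- An involution with no conjugate in a subgroup of index 2 of a subgroup of odd index lies
outside a normal subgroup of index 2. -/
theorem exists_normal_two (X Q : Subgroup G) (hX : Odd X.index) (hQ : Q.relIndex X = 2) {t : G}
    (ht : t * t = 1) (hno : ∀ k : G, k * t * k⁻¹ ∉ Q) :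
    ∃ M : Subgroup G, M.Normal ∧ M.index = 2 ∧ t ∉ M :=
  (CfsgLib.ThompsonTransfer.thompson_transfer X Q hX hQ ht).resolve_right
    fun ⟨k, hk⟩ => hno k hk

end CfsgLib.ThreeLocalSymEight
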