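import Cfsg.Agent.ThreeLocalSymEight.Kt
import Cfsg.Agent.ThreeLocalSymEight.Transfer
import Cfsg.Agent.ThreeLocalEight.Finish
import Cfsg.Agent.SpecBlow.CoxeterA

/-!
With trivial twist and a transposition of the second copy commuting with the four-group fixing 3,
the group is `Sym(8)`.
-/

set_option autoImplicit false
set_option maxRecDepth 100000

namespace CfsgLib.ThreeLocalSymEight

open Subgroup Equiv Equiv.Perm
open CfsgLib.ThreeLocalEight (c3 t3 c5 fin3_ne mem_normalizer_zpowers_of conj_mem_zpowers)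
open CfsgLib.CoxeterA (adj)

universe u

local notation "S8" => Perm (Fin 8)

/-- The eight points. -/
def pts8 : Fin 3 ⊕ Fin 5 ≃ Fin 8 where
  toFun := Sum.elim ![0, 1, 2] ![7, 6, 5, 3, 4]
  invFun := ![.inl 0, .inl 1, .inl 2, .inr 3, .inr 4, .inr 2, .inr 1, .inr 0]
  left_inv := by intro x; rcases x with x | x <;> revert x <;> decide
  right_inv := by intro x; revert x; decide

/-- The embedding of `Sym(3) × Sym(5)`. -/
def emb35 : P35 →* S8 :=
  (pts8.permCongrHom.toMonoidHom).comp (Equiv.Perm.sumCongrHom (Fin 3) (Fin 5))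

/-- The symmetry exchanging the two copies of `Sym(5)`. -/
def h8 : S8 := swap 0 7 * swap 1 6 * swap 2 5

/-- The second factor. -/
def embR : Perm (Fin 5) →* S8 := emb35.comp (MonoidHom.inr _ _)

/-- The second copy. -/
def embL : Perm (Fin 5) →* S8 := (MulAut.conj h8).toMonoidHom.comp embR

theorem embL_apply (p : Perm (Fin 5)) : embL p = h8 * embR p * h8⁻¹ := rfl

theorem embL_conj (p : Perm (Fin 5)) : h8 * embL p * h8⁻¹ = embR p := by
  have h2 : h8 * h8 = 1 := by decide +kernel
  rw [embL_apply, show h8 * (h8 * embR p * h8⁻¹) * h8⁻¹ = (h8 * h8) * embR p * (h8 * h8)⁻¹ by group,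
    h2, one_mul, inv_one, mul_one]

theorem emb35_sign (m : P35) : Perm.sign (emb35 m) = Perm.sign m.1 * Perm.sign m.2 := by
  show Perm.sign (pts8.permCongr (Equiv.Perm.sumCongr m.1 m.2)) = _
  rw [Equiv.Perm.sign_permCongr, Equiv.Perm.sign_sumCongr]

/-- Homomorphisms from `Sym(5)` agreeing on the adjacent transpositions are equal. -/
theorem hom_ext_five {H : Type*} [Group H] (f g : Perm (Fin 5) →* H)
    (h0 : f (swap 0 1) = g (swap 0 1)) (h1 : f (swap 1 2) = g (swap 1 2))
    (h2 : f (swap 2 3) = g (swap 2 3)) (h3 : f (swap 3 4) = g (swap 3 4)) : f = g := by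
  ext σ
  have hσ : σ ∈ Submonoid.closure (Set.range fun i : Fin 4 => Equiv.swap i.castSucc i.succ) := by
    rw [mclosure_swap_castSucc_succ]; trivial
  induction hσ using Submonoid.closure_induction with
  | mem x hx =>
    obtain ⟨k, rfl⟩ := hx
    fin_cases k
    · exact h0
    · exact h1
    · exact h2
    · exact h3
  | one => rw [map_one, map_one]
  | mul x y _ _ hx hy => rw [map_mul, map_mul, hx, hy]

/-- The centre of `Sym(8)` is trivial. -/
theorem centre_eight {x : S8} (h : ∀ p : S8, x * p = p * x) : x = 1 := by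
  ext1 i
  have key : ∀ j : Fin 8, j ≠ i → x i = i ∨ x i = j := by
    intro j hj
    have e := h (swap i j)
    rw [← mul_inv_eq_iff_eq_mul] at e
    have e' : swap (x i) (x j) = swap i j := by
      rw [← e, Equiv.swap_apply_apply]
    have h1 := congrArg (fun p : S8 => p i) e'
    simp only [swap_apply_left] at h1
    by_contra hc
    push Not at hc
    by_cases h2 : i = x j
    · rw [← h2, swap_apply_right] at h1
      exact hc.2 h1
    · rw [swap_apply_of_ne_of_ne (Ne.symm hc.1) h2] at h1
      exact hj h1.symm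
  have kk : ∀ i : Fin 8, ∃ j k : Fin 8, j ≠ i ∧ k ≠ i ∧ j ≠ k := by decide
  obtain ⟨j, k, hj, hk, hjk⟩ := kk i
  rcases key j hj with e | e
  · simpa using e
  rcases key k hk with e' | e'
  · simpa using e'
  · exact absurd (e.symm.trans e') hjk

theorem rep_eight {p : S8} (hp : p * p = 1) (hp1 : p ≠ 1) :
    ∃ r ∈ ([swap 3 4, emb35 (1, u5), h8, h8 * swap 3 4] : List S8), ∃ c : S8, c * p * c⁻¹ = r := by
  haveI : Fact (Nat.Prime 2) := ⟨Nat.prime_two⟩
  obtain ⟨n, hn⟩ := Equiv.Perm.cycleType_prime_order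
    (show (orderOf p).Prime by rw [orderOf_eq_prime (by rw [sq, hp]) hp1]; exact Nat.prime_two)
  rw [orderOf_eq_prime (p := 2) (by rw [sq, hp]) hp1] at hn
  have hle : p.cycleType.sum ≤ 8 := by
    rw [sum_cycleType]
    exact (Finset.card_le_univ _).trans (by simp)
  have hn2 : n ≤ 3 := by
    rw [hn, Multiset.sum_replicate, smul_eq_mul] at hle
    omega
  have key : ∀ r : S8, p.cycleType = r.cycleType → ∃ c : S8, c * p * c⁻¹ = r := fun r hr =>
    isConj_iff.1 (isConj_iff_cycleType_eq.2 hr)
  interval_cases n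
  · exact ⟨swap 3 4, by simp, key _ (by rw [hn]; decide +kernel)⟩
  · exact ⟨_, List.mem_cons_of_mem _ (List.mem_cons_self ..), key _ (by rw [hn]; decide +kernel)⟩
  · exact ⟨_, List.mem_cons_of_mem _ (List.mem_cons_of_mem _ (List.mem_cons_self ..)),
      key _ (by rw [hn]; decide +kernel)⟩
  · exact ⟨_, List.mem_cons_of_mem _ (List.mem_cons_of_mem _ (List.mem_cons_of_mem _
      (List.mem_cons_self ..))), key _ (by rw [hn]; decide +kernel)⟩

/-- Two points and six. -/
def e26 : Fin 2 ⊕ Fin 6 ≃ Fin 8 where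
  toFun := Sum.elim ![3, 4] ![0, 1, 2, 5, 6, 7]
  invFun := ![.inr 0, .inr 1, .inr 2, .inl 0, .inl 1, .inr 3, .inr 4, .inr 5]
  left_inv := by intro x; rcases x with x | x <;> revert x <;> decide
  right_inv := by intro x; revert x; decide

/-- `Sym(2) × Sym(6)`. -/
def emb26 : Perm (Fin 2) × Perm (Fin 6) →* S8 :=
  (e26.permCongrHom.toMonoidHom).comp (Equiv.Perm.sumCongrHom (Fin 2) (Fin 6))

theorem fst_gen : ∀ s : Perm (Fin 3), ∃ a : Fin 3, ∃ e : Fin 2, s = c3 ^ a.val * t3 ^ e.val := by
  decide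

theorem central_five : ∀ (a b : Fin 3) (e : Fin 2),
    (dd a b * eT ^ e.val) * eC = eC * (dd a b * eT ^ e.val) ∧
    (dd a b * eT ^ e.val) * (1, swap 2 3) = (1, swap 2 3) * (dd a b * eT ^ e.val) ∧
    (dd a b * eT ^ e.val) * eA = eA * (dd a b * eT ^ e.val) → dd a b * eT ^ e.val = 1 := by
  decide +kernel

namespace Ctx

variable {G : Type u} [Group G] (C : Ctx G)

/-- The Coxeter generators. -/
def cox : ℕ → G
  | 0 => C.γ (swap 0 1)
  | 1 => C.γ (swap 1 2)
  | 2 => C.γ (swap 2 3)
  | 3 => C.β eT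
  | 4 => C.bp (swap 2 4)
  | 5 => C.bp (swap 1 2)
  | _ => C.bp (swap 0 1)

variable [Finite G]

/-- The embedding of `Sym(8)`. -/
theorem exists_hom8 (htw : C.tw = 0) (hf : C.γ (swap 2 3) ∈ C.CV) :
    ∃ φ : S8 →* G, Function.Injective φ ∧ (∀ m, φ (emb35 m) = C.β m) ∧ φ h8 = C.g := by
  have hγs : C.γ (swap 0 1) = C.β eA := by
    have := C.γ_a
    rw [htw] at this
    simpa [s5] using this
  have hfst12 : C.γ (swap 1 2) = C.β (swap 1 2, 1) := by
    rw [show (swap 1 2 : Perm (Fin 5)) = c5 * swap 0 1 * c5⁻¹ by decide +kernel, map_mul, map_mul,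
      map_inv, hγs, C.γ_c5, ← map_inv, ← map_mul, ← map_mul]
    exact congrArg C.β (by decide +kernel)
  have hT3 : C.β eT = C.γ (swap 3 4) := C.γ_t5.symm
  have hT5 : C.β eT = C.bp (swap 3 4) := rfl
  have h24 : Commute (C.γ (swap 2 3)) (C.bp (swap 2 4)) := by
    have h1 : Commute (C.γ (swap 2 3)) (C.bp mV5) := (mem_cent_pair.1 hf).1
    have h2 : Commute (C.γ (swap 2 3)) (C.bp s5) := by
      have := C.γ_comm_u (swap 2 3)
      rw [htw] at this
      simpa [Commute, SemiconjBy] using this
    rw [show (swap 2 4 : Perm (Fin 5)) = mV5 * s5 * mV5 by decide +kernel, map_mul, map_mul]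
    exact (h1.mul_right h2).mul_right h1
  have h12 : Commute (C.γ (swap 2 3)) (C.bp (swap 1 2)) := by
    have h1 : Commute (C.γ (swap 2 3)) (C.bp s5) := by
      have := C.γ_comm_u (swap 2 3)
      rw [htw] at this
      simpa [Commute, SemiconjBy] using this
    have h2 : Commute (C.γ (swap 2 3)) (C.bp c5) := C.γ_comm_Z' _
    rw [show (swap 1 2 : Perm (Fin 5)) = c5 * s5 * c5⁻¹ by decide +kernel, map_mul, map_mul, map_inv]
    exact (h2.mul_right h1).mul_right h2.inv_right
  have h01 : Commute (C.γ (swap 2 3)) (C.bp (swap 0 1)) := by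
    have := C.γ_comm_u (swap 2 3)
    rw [htw] at this
    simpa [Commute, SemiconjBy, s5] using this
  have hfst : ∀ (p : Perm (Fin 5)) (s : Perm (Fin 3)), Commute (C.β (s, 1)) (C.bp p) :=
    fun p s => (C.bp_comm_fst p s).symm
  have hpow : ∀ (f : Perm (Fin 5) →* G) (p : Perm (Fin 5)) (n : ℕ), p ^ n = 1 → f p ^ n = 1 :=
    fun f p n h => by rw [← map_pow, h, map_one]
  have hcomm : ∀ (f : Perm (Fin 5) →* G) (p q : Perm (Fin 5)), p * q = q * p →
      Commute (f p) (f q) := fun f p q h => by
    show f p * f q = f q * f p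
    rw [← map_mul, h, map_mul]
  have hrel : CfsgLib.CoxeterA.Rel C.cox 7 := by
    refine ⟨fun i hi => ?_, fun i hi => ?_, fun i j hij hj => ?_⟩
    · interval_cases i <;> simp only [cox]
      · exact hpow C.γ _ 2 (by decide +kernel)
      · exact hpow C.γ _ 2 (by decide +kernel)
      · exact hpow C.γ _ 2 (by decide +kernel)
      · rw [sq, C.T_sq]
      · exact hpow C.bp _ 2 (by decide +kernel)
      · exact hpow C.bp _ 2 (by decide +kernel)
      · exact hpow C.bp _ 2 (by decide +kernel)
    · have hi' : i < 6 := by omega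
      interval_cases i <;> simp only [cox]
      · rw [← map_mul]; exact hpow C.γ _ 3 (by decide +kernel)
      · rw [← map_mul]; exact hpow C.γ _ 3 (by decide +kernel)
      · rw [hT3, ← map_mul]; exact hpow C.γ _ 3 (by decide +kernel)
      · rw [hT5, ← map_mul]; exact hpow C.bp _ 3 (by decide +kernel)
      · rw [← map_mul]; exact hpow C.bp _ 3 (by decide +kernel)
      · rw [← map_mul]; exact hpow C.bp _ 3 (by decide +kernel)
    · have hi' : i < 5 := by omega
      interval_cases i <;> interval_cases j <;> simp only [cox]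
      · exact hcomm C.γ _ _ (by decide +kernel)
      · rw [hT3]; exact hcomm C.γ _ _ (by decide +kernel)
      · rw [hγs]; exact hfst _ _
      · rw [hγs]; exact hfst _ _
      · rw [hγs]; exact hfst _ _
      · rw [hT3]; exact hcomm C.γ _ _ (by decide +kernel)
      · rw [hfst12]; exact hfst _ _
      · rw [hfst12]; exact hfst _ _
      · rw [hfst12]; exact hfst _ _
      · exact h24
      · exact h12
      · exact h01
      · rw [hT5]; exact hcomm C.bp _ _ (by decide +kernel)
      · rw [hT5]; exact hcomm C.bp _ _ (by decide +kernel)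
      · exact hcomm C.bp _ _ (by decide +kernel)
  obtain ⟨φ, -, hφ⟩ := CfsgLib.CoxeterA.exists_hom C.cox hrel
  have g0 := hφ 0 (by norm_num)
  have g1 := hφ 1 (by norm_num)
  have g2 := hφ 2 (by norm_num)
  have g3 := hφ 3 (by norm_num)
  have g4 := hφ 4 (by norm_num)
  have g5 := hφ 5 (by norm_num)
  have g6 := hφ 6 (by norm_num)
  simp only [cox] at g0 g1 g2 g3 g4 g5 g6
  have hR : φ.comp embR = C.bp := by
    refine hom_ext_five _ _ ?_ ?_ ?_ ?_ <;> show φ (embR _) = _
    · rw [show embR (swap 0 1) = adj 7 6 by decide +kernel, g6]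
    · rw [show embR (swap 1 2) = adj 7 5 by decide +kernel, g5]
    · rw [show embR (swap 2 3) = adj 7 3 * adj 7 4 * adj 7 3 by decide +kernel, map_mul, map_mul, g3,
        g4, hT5, ← map_mul, ← map_mul]
      exact congrArg C.bp (by decide +kernel)
    · rw [show embR (swap 3 4) = adj 7 3 by decide +kernel, g3, hT5]
  have hL : φ.comp embL = C.γ := by
    refine hom_ext_five _ _ ?_ ?_ ?_ ?_ <;> show φ (embL _) = _
    · rw [show embL (swap 0 1) = adj 7 0 by decide +kernel, g0]
    · rw [show embL (swap 1 2) = adj 7 1 by decide +kernel, g1]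
    · rw [show embL (swap 2 3) = adj 7 2 by decide +kernel, g2]
    · rw [show embL (swap 3 4) = adj 7 3 by decide +kernel, g3, hT3]
  have hR' : ∀ p, φ (embR p) = C.bp p := fun p => DFunLike.congr_fun hR p
  have hL' : ∀ p, φ (embL p) = C.γ p := fun p => DFunLike.congr_fun hL p
  have hall : ∀ m, φ (emb35 m) = C.β m := by
    intro m
    obtain ⟨a, e, hs⟩ := fst_gen m.1
    have hA : φ (emb35 eA) = C.β eA := by
      rw [show emb35 eA = embL (swap 0 1) by decide +kernel, hL', hγs]
    have hZ : φ (emb35 eZ) = C.β eZ := by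
      rw [show emb35 eZ = embL c5 by decide +kernel, hL', C.γ_c5]
    have hm : m = eZ ^ a.val * eA ^ e.val * (1, m.2) :=
      Prod.ext (by simp [hs, eZ, eA]) (by simp [eZ, eA])
    rw [hm]
    simp only [map_mul, map_pow, hA, hZ]
    exact congrArg _ (hR' m.2)
  refine ⟨φ, ?_, hall, ?_⟩
  · -- injectivity
    rw [← MonoidHom.ker_eq_bot_iff]
    haveI := alternatingGroup.isSimpleGroup (α := Fin 8) (by simp)
    haveI : (φ.ker.subgroupOf (alternatingGroup (Fin 8))).Normal := φ.normal_ker.subgroupOf _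
    rcases (show (φ.ker.subgroupOf (alternatingGroup (Fin 8))).Normal from
      inferInstance).eq_bot_or_eq_top with h | h
    · rw [eq_bot_iff]
      intro x hx
      refine mem_bot.2 (centre_eight fun p => ?_)
      have hc : x * p * x⁻¹ * p⁻¹ ∈ φ.ker := by
        rw [show x * p * x⁻¹ * p⁻¹ = x * (p * x⁻¹ * p⁻¹) by group]
        exact mul_mem hx (φ.normal_ker.conj_mem _ (inv_mem hx) p)
      have hs : Perm.sign (x * p * x⁻¹ * p⁻¹) = 1 := by
        simp [mul_comm, mul_assoc, mul_left_comm]
      have h1 : (⟨_, mem_alternatingGroup.2 hs⟩ : alternatingGroup (Fin 8)) ∈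
          φ.ker.subgroupOf (alternatingGroup (Fin 8)) := mem_subgroupOf.2 hc
      rw [h, mem_bot] at h1
      have h2 : x * p * x⁻¹ * p⁻¹ = 1 := congrArg Subtype.val h1
      exact mul_inv_eq_iff_eq_mul.1 (mul_inv_eq_one.1 h2)
    · exfalso
      have hs : Perm.sign (emb35 eZ) = 1 := by decide +kernel
      have h1 : (⟨_, mem_alternatingGroup.2 hs⟩ : alternatingGroup (Fin 8)) ∈
          φ.ker.subgroupOf (alternatingGroup (Fin 8)) := h ▸ mem_top _
      have h2 : φ (emb35 eZ) = 1 := MonoidHom.mem_ker.1 (mem_subgroupOf.1 h1)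
      rw [hall, ← map_one C.β] at h2
      exact absurd (C.inj h2) (by decide +kernel)
  · -- the exchanging involution
    have hc1 : ∀ p, φ h8 * C.γ p * (φ h8)⁻¹ = C.bp p := fun p => by
      rw [← hL' p, ← hR' p, ← embL_conj p, map_mul, map_mul, map_inv]
    have hc2 : ∀ p, φ h8 * C.bp p * (φ h8)⁻¹ = C.γ p := fun p => by
      rw [← hR' p, ← hL' p, embL_apply, map_mul, map_mul, map_inv]
    set x := C.g⁻¹ * φ h8
    have hx1 : ∀ p, Commute x (C.γ p) := fun p => mul_inv_eq_iff_eq_mul.1 (by
      rw [show x * C.γ p * x⁻¹ = C.g⁻¹ * (φ h8 * C.γ p * (φ h8)⁻¹) * C.g by simp only [x]; group, hc1,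
        C.ginv]
      rw [γ_apply, C.ginv])
    have hx2 : ∀ p, Commute x (C.bp p) := fun p => mul_inv_eq_iff_eq_mul.1 (by
      rw [show x * C.bp p * x⁻¹ = C.g⁻¹ * (φ h8 * C.bp p * (φ h8)⁻¹) * C.g by simp only [x]; group,
        hc2, C.ginv]
      conv_rhs => rw [← C.g_γ p]
      rw [C.ginv])
    have hxZ : x * C.β eZ = C.β eZ * x := by rw [← C.γ_c5]; exact (hx1 c5).eq
    have hxZ' : x * C.β eZ' = C.β eZ' * x := (hx2 c5).eq
    obtain ⟨a, b, e, he⟩ := C.cD x hxZ hxZ'
    have h1 := (hx2 s5).eq
    have h2 := (hx2 (swap 2 3)).eq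
    have h3 := (hx1 (swap 0 1)).eq
    rw [hγs] at h3
    rw [he, bp_apply, ← map_mul, ← map_mul] at h1 h2
    rw [he, ← map_mul, ← map_mul] at h3
    have hone : x = 1 := by
      rw [he, central_five a b e ⟨C.inj h1, C.inj h2, C.inj h3⟩, map_one]
    exact (inv_mul_eq_one.1 hone).symm

/-- The `Sym(8)` conclusion. -/
theorem equiv_eight (htw : C.tw = 0) (hf : C.γ (swap 2 3) ∈ C.CV)
    (hCT : Nat.card C.CT = 1440) : Nonempty (G ≃* S8) := by
  classical
  obtain ⟨φ, hinj, hall, hg⟩ := C.exists_hom8 htw hf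
  set X := φ.range
  have hT : φ (swap 3 4) = C.β eT := by
    rw [← hall]; exact congrArg φ (by decide +kernel)
  -- the centralizer of `τ`
  have hCX : C.CT ≤ X := by
    have hle : (φ.comp emb26).range ≤ C.CT := by
      rintro _ ⟨q, rfl⟩
      refine mem_centralizer_singleton_iff.2 ?_
      show φ (emb26 q) * C.β eT = C.β eT * φ (emb26 q)
      rw [← hT, ← map_mul, ← map_mul, show (swap 3 4 : S8) = emb26 (swap 0 1, 1) by decide +kernel,
        ← map_mul, ← map_mul]
      refine congrArg φ (congrArg emb26 (Prod.ext ?_ (by simp)))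
      have k : ∀ a : Perm (Fin 2), a * swap 0 1 = swap 0 1 * a := by decide
      exact k q.1
    have hinj26 : Function.Injective (φ.comp emb26) :=
      hinj.comp ((e26.permCongrHom.injective).comp sumCongrHom_injective)
    have heq := eq_of_le_of_card_ge hle (by
      rw [hCT, ← Nat.card_congr (MonoidHom.ofInjective hinj26).toEquiv, Nat.card_prod, Nat.card_perm,
        Nat.card_perm, Nat.card_fin, Nat.card_fin]
      rfl)
    rw [← heq]
    rintro _ ⟨q, rfl⟩
    exact ⟨emb26 q, rfl⟩
  -- only transpositions are conjugate to `τ`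
  have htrans : ∀ p : S8, (∃ k : G, k * φ p * k⁻¹ = C.β eT) → ∃ c : S8, c * p * c⁻¹ = swap 3 4 := by
    rintro p ⟨k, hk⟩
    have hp : p * p = 1 := hinj (by
      rw [map_mul, map_one, show φ p = k⁻¹ * C.β eT * k by rw [← hk]; group,
        show k⁻¹ * C.β eT * k * (k⁻¹ * C.β eT * k) = k⁻¹ * (C.β eT * C.β eT) * k by group, C.T_sq,
        mul_one, inv_mul_cancel])
    have hp1 : p ≠ 1 := fun h => C.T_ne_one (by rw [← hk, h, map_one, mul_one, mul_inv_cancel])
    obtain ⟨r, hr, c, hc⟩ := rep_eight hp hp1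
    have hk' : (k * (φ c)⁻¹) * φ r * (k * (φ c)⁻¹)⁻¹ = C.β eT := by
      rw [← hc, map_mul, map_mul, map_inv, ← hk]; group
    have hoff : ∀ w : S8, w * emb35 (dd 1 1) = emb35 (dd 1 1) * w → w ≠ swap 3 4 → r ≠ w := by
      intro w hw hne e
      subst e
      refine hne (hinj ?_)
      rw [hT]
      refine C.eq_T_of_off 1 1 (by decide) (by decide) ?_ hk'
      rw [← hall, ← map_mul, hw, map_mul]
    simp only [List.mem_cons, List.not_mem_nil, or_false] at hr
    rcases hr with e | e | e | e
    · exact ⟨c, hc.trans e⟩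
    · exfalso
      rw [e, hall] at hk'
      obtain ⟨q, hq⟩ := C.conj_T_of_Z (m := (1, u5)) (by decide +kernel) hk'
      have := congrArg (fun m : P35 => Perm.sign m.2) hq
      simp only [Prod.snd_mul, Prod.snd_inv, map_mul, map_inv] at this
      rw [mul_comm, inv_mul_cancel_left] at this
      exact absurd this (by decide +kernel)
    · exact absurd e (hoff h8 (by decide +kernel) (by decide +kernel))
    · exact absurd e (hoff (h8 * swap 3 4) (by decide +kernel) (by decide +kernel))
  have hTX : C.β eT ∈ X := ⟨_, hT⟩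
  have hodd : Odd X.index := by
    refine odd_index X C.T_sq C.T_ne_one hTX fun x hx => ?_
    obtain ⟨p, hp⟩ := hx
    obtain ⟨c, hc⟩ := htrans p ⟨x, by rw [hp]; group⟩
    have h1 : φ c * x⁻¹ ∈ X := by
      refine hCX (mem_centralizer_singleton_iff.2 (mul_inv_eq_iff_eq_mul.1 ?_))
      rw [show φ c * x⁻¹ * C.β eT * (φ c * x⁻¹)⁻¹ = φ c * (x⁻¹ * C.β eT * x) * (φ c)⁻¹ by group,
        ← hp, ← map_inv, ← map_mul, ← map_mul, hc, hT]
    have h2 := mul_mem (inv_mem h1) (⟨c, rfl⟩ : φ c ∈ X)
    rwa [show (φ c * x⁻¹)⁻¹ * φ c = x by group] at h2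
  have hQ : ((alternatingGroup (Fin 8)).map φ).relIndex X = 2 := by
    rw [show X = (⊤ : Subgroup S8).map φ from MonoidHom.range_eq_map φ,
      relIndex_map_map_of_injective _ _ hinj, relIndex_top_right,
      alternatingGroup.index_eq_two]
  obtain ⟨M, hMn, hM2, hTM⟩ := exists_normal_two X _ hodd hQ C.T_sq (by
    rintro k ⟨p, hp, hk⟩
    obtain ⟨c, hc⟩ := htrans p ⟨k⁻¹, by rw [hk]; group⟩
    have := congrArg Perm.sign hc
    rw [map_mul, map_mul, map_inv, mem_alternatingGroup.1 hp, mul_one, mul_inv_cancel] at this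
    exact absurd this (by decide +kernel))
  have hcomap : M.comap φ = alternatingGroup (Fin 8) := by
    refine eq_alternatingGroup_of_index_eq_two ?_
    rw [index_comap]
    rcases (Nat.dvd_prime Nat.prime_two).1 (hM2 ▸ relIndex_dvd_index_of_normal M X) with h | h
    · exact absurd ((relIndex_eq_one.1 h) hTX) hTM
    · exact h
  have hmem : ∀ p : S8, φ p ∈ M ↔ Perm.sign p = 1 := fun p => by
    rw [← mem_alternatingGroup, ← hcomap, mem_comap]
  have hβmem : ∀ m : P35, C.β m ∈ M ↔ Perm.sign m.1 * Perm.sign m.2 = 1 := fun m => by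
    rw [← hall, hmem, emb35_sign]
  -- the data of `Alt(8)`
  have hαrange : ∀ m : CfsgLib.ThreeLocalEight.LK, C.β m.1 ∈ M := fun m => (hβmem _).2 m.2
  let α : CfsgLib.ThreeLocalEight.LK →* M :=
    (C.β.comp (Subgroup.subtype _)).codRestrict M hαrange
  have hαv : ∀ m, ((α m : M) : G) = C.β m.1 := fun _ => rfl
  have hαdd : ∀ a b, ((α (CfsgLib.ThreeLocalEight.dd a b) : M) : G) = C.β (dd a b) := fun a b => by
    rw [hαv]
    exact congrArg C.β (Prod.ext (CfsgLib.ThreeLocalEight.dd_fst a b)
      (CfsgLib.ThreeLocalEight.dd_snd a b))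
  have hαZ : ((α CfsgLib.ThreeLocalEight.mZ : M) : G) = C.β eZ := rfl
  have hαZ' : ((α CfsgLib.ThreeLocalEight.mZ' : M) : G) = C.β eZ' := rfl
  have hαy : ((α (CfsgLib.ThreeLocalEight.mZ * CfsgLib.ThreeLocalEight.mZ') : M) : G) =
      C.β (dd 1 1) := by
    rw [hαv]; exact congrArg C.β (by decide +kernel)
  let g' : M := ⟨φ (h8 * swap 3 4), (hmem _).2 (by decide +kernel)⟩
  have hgv : (g' : G) = φ (h8 * swap 3 4) := rfl
  have hgconj : ∀ m n : P35, (h8 * swap 3 4) * emb35 m * (h8 * swap 3 4)⁻¹ = emb35 n →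
      (g' : G) * C.β m * (g' : G)⁻¹ = C.β n := fun m n h => by
    rw [hgv, ← hall, ← hall, ← map_inv, ← map_mul, ← map_mul, h]
  haveI : Fintype M := Fintype.ofFinite M
  have hcz : Nat.card (centralizer ({α CfsgLib.ThreeLocalEight.mZ} : Set M)) = 180 := by
    have h180 : Nat.card (Fin 3 × alternatingGroup (Fin 5)) = 180 := by
      rw [Nat.card_prod, Nat.card_fin, nat_card_alternatingGroup, Nat.card_fin]; rfl
    rw [← h180]
    have hm : ∀ q : Fin 3 × alternatingGroup (Fin 5), C.β (c3 ^ q.1.val, (q.2 : Perm (Fin 5))) ∈ M :=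
      fun q => (hβmem _).2 (by
        rw [q.2.2, mul_one, map_pow, show Perm.sign c3 = 1 by decide, one_pow])
    refine (Nat.card_congr (Equiv.ofBijective (fun q => (⟨⟨_, hm q⟩, ?_⟩ :
      centralizer ({α CfsgLib.ThreeLocalEight.mZ} : Set M))) ⟨?_, ?_⟩)).symm
    · refine mem_centralizer_singleton_iff.2 (Subtype.ext ?_)
      show C.β _ * ((α CfsgLib.ThreeLocalEight.mZ : M) : G) = _
      rw [Subgroup.coe_mul, hαZ, ← map_mul, ← map_mul]
      refine congrArg C.β (Prod.ext ?_ (by simp [eZ]))
      show c3 ^ q.1.val * c3 = c3 * c3 ^ q.1.val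
      rw [← pow_succ, ← pow_succ']
    · intro q r h
      have h' := C.inj (congrArg (fun w : centralizer ({α CfsgLib.ThreeLocalEight.mZ} : Set M) =>
        ((w : M) : G)) h :)
      have k : ∀ a b : Fin 3, c3 ^ a.val = c3 ^ b.val → a = b := by decide
      exact Prod.ext (k _ _ (congrArg Prod.fst h' :)) (Subtype.ext (congrArg Prod.snd h' :))
    · rintro ⟨w, hw⟩
      have hw' : (w : G) * C.β eZ = C.β eZ * w :=
        congrArg Subtype.val (mem_centralizer_singleton_iff.1 hw)
      obtain ⟨i, p, hip⟩ := C.cent_Z hw'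
      have hs := (hβmem _).1 (hip ▸ w.2)
      rw [map_pow, show Perm.sign c3 = 1 by decide, one_pow, one_mul] at hs
      exact ⟨(i, ⟨p, mem_alternatingGroup.2 hs⟩), Subtype.ext (Subtype.ext hip.symm)⟩
  let C8 : CfsgLib.ThreeLocalEight.Ctx M :=
    { α := α
      inj := fun m n h => Subtype.ext (C.inj (congrArg Subtype.val h))
      range_eq := by
        ext w
        constructor
        · rintro ⟨m, rfl⟩
          refine mem_normalizer_zpowers_of ?_
          have h : C.β m.1 ∈ normalizer (zpowers (C.β eZ) : Set G) := by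
            rw [← C.range_eq]; exact ⟨_, rfl⟩
          obtain ⟨i, hi⟩ := mem_zpowers_iff.1 (conj_mem_zpowers h)
          exact mem_zpowers_iff.2 ⟨i, Subtype.ext (by simpa [hαv, show (CfsgLib.ThreeLocalEight.mZ : P35) = eZ from rfl] using hi)⟩
        · intro hw
          obtain ⟨i, hi⟩ := mem_zpowers_iff.1 (conj_mem_zpowers hw)
          have hw' : (w : G) ∈ normalizer (zpowers (C.β eZ) : Set G) :=
            mem_normalizer_zpowers_of (mem_zpowers_iff.2 ⟨i, by
              have := congrArg Subtype.val hi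
              simpa [hαZ] using this⟩)
          rw [← C.range_eq] at hw'
          obtain ⟨m, hm⟩ := hw'
          exact ⟨⟨m, (hβmem m).1 (hm ▸ w.2)⟩, Subtype.ext hm⟩
      card_z := hcz
      g := g'
      gz := Subtype.ext (by
        show (g' : G) * C.β eZ * (g' : G)⁻¹ = C.β eZ'
        exact hgconj _ _ (by decide +kernel))
      gz' := Subtype.ext (by
        show (g' : G) * C.β eZ' * (g' : G)⁻¹ = C.β eZ
        exact hgconj _ _ (by decide +kernel))
      gx := Subtype.ext (by
        show (g' : G) * C.β (t3, swap 0 1) = C.β (t3, swap 0 1) * (g' : G)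
        exact mul_inv_eq_iff_eq_mul.1 (hgconj _ _ (by decide +kernel)))
      gsq := Subtype.ext (by
        show φ (h8 * swap 3 4) * φ (h8 * swap 3 4) = 1
        rw [← map_mul, show h8 * swap 3 4 * (h8 * swap 3 4) = 1 by decide +kernel, map_one])
      cD := fun w h h' => by
        obtain ⟨a, b, e, he⟩ := C.cD (w : G) (congrArg Subtype.val h) (congrArg Subtype.val h')
        have hs := (hβmem _).1 (he ▸ w.2)
        have k : ∀ (a b : Fin 3) (e : Fin 2),
            Perm.sign (dd a b * eT ^ e.val).1 * Perm.sign (dd a b * eT ^ e.val).2 = 1 →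
            dd a b * eT ^ e.val = dd a b := by decide +kernel
        exact ⟨a, b, Subtype.ext (by rw [hαdd, he, k a b e hs])⟩
      card_y := by
        set y := C.β (dd 1 1)
        set K := centralizer ({y} : Set G)
        have hK : Nat.card K = 36 := C.card_off 1 1 (by decide) (by decide)
        have hTK : C.β eT ∈ K := mem_centralizer_singleton_iff.2 (C.T_comm_D (C.dd_mem 1 1)).symm
        have hidx : M.relIndex K = 2 := by
          rcases (Nat.dvd_prime Nat.prime_two).1 (hM2 ▸ relIndex_dvd_index_of_normal M K) with h | h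
          · exact absurd ((relIndex_eq_one.1 h) hTK) hTM
          · exact h
        have h2 := Subgroup.card_mul_index (M.subgroupOf K)
        rw [show (M.subgroupOf K).index = 2 from hidx, hK] at h2
        have h18 : Nat.card (M.subgroupOf K) = 18 := by omega
        rw [← h18]
        refine Nat.card_congr
          { toFun := fun w => ⟨⟨((w : M) : G), mem_centralizer_singleton_iff.2 (by
              have := congrArg Subtype.val (mem_centralizer_singleton_iff.1 w.2)
              rw [Subgroup.coe_mul, Subgroup.coe_mul, hαy] at this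
              exact this)⟩, mem_subgroupOf.2 (w : M).2⟩
            invFun := fun w => ⟨⟨((w : K) : G), mem_subgroupOf.1 w.2⟩,
              mem_centralizer_singleton_iff.2 (Subtype.ext (by
                have := mem_centralizer_singleton_iff.1 (w : K).2
                rw [Subgroup.coe_mul, Subgroup.coe_mul, hαy]
                exact this))⟩
            left_inv := fun w => rfl
            right_inv := fun w => rfl }
      cent_y := fun w hw a b => by
        obtain ⟨a', b', h⟩ := C.norm_off 1 1 (by decide) (by decide) (w : G) (by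
          have := congrArg Subtype.val hw
          rw [Subgroup.coe_mul, Subgroup.coe_mul, hαy] at this
          exact this) a b
        exact ⟨a', b', Subtype.ext (by simpa [hαdd] using h)⟩
      sylow_bound := fun R hR => by
        have h := C.sylow_bound (R.map M.subtype) (hR.map _)
        rwa [Subgroup.card_map_of_injective M.subtype_injective] at h }
  obtain ⟨ψ, hψ, hψall, hψg⟩ := C8.exists_hom
  let F : CfsgLib.ThreeLocalEight.Emb M := ⟨C8, ψ, hψ, hψall, hψg⟩
  have hMcard : Nat.card M = Nat.card (alternatingGroup (Fin 8)) :=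
    (Nat.card_congr (MulEquiv.ofBijective ψ
      ⟨hψ, MonoidHom.range_eq_top.1 F.range_eq_top⟩).toEquiv).symm
  have hbij : Function.Bijective φ := hinj.bijective_of_nat_card_le (by
    have h := Subgroup.card_mul_index M
    have h' := Subgroup.card_mul_index (alternatingGroup (Fin 8))
    rw [hM2, hMcard] at h
    rw [alternatingGroup.index_eq_two] at h'
    omega)
  exact ⟨(MulEquiv.ofBijective φ hbij).symm⟩

end Ctx

end CfsgLib.ThreeLocalSymEight
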