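import Cfsg.Agent.ThreeLocalSymEight.CV
import Cfsg.Agent.S3331

/-!
The `Sym(6)` case: the twist is trivial and, after possibly multiplying the involution exchanging
the axes by `τ`, the transposition `(2 3)` of the second copy commutes with the four-group fixing 3
of the first.
-/

set_option autoImplicit false
set_option maxRecDepth 100000

namespace CfsgLib.ThreeLocalSymEight

open Subgroup Equiv Equiv.Perm
open CfsgLib.ThreeLocalEight (c3 t3 c5 gam fin3_ne card_centralizer_conj card_psl_two_seven)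

universe u

/-- An automorphism of order dividing 3 of a group of order 7 is a power map by a cube root of 1. -/
theorem seven_roots : ∀ m : Fin 7, m.val * (m.val * m.val) % 7 = 1 →
    m.val = 1 ∨ m.val = 2 ∨ m.val = 4 := by decide

theorem seven_pick : ∀ m n : Fin 7, (m.val = 2 ∨ m.val = 4) → (n.val = 2 ∨ n.val = 4) →
    ∃ i : Fin 3, i ≠ 0 ∧ m.val ^ i.val * n.val % 7 = 1 := by decide

theorem sylow_seven_count : ∀ n : Fin 97, n.val ∣ 96 → n.val % 7 = 1 → n.val % 3 ≠ 0 := by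
  decide +kernel

theorem gam_swap : gam 3 = t5 * gam 4 * t5 := by decide +kernel

theorem f23_word : swap 2 3 = (c5 * s5 * c5⁻¹) * (gam 3 * s5 * (gam 3)⁻¹) * (c5 * s5 * c5⁻¹) := by
  decide +kernel

namespace Ctx

variable {G : Type u} [Group G] (C : Ctx G) [Finite G]

/-- Multiply the exchanging involution by `τ`. -/
def shift : Ctx G where
  β := C.β
  inj := C.inj
  range_eq := C.range_eq
  g := C.g * C.β eT
  gg := by
    rw [mul_assoc, ← mul_assoc (C.β eT), ← C.gT, mul_assoc C.g, C.T_sq, mul_one, C.gg]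
  gz := by
    rw [show C.g * C.β eT * C.β eZ * (C.g * C.β eT)⁻¹ =
      C.g * (C.β eT * C.β eZ * (C.β eT)⁻¹) * C.g⁻¹ by group, ← C.T_comm_D C.Z_mem_D,
      mul_inv_cancel_right, C.gz]
  gz' := by
    rw [show C.g * C.β eT * C.β eZ' * (C.g * C.β eT)⁻¹ =
      C.g * (C.β eT * C.β eZ' * (C.β eT)⁻¹) * C.g⁻¹ by group, ← C.T_comm_D C.Z'_mem_D,
      mul_inv_cancel_right, C.gz']
  gT := by rw [← mul_assoc (C.β eT) C.g, ← C.gT]
  tw := C.tw
  ga := by
    have h : C.β eT * C.β eA * (C.β eT)⁻¹ = C.β eA := by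
      rw [← map_inv, ← map_mul, ← map_mul]; exact congrArg C.β (by decide +kernel)
    rw [show C.g * C.β eT * C.β eA * (C.g * C.β eT)⁻¹ =
      C.g * (C.β eT * C.β eA * (C.β eT)⁻¹) * C.g⁻¹ by group, h, C.ga]
  cD := C.cD
  card_z := C.card_z
  card_off := C.card_off
  norm_off := C.norm_off
  sylow_bound := C.sylow_bound

theorem shift_γ (p : Perm (Fin 5)) : C.shift.γ p = C.γ (t5 * p * t5) := by
  show C.g * C.β eT * C.bp p * (C.g * C.β eT)⁻¹ = C.g * C.bp (t5 * p * t5) * C.g⁻¹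
  rw [map_mul, map_mul, C.bp_t5, mul_inv_rev, inv_eq_of_mul_eq_one_right C.T_sq]
  group

/-- `CV` modulo `V`. -/
abbrev VC : Subgroup C.CV := (K4.map C.bp).subgroupOf C.CV

instance VC_normal : C.VC.Normal := ⟨fun n hn w => by
  obtain ⟨p, hp, hpn⟩ := mem_subgroupOf.1 hn
  have h := (C.cent_K4 w.2 hp).eq
  rw [mem_subgroupOf]
  refine ⟨p, hp, ?_⟩
  simp only [Subgroup.coe_mul, Subgroup.coe_inv]
  rw [← hpn, h, mul_inv_cancel_right]⟩

theorem card_VC : Nat.card C.VC = 4 := by
  have hle : K4.map C.bp ≤ C.CV := by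
    rintro _ ⟨p, hp, rfl⟩; exact C.bp_K4_mem hp
  rw [Nat.card_congr (subgroupOfEquivOfLe hle).toEquiv,
    Subgroup.card_map_of_injective C.bp_inj, card_K4]

theorem VC_exp {v : C.CV} (hv : v ∈ C.VC) : v * v = 1 := by
  obtain ⟨p, hp, hpv⟩ := mem_subgroupOf.1 hv
  apply Subtype.ext
  rw [Subgroup.coe_mul, ← hpv, ← map_mul, K4_exp hp, map_one]
  rfl

/-- The image of `z`. -/
def zR : C.CV ⧸ C.VC := QuotientGroup.mk' C.VC ⟨C.β eZ, C.Z_mem_CV⟩

theorem zR_order : orderOf C.zR = 3 := by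
  haveI := Fact.mk Nat.prime_three
  refine orderOf_eq_prime ?_ fun h => ?_
  · rw [zR, ← map_pow, show (⟨C.β eZ, C.Z_mem_CV⟩ : C.CV) ^ 3 = 1 from
      Subtype.ext (by simpa using C.D_cube C.Z_mem_D), map_one]
  · rw [zR, QuotientGroup.mk'_apply, QuotientGroup.eq_one_iff, mem_subgroupOf] at h
    obtain ⟨p, -, hp⟩ := h
    rw [bp_apply] at hp
    exact absurd (congrArg Prod.fst (C.inj hp)) (show (1 : Perm (Fin 3)) ≠ c3 by decide)

theorem zR_cent : centralizer (zpowers C.zR : Set (C.CV ⧸ C.VC)) = zpowers C.zR := by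
  refine le_antisymm (fun q hq => ?_) fun q hq => ?_
  · obtain ⟨x, rfl⟩ := QuotientGroup.mk'_surjective C.VC q
    have h := (mem_centralizer_iff.1 hq _ (mem_zpowers C.zR)).symm
    rw [zR, ← map_mul, ← map_mul, QuotientGroup.mk'_apply, QuotientGroup.mk'_apply,
      QuotientGroup.eq, mem_subgroupOf] at h
    obtain ⟨p, hp, hpx⟩ := h
    simp only [Subgroup.coe_mul, Subgroup.coe_inv, mul_inv_rev] at hpx
    have hw : ((x : G)⁻¹ * C.β eZ * x) = C.β eZ * C.bp p := by rw [hpx]; group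
    have hp1 : C.bp p = 1 := by
      have e : ((x : G)⁻¹ * C.β eZ * x) ^ 3 = 1 := by
        rw [show (x : G)⁻¹ * C.β eZ * x = (x : G)⁻¹ * C.β eZ * ((x : G)⁻¹)⁻¹ by group, conj_pow,
          C.D_cube C.Z_mem_D, mul_one, mul_inv_cancel]
      rwa [hw, (show Commute (C.bp p) (C.β eZ) from C.bp_comm_Z p).symm.mul_pow,
        C.D_cube C.Z_mem_D, one_mul, ← map_pow, pow_succ, sq, K4_exp hp, one_mul] at e
    rw [hp1, mul_one] at hw
    have hc : (x : G) * C.β eZ = C.β eZ * x := by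
      conv_lhs => rw [← hw]
      group
    obtain ⟨i, p', hp', hx⟩ := C.cent_Z_CV x.2 hc
    refine mem_zpowers_iff.2 ⟨(i.val : ℤ), ?_⟩
    rw [zpow_natCast, zR, ← map_pow, QuotientGroup.mk'_apply, QuotientGroup.mk'_apply,
      QuotientGroup.eq, mem_subgroupOf]
    exact ⟨p', hp', by simp [hx]⟩
  · rw [mem_centralizer_iff]
    intro w hw
    obtain ⟨k, rfl⟩ := mem_zpowers_iff.1 hq
    obtain ⟨l, rfl⟩ := mem_zpowers_iff.1 hw
    exact (Commute.zpow_zpow (Commute.refl _) l k).eq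

theorem card_CV_eq : Nat.card C.CV = Nat.card (C.CV ⧸ C.VC) * 4 := by
  rw [Subgroup.card_eq_card_quotient_mul_card_subgroup C.VC, C.card_VC]

/-- The trichotomy gives a signalizer with a small quotient. -/
theorem good_or_ker {K : Type*} [Group K] (hC : 48 ≤ Nat.card C.CV)
    (N : Subgroup (C.CV ⧸ C.VC)) [N.Normal] (h3 : (Nat.card N).Coprime 3)
    (e : (C.CV ⧸ C.VC) ⧸ N ≃* K)
    (hK : ∀ M : Subgroup K, M.Normal → (Nat.card M).Coprime 3 → M = ⊥) :
    (C.tw = 0 ∧ ∃ k : Fin 2, C.γ (gam (![3, 4] k)) ∈ C.CV) ∨ N = ⊥ := by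
  let f : C.CV →* K := e.toMonoidHom.comp ((QuotientGroup.mk' N).comp (QuotientGroup.mk' C.VC))
  have hfs : Function.Surjective f :=
    e.surjective.comp ((QuotientGroup.mk'_surjective N).comp (QuotientGroup.mk'_surjective _))
  have hker : f.ker = N.comap (QuotientGroup.mk' C.VC) := by
    ext x
    simp [f, MonoidHom.mem_ker]
  have hcard : Nat.card f.ker = 4 * Nat.card N := by
    have h1 := Subgroup.card_mul_index f.ker
    have h2 := Subgroup.card_mul_index N
    rw [hker, Subgroup.index_comap_of_surjective _ (QuotientGroup.mk'_surjective _),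
      C.card_CV_eq, ← h2] at h1
    rw [hker]
    have hpos : 0 < N.index := Nat.pos_of_ne_zero Subgroup.index_ne_zero_of_finite
    exact mul_right_cancel₀ hpos.ne' (h1.trans (by ring))
  set Q : Subgroup G := f.ker.map C.CV.subtype
  have hQle : Q ≤ C.CV := map_subtype_le _
  have hQcard : Nat.card Q = Nat.card f.ker := Subgroup.card_map_of_injective C.CV.subtype_injective
  have hQ3 : ¬ 3 ∣ Nat.card Q := by
    rw [hQcard, hcard]
    intro h
    exact (Nat.prime_three.coprime_iff_not_dvd.1 h3.symm)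
      ((Nat.Coprime.dvd_of_dvd_mul_left (by norm_num) h))
  have hnorm : C.CV ≤ normalizer (Q : Set G) := by
    have key : ∀ w ∈ C.CV, ∀ q ∈ Q, w * q * w⁻¹ ∈ Q := by
      rintro w hw _ ⟨q, hq, rfl⟩
      exact ⟨⟨w, hw⟩ * q * ⟨w, hw⟩⁻¹, f.normal_ker.conj_mem _ hq _, rfl⟩
    intro w hw
    rw [mem_normalizer_iff]
    refine fun q => ⟨key w hw q, fun hq => ?_⟩
    have := key _ (inv_mem hw) _ hq
    rwa [inv_inv, show w⁻¹ * (w * q * w⁻¹) * w = q by group] at this
  have hDQ : C.D ≤ normalizer (Q : Set G) := by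
    have key : ∀ d ∈ C.D, ∀ q ∈ Q, d * q * d⁻¹ ∈ Q := by
      intro d hd q hq
      let Qd : Subgroup G := Q.map (MulAut.conj d).toMonoidHom
      have hle : Qd ≤ C.CV := by
        rintro _ ⟨w, hw, rfl⟩; exact C.D_norm_CV hd (hQle hw)
      haveI : (Qd.subgroupOf C.CV).Normal := ⟨fun n hn w => by
        rw [mem_subgroupOf] at hn ⊢
        obtain ⟨q', hq', hqn⟩ := hn
        have hw' : d⁻¹ * (w : G) * d ∈ C.CV := by
          have := C.D_norm_CV (inv_mem hd) w.2
          rwa [inv_inv] at this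
        refine ⟨_, (mem_normalizer_iff.1 (hnorm hw') _).1 hq', ?_⟩
        simp only [MulEquiv.coe_toMonoidHom, MulAut.conj_apply] at hqn ⊢
        simp only [Subgroup.coe_mul, Subgroup.coe_inv, ← hqn]
        group⟩
      have h := le_ker_of_normal f hfs (Qd.subgroupOf C.CV) (by
        rw [Nat.card_congr (subgroupOfEquivOfLe hle).toEquiv,
          Subgroup.card_map_of_injective (MulEquiv.injective _)]
        exact (Nat.prime_three.coprime_iff_not_dvd.2 hQ3).symm) hK
      have hm : d * q * d⁻¹ ∈ Qd := ⟨q, hq, rfl⟩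
      exact ⟨⟨_, hle hm⟩, h (mem_subgroupOf.2 hm), rfl⟩
    intro d hd
    rw [mem_normalizer_iff]
    refine fun q => ⟨key d hd q, fun hq => ?_⟩
    have := key _ (inv_mem hd) _ hq
    rwa [inv_inv, show d⁻¹ * (d * q * d⁻¹) * d = q by group] at this
  by_cases hV : Q ≤ K4.map C.bp
  · right
    refine eq_bot_of_card_eq _ ?_
    have h := Subgroup.card_le_of_le hV
    rw [hQcard, hcard, Subgroup.card_map_of_injective C.bp_inj, card_K4] at h
    have := Nat.card_pos (α := N)
    omega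
  · exact Or.inl (C.good_of_signalizer Q hQle hQ3 hDQ hnorm hV)

/-- No subgroup of order 7 is normalised by `D`. -/
theorem no_seven (P : Sylow 7 C.CV) (hP : Nat.card (P : Subgroup C.CV) = 7)
    (hfix : ∀ d ∈ C.D, ∀ x ∈ (P : Subgroup C.CV).map C.CV.subtype,
      d * x * d⁻¹ ∈ (P : Subgroup C.CV).map C.CV.subtype) : False := by
  haveI := Fact.mk (show Nat.Prime 7 by norm_num)
  set S := (P : Subgroup C.CV).map C.CV.subtype
  have hS : Nat.card S = 7 :=
    (Subgroup.card_map_of_injective C.CV.subtype_injective).trans hP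
  obtain ⟨x, hx, hx1⟩ : ∃ x ∈ S, x ≠ 1 := by
    by_contra! h
    have : S ≤ ⊥ := fun x hx => mem_bot.2 (h x hx)
    have := Subgroup.card_le_of_le this
    rw [hS, Subgroup.card_bot] at this
    omega
  have hx7 : orderOf x = 7 := by
    rcases (Nat.dvd_prime (by norm_num)).1 (hS ▸ S.orderOf_dvd_natCard hx) with h | h
    · exact absurd (orderOf_eq_one_iff.1 h) hx1
    · exact h
  have hgen : zpowers x = S := eq_of_le_of_card_ge (zpowers_le.2 hx) (by
    rw [hS, Nat.card_zpowers, hx7])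
  have hno : ∀ d ∈ C.D, d ≠ 1 → ¬ Commute x d := by
    rintro d ⟨a, b, rfl⟩ hd1 h
    have := Subgroup.orderOf_dvd_natCard (centralizer ({C.β (dd a b)} : Set G))
      (mem_centralizer_singleton_iff.2 h.eq)
    rw [hx7] at this
    by_cases hax : a = 0 ∨ b = 0
    · rw [C.card_axis a b (fun h => hd1 (by rw [h.1, h.2, dd_zero, map_one])) hax] at this
      norm_num at this
    · push Not at hax
      rw [C.card_off a b hax.1 hax.2] at this
      norm_num at this
  have hpow : ∀ d ∈ C.D, ∃ m : Fin 7, d * x * d⁻¹ = x ^ m.val ∧ m.val * (m.val * m.val) % 7 = 1 := by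
    intro d hd
    obtain ⟨m, hm⟩ := mem_zpowers_iff.1 (hgen ▸ hfix d hd x hx)
    refine ⟨⟨(m % 7).toNat, by omega⟩, ?_, ?_⟩
    · rw [← hm, ← zpow_natCast, Int.toNat_of_nonneg (Int.emod_nonneg _ (by norm_num))]
      rw [zpow_eq_zpow_iff_modEq, hx7]
      exact (Int.mod_modEq m 7).symm
    · set n := (m % 7).toNat
      have e : d * x * d⁻¹ = x ^ n := by
        rw [← hm, ← zpow_natCast, Int.toNat_of_nonneg (Int.emod_nonneg _ (by norm_num)),
          zpow_eq_zpow_iff_modEq, hx7]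
        exact (Int.mod_modEq m 7).symm
      have e2 : d * (d * (d * x * d⁻¹) * d⁻¹) * d⁻¹ = x ^ (n * (n * n)) := by
        rw [e, ← conj_pow, e, ← pow_mul, ← conj_pow, e, ← pow_mul]
      rw [show d * (d * (d * x * d⁻¹) * d⁻¹) * d⁻¹ = d ^ 3 * x * (d ^ 3)⁻¹ by
        rw [pow_three]; group, C.D_cube hd, one_mul, inv_one, mul_one] at e2
      have := (pow_eq_pow_iff_modEq (x := x) (n := n * (n * n)) (m := 1)).1 (by
        rw [← e2, pow_one])
      rw [hx7] at this
      simpa [Nat.ModEq] using this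
  have hne : ∀ d ∈ C.D, d ≠ 1 → ∀ m : Fin 7, d * x * d⁻¹ = x ^ m.val → m.val ≠ 1 := by
    intro d hd hd1 m hm h
    rw [h, pow_one] at hm
    exact hno d hd hd1 (mul_inv_eq_iff_eq_mul.1 hm).symm
  have hZ1 : C.β eZ ≠ 1 := fun h => by
    rw [← map_one C.β] at h; exact absurd (C.inj h) (by decide +kernel)
  have hZ1' : C.β eZ' ≠ 1 := fun h => by
    rw [← map_one C.β] at h; exact absurd (C.inj h) (by decide +kernel)
  obtain ⟨m, hm, hm3⟩ := hpow _ C.Z_mem_D
  obtain ⟨n, hn, hn3⟩ := hpow _ C.Z'_mem_D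
  obtain ⟨i, hi, hmn⟩ := seven_pick m n ((seven_roots m hm3).resolve_left (hne _ C.Z_mem_D hZ1 m hm))
    ((seven_roots n hn3).resolve_left (hne _ C.Z'_mem_D hZ1' n hn))
  have hiter : ∀ j : ℕ, ∀ k : ℕ, C.β eZ ^ j * x ^ k * (C.β eZ ^ j)⁻¹ = x ^ (m.val ^ j * k) := by
    intro j
    induction j with
    | zero => intro k; simp
    | succ j ih =>
      intro k
      rw [pow_succ, show C.β eZ ^ j * C.β eZ * x ^ k * (C.β eZ ^ j * C.β eZ)⁻¹ =
        C.β eZ ^ j * (C.β eZ * x ^ k * (C.β eZ)⁻¹) * (C.β eZ ^ j)⁻¹ by group, ← conj_pow, hm,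
        ← pow_mul, ih, pow_succ, mul_assoc]
  set d := C.β eZ ^ i.val * C.β eZ'
  have hd : d ∈ C.D := mul_mem (pow_mem C.Z_mem_D _) C.Z'_mem_D
  have hdx : d * x * d⁻¹ = x := by
    rw [show d * x * d⁻¹ = C.β eZ ^ i.val * (C.β eZ' * x * (C.β eZ')⁻¹) * (C.β eZ ^ i.val)⁻¹ by
      simp only [d]; group, hn, hiter, pow_eq_pow_mod _ (show x ^ 7 = 1 by
        rw [← hx7, pow_orderOf_eq_one]), hmn, pow_one]
  refine hno d hd (fun h => ?_) (mul_inv_eq_iff_eq_mul.1 hdx).symm
  simp only [d] at h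
  rw [← map_pow, ← map_mul, ← map_one C.β] at h
  have k : ∀ i : Fin 3, eZ ^ i.val * eZ' ≠ 1 := by decide +kernel
  exact k i (C.inj h)

theorem not_seven (hR : Nat.card (C.CV ⧸ C.VC) = 168) : False := by
  classical
  haveI := Fact.mk (show Nat.Prime 7 by norm_num)
  haveI := Fact.mk Nat.prime_three
  have h672 : Nat.card C.CV = 672 := by rw [C.card_CV_eq, hR]
  obtain ⟨P⟩ : Nonempty (Sylow 7 C.CV) := inferInstance
  have hP : ∀ P : Sylow 7 C.CV, Nat.card (P : Subgroup C.CV) = 7 := fun P => by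
    have h7 : (Nat.factorization 672) 7 = 1 := by
      rw [show (672 : ℕ) = 7 * 96 from rfl, Nat.factorization_mul (by norm_num) (by norm_num),
        Finsupp.add_apply, Nat.Prime.factorization_self (show Nat.Prime 7 by norm_num),
        Nat.factorization_eq_zero_of_not_dvd (show ¬ 7 ∣ 96 by norm_num)]
    rw [P.card_eq_multiplicity, h672, h7, pow_one]
  have hidx : (P : Subgroup C.CV).index = 96 := by
    have := Subgroup.card_mul_index (P : Subgroup C.CV)
    rw [hP P, h672] at this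
    omega
  have hn : ¬ 3 ∣ Nat.card (Sylow 7 C.CV) := by
    have h1 := P.card_dvd_index
    rw [hidx] at h1
    have h2 := card_sylow_modEq_one 7 C.CV
    unfold Nat.ModEq at h2
    intro h3
    exact sylow_seven_count ⟨_, Nat.lt_succ_of_le (Nat.le_of_dvd (by norm_num) h1)⟩ h1 h2
      (Nat.mod_eq_zero_of_dvd h3)
  letI : MulDistribMulAction C.D C.CV :=
    { smul := fun d x => ⟨(d : G) * x * (d : G)⁻¹, C.D_norm_CV d.2 x.2⟩
      one_smul := fun x => Subtype.ext (show (1 : G) * x * (1 : G)⁻¹ = x by simp)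
      mul_smul := fun a b x => Subtype.ext (by
        show ((a : G) * b) * x * ((a : G) * b)⁻¹ = a * (b * x * (b : G)⁻¹) * (a : G)⁻¹
        group)
      smul_mul := fun a x y => Subtype.ext (by
        show (a : G) * (x * y) * (a : G)⁻¹ = a * x * (a : G)⁻¹ * (a * y * (a : G)⁻¹)
        group)
      smul_one := fun a => Subtype.ext (show (a : G) * 1 * (a : G)⁻¹ = 1 by simp) }
  have hD3 : IsPGroup 3 C.D := IsPGroup.of_card (n := 2) (by rw [C.card_D]; norm_num)
  have hmod := hD3.card_modEq_card_fixedPoints (Sylow 7 C.CV)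
  obtain ⟨⟨Q, hQ⟩⟩ : Nonempty (MulAction.fixedPoints C.D (Sylow 7 C.CV)) := by
    refine (Nat.card_pos_iff.1 (Nat.pos_of_ne_zero fun h => hn ?_)).1
    rw [h] at hmod
    exact Nat.modEq_zero_iff_dvd.1 hmod
  refine C.no_seven Q (hP Q) ?_
  rintro d hd _ ⟨w, hw, rfl⟩
  refine ⟨(⟨d, hd⟩ : C.D) • w, ?_, rfl⟩
  have h := hQ ⟨d, hd⟩
  rw [← h]
  exact Subgroup.smul_mem_pointwise_smul w (⟨d, hd⟩ : C.D) _ hw

theorem not_five (h24 : 24 ≤ Nat.card (centralizer ({C.β eT, C.bp u5, C.bp v5} : Set G)))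
    (hR : Nat.card C.CV = 240) (f : C.CV →* alternatingGroup (Fin 5)) (hf : Function.Surjective f)
    (hk : ∀ x : C.CV, f x = 1 → (x : G) ∈ K4.map C.bp) : False := by
  classical
  obtain ⟨q, hq5, hq1, hq⟩ := C.exists_five f hf hk
  let S : Subgroup (Perm (Fin 5)) := C.CV.comap C.γ
  have hc : c5 ∈ S := by
    show C.γ c5 ∈ C.CV
    rw [C.γ_c5]; exact C.Z_mem_CV
  have hall : ∀ p, Perm.sign p = 1 → C.γ p ∈ C.CV := fun p hp =>
    even_mem_of_fifteen S hc hq hq5 hq1 hp
  have htw : C.tw = 1 := by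
    refine fin2_one _ fun h => ?_
    have hs : s5 ∈ S := by
      show C.γ s5 ∈ C.CV
      have := C.γ_a
      rw [h] at this
      simp only [Fin.val_zero, pow_zero, mul_one] at this
      rw [this]; exact C.a_mem_CV
    have ht : t5 ∈ S := by
      have := S.mul_mem (show u5 ∈ S from hall u5 (by decide +kernel)) hs
      rwa [show u5 * s5 = t5 by decide +kernel] at this
    have h' : C.γ t5 ∈ C.CV := ht
    rw [C.γ_t5] at h'
    exact C.T_not_CV h'
  -- the two copies of `Alt(5)` commute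
  let S2 : Subgroup (Perm (Fin 5)) :=
    { carrier := {q | ∀ p, Perm.sign p = 1 → Commute (C.γ p) (C.bp q)}
      one_mem' := fun p _ => by simp
      mul_mem' := fun ha hb p hp => by rw [map_mul]; exact (ha p hp).mul_right (hb p hp)
      inv_mem' := fun ha p hp => by rw [map_inv]; exact (ha p hp).inv_right }
  have hu : u5 ∈ S2 := fun p _ => by
    have := C.γ_comm_u p
    rw [htw] at this
    simpa [u5, Commute, SemiconjBy] using this
  have hm : mV5 ∈ S2 := fun p hp => C.cent_K4 (hall p hp) ⟨1, 0, by simp⟩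
  have hAB : ∀ p q : Perm (Fin 5), Perm.sign p = 1 → Perm.sign q = 1 →
      Commute (C.γ p) (C.bp q) := fun p q hp hq =>
    even_mem_of_fifteen S2 (fun p _ => C.γ_comm_Z' p) (S2.mul_mem hm hu) (by decide +kernel)
      (by decide +kernel) hq p hp
  have hinj : ∀ w w' p p' : Perm (Fin 5), Perm.sign w = 1 → Perm.sign w' = 1 → Perm.sign p = 1 →
      Perm.sign p' = 1 → C.bp w * C.γ p = C.bp w' * C.γ p' → w = w' ∧ p = p' := by
    intro w w' p p' hw hw' hp hp' h
    have e : C.bp (w'⁻¹ * w) = C.γ (p' * p⁻¹) := by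
      rw [map_mul, map_mul, map_inv, map_inv, eq_mul_inv_iff_mul_eq, mul_assoc, h,
        inv_mul_cancel_left]
    have hpp : p' * p⁻¹ = 1 := by
      have hcm : ∀ r, Perm.sign r = 1 → (p' * p⁻¹) * r = r * (p' * p⁻¹) := fun r hr => by
        refine C.γ_inj ?_
        rw [map_mul, map_mul C.γ r, ← e]
        exact (hAB r _ hr (by rw [map_mul, map_inv, hw, hw', inv_one, one_mul])).eq.symm
      exact centre_alt5 _ ⟨by rw [map_mul, map_inv, hp, hp', inv_one, one_mul],
        hcm _ (by decide +kernel), hcm _ (by decide +kernel)⟩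
    rw [hpp, map_one] at e
    exact ⟨(inv_mul_eq_one.1 (C.bp_inj (e.trans (map_one C.bp).symm))).symm,
      (mul_inv_eq_one.1 hpp).symm⟩
  have hsurj : ∀ x ∈ C.CV, ∃ (i j : Fin 2) (p : alternatingGroup (Fin 5)),
      x = C.bp (mV5 ^ i.val * mW5 ^ j.val) * C.γ p := by
    let F : (Fin 2 × Fin 2) × alternatingGroup (Fin 5) → C.CV := fun q =>
      ⟨C.bp (mV5 ^ q.1.1.val * mW5 ^ q.1.2.val) * C.γ q.2,
        mul_mem (C.bp_K4_mem ⟨_, _, rfl⟩) (hall _ q.2.2)⟩
    have hF : Function.Injective F := by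
      rintro ⟨⟨i, j⟩, p⟩ ⟨⟨i', j'⟩, p'⟩ h
      obtain ⟨h1, h2⟩ := hinj _ _ _ _ (K4_sign ⟨i, j, rfl⟩) (K4_sign ⟨i', j', rfl⟩) p.2 p'.2
        (congrArg Subtype.val h :)
      have k : ∀ i j i' j' : Fin 2, mV5 ^ i.val * mW5 ^ j.val = mV5 ^ i'.val * mW5 ^ j'.val →
          i = i' ∧ j = j' := by decide +kernel
      obtain ⟨rfl, rfl⟩ := k _ _ _ _ h1
      rw [show p = p' from Subtype.ext h2]
    have hb := hF.bijective_of_nat_card_le (by
      rw [hR, Nat.card_prod, Nat.card_prod, Nat.card_fin, nat_card_alternatingGroup, Nat.card_fin]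
      decide +kernel)
    intro x hx
    obtain ⟨⟨⟨i, j⟩, p⟩, hq⟩ := hb.2 ⟨x, hx⟩
    exact ⟨i, j, p, (congrArg Subtype.val hq).symm⟩
  -- counting
  set X := centralizer ({C.β eT, C.bp u5, C.bp v5} : Set G)
  have hX : ∀ x : X, C.bp r23 * (x : G) * (C.bp r23)⁻¹ ∈ C.CV := by
    intro x
    have h := mem_centralizer_iff.1 x.2
    have h1 : Commute (x : G) (C.bp u5) := (h _ (by simp)).symm
    have h2 : Commute (x : G) (C.bp v5) := (h _ (by simp)).symm
    have k : ∀ w ∈ [mV5, mW5], r23⁻¹ * w * r23 ∈ [u5, v5, u5 * v5] := by decide +kernel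
    have key : ∀ w ∈ [mV5, mW5],
        Commute (C.bp r23 * (x : G) * (C.bp r23)⁻¹) (C.bp w) := by
      intro w hw
      have hx' : Commute (x : G) (C.bp (r23⁻¹ * w * r23)) := by
        have := k w hw
        simp only [List.mem_cons, List.not_mem_nil, or_false] at this
        rcases this with e | e | e <;> rw [e]
        · exact h1
        · exact h2
        · rw [map_mul]; exact h1.mul_right h2
      have h3 := hx'.map (MulAut.conj (C.bp r23)).toMonoidHom
      simp only [MulEquiv.coe_toMonoidHom, MulAut.conj_apply] at h3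
      rwa [← map_inv, ← map_mul, ← map_mul,
        show r23 * (r23⁻¹ * w * r23) * r23⁻¹ = w by group, map_inv] at h3
    exact mem_cent_pair.2 ⟨(key _ (by simp)).eq, (key _ (by simp)).eq⟩
  choose i j p hp using fun x : X => hsurj _ (hX x)
  let F : X → {q : (Fin 2 × Fin 2) × alternatingGroup (Fin 5) //
      t5 * (r23⁻¹ * (mV5 ^ q.1.1.val * mW5 ^ q.1.2.val) * r23) * t5 =
        r23⁻¹ * (mV5 ^ q.1.1.val * mW5 ^ q.1.2.val) * r23 ∧
      t5 * (q.2 : Perm (Fin 5)) * t5 = (q.2 : Perm (Fin 5))} := fun x => ⟨((i x, j x), p x), by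
    set w := r23⁻¹ * (mV5 ^ (i x).val * mW5 ^ (j x).val) * r23
    have hw : Perm.sign w = 1 := by
      have k : ∀ i j : Fin 2, Perm.sign (r23⁻¹ * (mV5 ^ i.val * mW5 ^ j.val) * r23) = 1 := by
        decide +kernel
      exact k _ _
    have hx : (x : G) = C.bp w * C.γ (p x) := by
      rw [map_mul, map_mul, map_inv, mul_assoc _ (C.bp r23),
        ← (hAB _ _ (p x).2 r23_sign).eq, ← mul_assoc, mul_assoc _ (C.bp _) (C.γ _), ← hp x]
      group
    have hT : (x : G) * C.β eT = C.β eT * x := (mem_centralizer_iff.1 x.2 _ (by simp)).symm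
    have ht : C.bp (t5 * w * t5) * C.γ (t5 * (p x : Perm (Fin 5)) * t5) = C.bp w * C.γ (p x) := by
      rw [map_mul C.bp (t5 * w) t5, map_mul C.bp t5 w, map_mul C.γ (t5 * (p x : Perm (Fin 5))) t5,
        map_mul C.γ t5 (p x : Perm (Fin 5)), C.bp_t5, C.γ_t5,
        show C.β eT * C.bp w * C.β eT * (C.β eT * C.γ (p x) * C.β eT) =
          C.β eT * C.bp w * (C.β eT * C.β eT) * C.γ (p x) * C.β eT by group, C.T_sq, mul_one,
        mul_assoc (C.β eT) (C.bp w), ← hx, mul_assoc, hT, ← mul_assoc, C.T_sq, one_mul]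
    exact hinj _ _ _ _ (by rw [map_mul, map_mul, hw]; decide) hw
      (by rw [map_mul, map_mul, (p x).2]; decide) (p x).2 ht⟩
  have hF : Function.Injective F := by
    intro x y h
    have h' : ((i x, j x), p x) = ((i y, j y), p y) := congrArg Subtype.val h
    simp only [Prod.mk.injEq] at h'
    apply Subtype.ext
    have e : C.bp r23 * (x : G) * (C.bp r23)⁻¹ = C.bp r23 * (y : G) * (C.bp r23)⁻¹ := by
      rw [hp x, hp y, h'.1.1, h'.1.2, h'.2]
    exact mul_left_cancel (mul_right_cancel e)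
  have := Nat.card_le_card_of_injective F hF
  rw [count_six] at this
  omega

/-- The normal form in the `Sym(6)` case. -/
theorem good_of_six (e : C.K ≃* Perm (Fin 6)) : ∃ C' : Ctx G, C'.β = C.β ∧ C'.tw = 0 ∧
    C'.γ (swap 2 3) ∈ C'.CV := by
  obtain ⟨h24, h48⟩ := C.six_counts e
  have hgood : C.tw = 0 ∧ ∃ k : Fin 2, C.γ (gam (![3, 4] k)) ∈ C.CV := by
    rcases Cfsg.Agent.S3331.result (zpowers C.zR) (by rw [Nat.card_zpowers, C.zR_order]) C.zR_cent
      with ⟨N, hN, -, h3, hq⟩ | ⟨N, hN, -, hN2, ⟨eq⟩⟩ | h7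
    · haveI := hN
      have hK : ∀ M : Subgroup ((C.CV ⧸ C.VC) ⧸ N), M.Normal → (Nat.card M).Coprime 3 → M = ⊥ := by
        rcases hq with h | ⟨⟨eq⟩⟩
        · exact fun M _ hM => normal_coprime_three h M hM
        · exact fun M => equiv_bot eq normal_coprime_perm3 M
      refine (C.good_or_ker h48 N h3 (MulEquiv.refl _) hK).resolve_right fun hbot => ?_
      have h := Subgroup.card_eq_card_quotient_mul_card_subgroup N
      rw [show Nat.card N = 1 by rw [hbot, Subgroup.card_bot], mul_one] at h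
      have hle : Nat.card ((C.CV ⧸ C.VC) ⧸ N) ≤ 6 := by
        rcases hq with h | ⟨⟨eq⟩⟩
        · omega
        · rw [Nat.card_congr eq.toEquiv, Nat.card_perm, Nat.card_fin]; decide
      rw [C.card_CV_eq, h] at h48
      omega
    · haveI := hN
      have h3 : (Nat.card N).Coprime 3 := by
        have hp : IsPGroup 2 N := fun w => ⟨1, Subtype.ext (by simpa using hN2 w.1 w.2)⟩
        haveI := Fact.mk Nat.prime_two
        obtain ⟨n, hn⟩ := IsPGroup.iff_card.1 hp
        rw [hn]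
        exact Nat.Coprime.pow_left n (by decide)
      refine (C.good_or_ker h48 N h3 eq normal_coprime_alt5).resolve_right fun hbot => ?_
      refine C.not_five h24 ?_
        (eq.toMonoidHom.comp ((QuotientGroup.mk' N).comp (QuotientGroup.mk' C.VC)))
        (eq.surjective.comp ((QuotientGroup.mk'_surjective N).comp (QuotientGroup.mk'_surjective _)))
        ?_
      · have h := Subgroup.card_eq_card_quotient_mul_card_subgroup N
        rw [show Nat.card N = 1 by rw [hbot, Subgroup.card_bot], mul_one, Nat.card_congr eq.toEquiv,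
          nat_card_alternatingGroup, Nat.card_fin] at h
        rw [C.card_CV_eq, h]
        rfl
      · intro x hx
        have h1 : QuotientGroup.mk' N (QuotientGroup.mk' C.VC x) = 1 :=
          eq.injective (by simpa using hx)
        rw [QuotientGroup.mk'_apply, QuotientGroup.eq_one_iff, hbot, mem_bot,
          QuotientGroup.mk'_apply, QuotientGroup.eq_one_iff, mem_subgroupOf] at h1
        exact h1
    · obtain ⟨eq⟩ := h7
      exact (C.not_seven (by rw [Nat.card_congr eq.toEquiv, card_psl_two_seven])).elim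
  obtain ⟨htw, k, hk⟩ := hgood
  obtain ⟨C', hβ, htw', hk'⟩ : ∃ C' : Ctx G, C'.β = C.β ∧ C'.tw = 0 ∧ C'.γ (gam 3) ∈ C'.CV := by
    rcases fin2_or k with rfl | rfl
    · exact ⟨C, rfl, htw, hk⟩
    · refine ⟨C.shift, rfl, htw, ?_⟩
      rw [shift_γ, gam_swap,
        show t5 * (t5 * gam 4 * t5) * t5 = (t5 * t5) * gam 4 * (t5 * t5) by group,
        show t5 * t5 = 1 by decide +kernel, one_mul, mul_one]
      exact hk
  refine ⟨C', hβ, htw', ?_⟩
  let S : Subgroup (Perm (Fin 5)) := C'.CV.comap C'.γ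
  have hc : c5 ∈ S := by
    show C'.γ c5 ∈ C'.CV
    rw [C'.γ_c5]; exact C'.Z_mem_CV
  have hs : s5 ∈ S := by
    show C'.γ s5 ∈ C'.CV
    have := C'.γ_a
    rw [htw'] at this
    simp only [Fin.val_zero, pow_zero, mul_one] at this
    rw [this]; exact C'.a_mem_CV
  have hg : gam 3 ∈ S := hk'
  have h1 := S.mul_mem (S.mul_mem hc hs) (S.inv_mem hc)
  have h2 := S.mul_mem (S.mul_mem hg hs) (S.inv_mem hg)
  show swap 2 3 ∈ S
  rw [f23_word]
  exact S.mul_mem (S.mul_mem h1 h2) h1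

end Ctx

end CfsgLib.ThreeLocalSymEight
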