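import Cfsg.Agent.ThreeLocalSymEight.ExcInner
import Cfsg.Agent.ThreeLocalSymEight.Six
import Cfsg.Agent.Comp.Layer
import Mathlib.GroupTheory.SpecificGroups.Alternating.Simple

/-!
The exceptional configuration: the two copies of `Alt(5)` generate the minimal normal subgroup.
-/

set_option autoImplicit false
set_option maxRecDepth 100000
set_option maxHeartbeats 400000

namespace CfsgLib.ThreeLocalSymEight

open Subgroup Equiv Equiv.Perm
open CfsgLib.ThreeLocalEight (c3 t3 c5)

universe u

theorem alt5_centre_free : ∀ p : Perm (Fin 5), Perm.sign p = 1 → p ≠ 1 →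
    p * c5 * p⁻¹ * c5⁻¹ ≠ 1 ∨ p * mV5 * p⁻¹ * mV5⁻¹ ≠ 1 := by decide +kernel

theorem c5_mV5_ne : c5 * mV5 ≠ mV5 * c5 := by decide +kernel

namespace Ctx

variable {G : Type u} [Group G] [Finite G] {C : Ctx G}

theorem exists_inner (hN : C.NCase) {M : Subgroup G} (hMn : M.Normal) (hM : M.index = 2)
    (hT : C.β eT ∉ M) (hg : C.g ∈ M) : ∃ I : Inner C hN, I.L.index = 4 := by
  obtain ⟨L, hLM, hrel, hgL, hle, hconj, hodd⟩ := second_transfer hN hMn hM hT hg
  refine ⟨⟨L, hgL, fun h => hT (hLM h), hconj C.g hg, hle, hodd, ?_⟩, ?_⟩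
  · intro x hxL hxB
    obtain ⟨p, q, f, hp, hq, rfl⟩ := (mem_mid hN).1 (mem_mid_of_mem hN hM hT hg hxB (hLM hxL))
    rcases fin2_or f with rfl | rfl
    · simpa using pair_mem hN hp hq
    · exfalso
      have h := mul_mem (inv_mem (hle (pair_mem hN hp hq))) hxL
      rw [inv_mul_cancel_left] at h
      simp only [Fin.val_one, pow_one] at h
      exact hgL h
  · show L.index = 4
    rw [← relIndex_mul_index hLM, hrel, hM]

theorem big_eq_top (hN : C.NCase) (h4 : (C.pairs hN).index = 4) : C.big hN = ⊤ := by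
  have h : (C.pairs hN).relIndex (C.big hN) = 4 := by
    rw [← relIndex_mul_relIndex _ _ _ (show C.pairs hN ≤ C.mid hN from le_sup_left) (mid_le hN),
      pairs_relIndex hN, mid_relIndex hN]
  have h' := relIndex_mul_index (pairs_le hN)
  rw [h, h4] at h'
  exact index_eq_one.1 (by omega)

/-- The isomorphism with `Alt(5) × Alt(5)`. -/
theorem pairs_equiv (hN : C.NCase) :
    Nonempty (C.pairs hN ≃* alternatingGroup (Fin 5) × alternatingGroup (Fin 5)) := by
  let f : alternatingGroup (Fin 5) × alternatingGroup (Fin 5) →* C.pairs hN :=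
    { toFun := fun q => ⟨C.γ q.1 * C.bp q.2, pair_mem hN q.1.2 q.2.2⟩
      map_one' := Subtype.ext (by simp)
      map_mul' := fun q r => Subtype.ext (pair_mul hN q.2.2 r.1.2).symm }
  refine ⟨(MulEquiv.ofBijective f ⟨?_, ?_⟩).symm⟩
  · intro q r h
    obtain ⟨h1, h2⟩ := pair_inj hN q.1.2 q.2.2 r.1.2 r.2.2 (congrArg Subtype.val h :)
    exact Prod.ext (Subtype.ext h1) (Subtype.ext h2)
  · rintro ⟨x, p, q, hp, hq, rfl⟩
    exact ⟨(⟨p, mem_alternatingGroup.2 hp⟩, ⟨q, mem_alternatingGroup.2 hq⟩), rfl⟩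

/-- A nontrivial normal subgroup inside the product is all of it. -/
theorem pairs_minimal (hN : C.NCase) (K : Subgroup G) (hK : K.Normal) (hle : K ≤ C.pairs hN) :
    K = ⊥ ∨ K = C.pairs hN := by
  rcases K.bot_or_exists_ne_one with h | ⟨x, hxK, hx1⟩
  · exact Or.inl h
  refine Or.inr (le_antisymm hle ?_)
  obtain ⟨p, q, hp, hq, rfl⟩ := hle hxK
  -- the first coordinate may be taken nontrivial
  obtain ⟨p', q', hp', hq', hne, hmem⟩ : ∃ p' q' : Perm (Fin 5), Perm.sign p' = 1 ∧
      Perm.sign q' = 1 ∧ p' ≠ 1 ∧ C.γ p' * C.bp q' ∈ K := by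
    by_cases h1 : p = 1
    · refine ⟨q, p, hq, hp, fun h2 => hx1 (by rw [h1, h2, map_one, map_one, mul_one]), ?_⟩
      have := hK.conj_mem _ hxK C.g
      rwa [g_pair hN hp hq, mul_inv_cancel_right] at this
    · exact ⟨p, q, hp, hq, h1, hxK⟩
  have key : ∀ r : Perm (Fin 5), Perm.sign r = 1 → C.γ (p' * r * p'⁻¹ * r⁻¹) ∈ K := by
    intro r hr
    have h1 : C.γ p' * C.bp q' * C.γ r * (C.γ p' * C.bp q')⁻¹ * (C.γ r)⁻¹ ∈ K := by
      have := mul_mem hmem (hK.conj_mem _ (inv_mem hmem) (C.γ r))
      simpa [mul_assoc] using this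
    have h2 := pair_conj hN hp' hq' hr (map_one (Perm.sign : Perm (Fin 5) →* ℤˣ))
    rw [map_one C.bp, mul_one (C.γ r), mul_one q', mul_inv_cancel, map_one C.bp, mul_one] at h2
    rw [h2, ← map_inv, ← map_mul] at h1
    exact h1
  haveI := hK
  haveI hSn : ((K.comap C.γ).subgroupOf (alternatingGroup (Fin 5))).Normal :=
    (Normal.comap hK C.γ).subgroupOf _
  have hall : alternatingGroup (Fin 5) ≤ K.comap C.γ := by
    rw [← subgroupOf_eq_top]
    refine (Normal.eq_bot_or_eq_top hSn).resolve_left fun hb => ?_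
    have hs : ∀ r : Perm (Fin 5), Perm.sign r = 1 → p' * r * p'⁻¹ * r⁻¹ = 1 := by
      intro r hr
      have hm : p' * r * p'⁻¹ * r⁻¹ ∈ alternatingGroup (Fin 5) := mem_alternatingGroup.2 (by
        simp [hp', hr])
      have h0 : (⟨_, hm⟩ : alternatingGroup (Fin 5)) ∈
          (K.comap C.γ).subgroupOf (alternatingGroup (Fin 5)) := mem_subgroupOf.2 (key r hr)
      rw [hb, mem_bot] at h0
      exact congrArg Subtype.val h0
    rcases alt5_centre_free p' hp' hne with h' | h'
    · exact h' (hs c5 (by decide +kernel))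
    · exact h' (hs mV5 (by decide +kernel))
  rintro _ ⟨a, b, ha, hb, rfl⟩
  refine mul_mem (hall (mem_alternatingGroup.2 ha)) ?_
  have := hK.conj_mem _ (hall (mem_alternatingGroup.2 hb)) C.g
  rwa [C.g_γ] at this

theorem exceptional_of (hN : C.NCase) {M : Subgroup G} (hMn : M.Normal) (hM : M.index = 2)
    (hT : C.β eT ∉ M) (hg : C.g ∈ M) :
    ∃ N : Subgroup G, N.Normal ∧ Cfsg.generalizedFittingSubgroup G = N ∧
      Nonempty (N ≃* alternatingGroup (Fin 5) × alternatingGroup (Fin 5)) ∧
      (∀ K : Subgroup G, K.Normal → K ≤ N → K = ⊥ ∨ K = N) ∧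
      N.index = 4 ∧ ∀ g : G, g ^ 2 ∈ N := by
  obtain ⟨I, hI⟩ := exists_inner hN hMn hM hT hg
  rw [inner_eq I] at hI
  have htop := big_eq_top hN hI
  have hmem : ∀ x : G, x ∈ C.big hN := fun x => htop ▸ mem_top x
  haveI hn : (C.pairs hN).Normal := ⟨fun n hn w => big_normalizes hN (hmem w) hn⟩
  have hmin := pairs_minimal hN
  refine ⟨C.pairs hN, hn, ?_, pairs_equiv hN, hmin, hI, ?_⟩
  · have hcent : centralizer (C.pairs hN : Set G) = ⊥ := by
      rw [eq_bot_iff]
      intro x hx
      exact mem_bot.2 (cent_pairs hN fun n hn => (mem_centralizer_iff.1 hx n hn).symm)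
    have hF : Cfsg.fittingSubgroup G ≤ C.pairs hN := by
      rcases hmin (Cfsg.fittingSubgroup G ⊓ C.pairs hN) inferInstance inf_le_right with h | h
      · intro f hf
        have h1 : f = 1 := cent_pairs hN fun n hn' =>
          Subgroup.commute_of_normal_of_disjoint _ _ CfsgLib.Comp.fitting_normal hn
            (disjoint_iff.2 h) f n hf hn'
        rw [h1]; exact one_mem _
      · exfalso
        have hle : C.pairs hN ≤ Cfsg.fittingSubgroup G := h ▸ inf_le_left
        haveI := CfsgLib.Comp.fitting_isSolvable (G := G)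
        let f : alternatingGroup (Fin 5) →* Cfsg.fittingSubgroup G :=
          (C.γ.comp (alternatingGroup (Fin 5)).subtype).codRestrict _
            fun p => hle (γ_mem hN p.2)
        haveI : Group.IsSolvable (alternatingGroup (Fin 5)) :=
          Group.isSolvable_of_isSolvable_injective (f := f) fun a b e =>
            Subtype.ext (C.γ_inj (congrArg Subtype.val e :))
        have := IsSimpleGroup.comm_iff_isSolvable.2
          (inferInstance : Group.IsSolvable (alternatingGroup (Fin 5)))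
          ⟨c5, mem_alternatingGroup.2 (by decide +kernel)⟩
          ⟨mV5, mem_alternatingGroup.2 (by decide +kernel)⟩
        exact c5_mV5_ne (congrArg Subtype.val this :)
    have hle : Cfsg.generalizedFittingSubgroup G ≤ C.pairs hN :=
      CfsgLib.Comp.Fstar_le_of_self_centralizing _ hF (hcent ▸ bot_le)
    rcases hmin _ inferInstance hle with h | h
    · exfalso
      have h' := CfsgLib.Comp.centralizer_Fstar_le (G := G)
      rw [h] at h'
      have hx : C.β eT ∈ centralizer ((⊥ : Subgroup G) : Set G) := by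
        rw [mem_centralizer_iff]
        intro n hn'
        rw [SetLike.mem_coe, mem_bot] at hn'
        rw [hn', one_mul, mul_one]
      exact T_not_pairs hN (by rw [mem_bot.1 (h' hx)]; exact one_mem _)
    · exact h
  · intro x
    obtain ⟨p, q, e, f, hp, hq, rfl⟩ := hmem x
    set w := C.β eT ^ e.val * C.g ^ f.val
    set n := C.γ p * C.bp q
    have hw2 : w * w = 1 := by
      simp only [w]
      rw [coset_mul]
      rcases fin2_or e with rfl | rfl <;> rcases fin2_or f with rfl | rfl <;> simp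
    have h : (n * w) ^ 2 = n * (w * n * w⁻¹) := by
      rw [inv_eq_of_mul_eq_one_right hw2, sq]; group
    rw [h]
    exact mul_mem (pair_mem hN hp hq) (hn.conj_mem _ (pair_mem hN hp hq) w)

/-- The exceptional configuration. -/
theorem exceptional (C : Ctx G) (hN : C.NCase) :
    ∃ N : Subgroup G, N.Normal ∧ Cfsg.generalizedFittingSubgroup G = N ∧
      Nonempty (N ≃* alternatingGroup (Fin 5) × alternatingGroup (Fin 5)) ∧
      (∀ K : Subgroup G, K.Normal → K ≤ N → K = ⊥ ∨ K = N) ∧
      N.index = 4 ∧ ∀ g : G, g ^ 2 ∈ N := by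
  obtain ⟨M, hMn, hM, hT⟩ := first_transfer hN
  by_cases hg : C.g ∈ M
  · exact exceptional_of hN hMn hM hT hg
  · refine exceptional_of (C := C.shift) (nCase_shift hN) hMn hM hT ?_
    show C.g * C.β eT ∈ M
    exact (mul_mem_iff_of_index_two hM).2 (iff_of_false hg hT)

end Ctx

end CfsgLib.ThreeLocalSymEight
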