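import Cfsg.Agent.ThreeLocalSymEight.Local
import Mathlib.GroupTheory.SpecificGroups.Alternating
import Mathlib.GroupTheory.SpecificGroups.Alternating.Simple

/-!
The case in which the centralizer of `τ` normalises the Sylow 3-subgroup: the two copies of
`Alt(5)` commute.
-/

set_option autoImplicit false
set_option maxRecDepth 100000

namespace CfsgLib.ThreeLocalSymEight

open Subgroup Equiv Equiv.Perm
open CfsgLib.ThreeLocalEight (c3 t3 c5)

universe u

/-- the double transposition centralising `s5` and `t5` -/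
def u5 : Perm (Fin 5) := s5 * t5
/-- a double transposition exchanging `s5` and `t5` -/
def v5 : Perm (Fin 5) := swap 0 3 * swap 1 4

/-- A subgroup of `Sym(5)` with the given elements contains `Alt(5)`. -/
theorem even_mem (S : Subgroup (Perm (Fin 5))) (h3 : c5 ∈ S) (h2 : u5 ∈ S) {q : Perm (Fin 5)}
    (hq : q ∈ S) (hs : Perm.sign q = 1) (h5 : q ^ 5 = 1) (hq1 : q ≠ 1) {p : Perm (Fin 5)}
    (hp : Perm.sign p = 1) : p ∈ S := by
  let A := alternatingGroup (Fin 5)
  let T : Subgroup A := S.subgroupOf A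
  suffices hT : T = ⊤ by
    exact mem_subgroupOf.1 (show (⟨p, mem_alternatingGroup.2 hp⟩ : A) ∈ T from hT ▸ mem_top _)
  have hA : Nat.card A = 60 := by rw [nat_card_alternatingGroup, Nat.card_fin]; rfl
  have hord : ∀ (x : Perm (Fin 5)) (hx : Perm.sign x = 1) (n : ℕ), Nat.Prime n → x ∈ S → x ^ n = 1 →
      x ≠ 1 → n ∣ Nat.card T := by
    intro x hx n hn hxS hxn hx1
    haveI := Fact.mk hn
    have h : (⟨x, mem_alternatingGroup.2 hx⟩ : A) ∈ T := mem_subgroupOf.2 hxS
    have := Subgroup.orderOf_dvd_natCard T h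
    rwa [Subgroup.orderOf_mk, orderOf_eq_prime hxn hx1] at this
  have d2 := hord u5 (by decide +kernel) 2 Nat.prime_two h2 (by decide +kernel) (by decide +kernel)
  have d3 := hord c5 (by decide +kernel) 3 Nat.prime_three h3 (by decide +kernel) (by decide +kernel)
  have d5 := hord q hs 5 Nat.prime_five hq h5 hq1
  have hdvd : 30 ∣ Nat.card T :=
    Nat.Coprime.mul_dvd_of_dvd_of_dvd (show Nat.Coprime 6 5 by norm_num)
      (Nat.Coprime.mul_dvd_of_dvd_of_dvd (show Nat.Coprime 2 3 by norm_num) d2 d3) d5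
  have hle : Nat.card T ∣ 60 := hA ▸ Subgroup.card_subgroup_dvd_card T
  have hpos : 0 < Nat.card T := Nat.card_pos
  obtain ⟨k, hk⟩ := hdvd
  have hk2 : k = 1 ∨ k = 2 := by
    have := Nat.le_of_dvd (by norm_num) hle
    omega
  rcases hk2 with rfl | rfl
  · have hi : T.index = 2 := by
      have := Subgroup.card_mul_index T
      rw [hA, hk] at this
      omega
    haveI := normal_of_index_eq_two hi
    haveI := alternatingGroup.isSimpleGroup (α := Fin 5) (by simp)
    rcases (show T.Normal from inferInstance).eq_bot_or_eq_top with h | h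
    · rw [h, Subgroup.card_bot] at hk; omega
    · exact h
  · exact eq_top_of_card_eq _ (by rw [hk, hA])

theorem ac_inv : ∀ i j : Fin 3, ((t3, s5) : P35) * dd i j = (dd i j)⁻¹ * (t3, s5) := by decide +kernel

theorem four_inv : ∀ i j k : Fin 2,
    ((t3 ^ i.val, s5 ^ j.val * t5 ^ k.val) : P35)⁻¹ = (t3 ^ i.val, s5 ^ j.val * t5 ^ k.val) := by
  decide +kernel

theorem fin2_or : ∀ i : Fin 2, i = 0 ∨ i = 1 := by decide

theorem four_fixed : ∀ j k : Fin 2,
    v5 * (s5 ^ j.val * t5 ^ k.val) * v5⁻¹ = s5 ^ j.val * t5 ^ k.val →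
    s5 ^ j.val * t5 ^ k.val = u5 ^ j.val := by decide +kernel

namespace Ctx

variable {G : Type u} [Group G] (C : Ctx G)

/-- The centralizer of `τ` normalises `D`. -/
def NCase : Prop := ∀ x : G, x * C.β eT = C.β eT * x → C.NormD x

theorem twisted [Finite G] (hN : C.NCase) : C.tw = 1 := by
  by_contra htw
  have h0 : C.tw = 0 := by
    have k : ∀ e : Fin 2, e ≠ 1 → e = 0 := by decide
    exact k _ htw
  have hga : C.g * C.β eA * C.g⁻¹ = C.bp s5 := by rw [C.g_a, h0]; simp
  have hγs : C.γ s5 = C.β eA := by rw [← C.γ_a, h0]; simp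
  set k := C.bp v5 * C.g
  have hka : k * C.β eA * k⁻¹ = C.β eT := by
    rw [show k * C.β eA * k⁻¹ = C.bp v5 * (C.g * C.β eA * C.g⁻¹) * (C.bp v5)⁻¹ by simp only [k]; group,
      hga, ← map_inv, ← map_mul, ← map_mul, show v5 * s5 * v5⁻¹ = t5 by decide +kernel, C.bp_t5]
  set ac := C.β (t3, s5)
  have hku : k * C.bp u5 * k⁻¹ = ac := by
    rw [show k * C.bp u5 * k⁻¹ = C.bp v5 * (C.g * C.bp u5 * C.g⁻¹) * (C.bp v5)⁻¹ by simp only [k]; group,
      ← C.γ_apply, show u5 = s5 * t5 from rfl, map_mul, hγs, C.γ_t5, ← C.bp_t5, bp_apply, bp_apply,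
      ← map_inv, ← map_mul, ← map_mul, ← map_mul]
    exact congrArg C.β (by decide +kernel)
  set r5 : Perm (Fin 5) := swap 0 1 * swap 1 3
  obtain ⟨d, hd⟩ : ∃ d, d = k * C.bp r5 * k⁻¹ := ⟨_, rfl⟩
  have hdT : d * C.β eT = C.β eT * d := by
    rw [← hka, hd]
    calc k * C.bp r5 * k⁻¹ * (k * C.β eA * k⁻¹) = k * (C.bp r5 * C.β eA) * k⁻¹ := by group
      _ = k * (C.β eA * C.bp r5) * k⁻¹ := by rw [C.bp_comm_a]
      _ = k * C.β eA * k⁻¹ * (k * C.bp r5 * k⁻¹) := by group
  have hd3 : d ^ 3 = 1 := by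
    rw [hd, conj_pow, ← map_pow, show r5 ^ 3 = 1 by decide +kernel, map_one, mul_one, mul_inv_cancel]
  obtain ⟨i, j, hij⟩ := C.normD_three (hN d hdT) hd3
  have hinv : ac * d = d⁻¹ * ac := by
    rw [hij, ← map_inv, ← map_mul, ← map_mul]
    exact congrArg C.β (ac_inv i j)
  have hcomm : d * ac * d⁻¹ * ac = ac * (d * ac * d⁻¹) := by
    have e : C.bp r5 * C.bp u5 * (C.bp r5)⁻¹ * C.bp u5 =
        C.bp u5 * (C.bp r5 * C.bp u5 * (C.bp r5)⁻¹) := by
      rw [← map_inv, ← map_mul, ← map_mul, ← map_mul, ← map_mul]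
      exact congrArg C.bp (by decide +kernel)
    rw [← hku, hd]
    have e' := congrArg (fun w => k * w * k⁻¹) e
    convert e' using 1 <;> group
  have hdd : d = 1 := by
    have hac : ac * ac = 1 := by
      rw [← map_mul, show ((t3, s5) : P35) * (t3, s5) = 1 by decide +kernel, map_one]
    have h1 : d * ac * d⁻¹ = d * d * ac := by
      have e2 : ac * d⁻¹ = d * ac := by
        rw [mul_inv_eq_iff_eq_mul, mul_assoc, hinv, mul_inv_cancel_left]
      rw [mul_assoc, e2, mul_assoc]
    rw [h1] at hcomm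
    have h2 : d * d = ac * (d * d) * ac := by
      calc d * d = d * d * ac * ac := by rw [mul_assoc _ ac, hac, mul_one]
        _ = ac * (d * d * ac) := hcomm
        _ = ac * (d * d) * ac := by group
    have h3 : ac * (d * d) * ac = (d * d)⁻¹ := by
      calc ac * (d * d) * ac = (ac * d) * d * ac := by group
        _ = d⁻¹ * (ac * d) * ac := by conv_lhs => rw [hinv, mul_assoc d⁻¹ ac d]
        _ = d⁻¹ * d⁻¹ * (ac * ac) := by rw [hinv]; simp [mul_assoc]
        _ = (d * d)⁻¹ := by rw [hac, mul_one, mul_inv_rev]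
    rw [h3] at h2
    calc d = d * d ^ 3 := by rw [hd3, mul_one]
      _ = (d * d) * (d * d) := by simp [pow_succ, mul_assoc]
      _ = (d * d) * (d * d)⁻¹ := by rw [← h2]
      _ = 1 := mul_inv_cancel _
  rw [hd, conj_eq_one_iff, ← map_one C.bp] at hdd
  exact absurd (C.bp_inj hdd) (by decide +kernel)

theorem commute_of_nCase [Finite G] (hN : C.NCase) :
    ∀ p q : Perm (Fin 5), Perm.sign p = 1 → Perm.sign q = 1 → Commute (C.γ p) (C.bp q) := by
  have htw := C.twisted hN
  have hγu : C.γ u5 = C.β eA := by rw [← C.γ_a, htw]; simp [u5]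
  have hga : C.g * C.β eA * C.g⁻¹ = C.bp u5 := by rw [C.g_a, htw]; simp [u5]
  have huγ : ∀ p, Commute (C.γ p) (C.bp u5) := fun p => by
    have := C.γ_comm_u p
    rw [htw] at this
    simpa [u5, Commute, SemiconjBy] using this
  set a := C.β eA
  set v := C.bp v5
  set v' := C.γ v5
  set u := C.bp u5
  set T := C.β eT
  have hv2 : v * v = 1 := by rw [← map_mul, show v5 * v5 = 1 by decide +kernel, map_one]
  have hv'2 : v' * v' = 1 := by rw [← map_mul, show v5 * v5 = 1 by decide +kernel, map_one]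
  have hu2 : u * u = 1 := by rw [← map_mul, show u5 * u5 = 1 by decide +kernel, map_one]
  have ha2 : a * a = 1 := by rw [← map_mul, show eA * eA = 1 by decide +kernel, map_one]
  have hva : Commute v a := C.bp_comm_a v5
  have hvu : Commute v u := by
    show v * u = u * v
    rw [← map_mul, ← map_mul]; exact congrArg C.bp (by decide +kernel)
  have hv'a : Commute v' a := by
    rw [← hγu]
    show v' * C.γ u5 = C.γ u5 * v'
    rw [← map_mul, ← map_mul]; exact congrArg C.γ (by decide +kernel)
  have hv'u : Commute v' u := huγ v5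
  have hua : Commute u a := C.bp_comm_a u5
  have hvT : v * T * v = T * u := by
    simp only [T, v, u, ← C.bp_t5, ← map_mul]; exact congrArg C.bp (by decide +kernel)
  have hv'T : v' * T * v' = T * a := by
    simp only [T, v', ← C.γ_t5, ← hγu, ← map_mul]; exact congrArg C.γ (by decide +kernel)
  set x := v * v' * v * v' with hx
  have hxa : Commute x a := ((hva.mul_left hv'a).mul_left hva).mul_left hv'a
  have hxu : Commute x u := ((hvu.mul_left hv'u).mul_left hvu).mul_left hv'u
  have hxi : x⁻¹ = v' * v * v' * v := by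
    refine inv_eq_of_mul_eq_one_right ?_
    calc x * (v' * v * v' * v) = v * v' * v * (v' * v') * v * v' * v := by simp only [hx]; group
      _ = v * v' * (v * v) * v' * v := by rw [hv'2]; group
      _ = v * (v' * v') * v := by rw [hv2]; group
      _ = 1 := by rw [hv'2, mul_one, hv2]
  have hxT : x * T = T * x := by
    refine mul_inv_eq_iff_eq_mul.1 ?_
    rw [hxi]
    calc v * v' * v * v' * T * (v' * v * v' * v)
        = v * v' * (v * (v' * T * v') * v) * v' * v := by group
      _ = v * v' * (v * T * (a * v)) * v' * v := by rw [hv'T]; group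
      _ = v * v' * (v * T * v) * (a * v') * v := by rw [← hva.eq]; group
      _ = v * v' * T * (u * v') * (a * v) := by rw [hvT, ← hv'a.eq]; group
      _ = v * (v' * T * v') * u * v * a := by rw [← hv'u.eq, ← hva.eq]; group
      _ = v * T * (a * u) * v * a := by rw [hv'T]; group
      _ = v * T * v * (a * u) * a := by
        rw [mul_assoc (v * T), ← (hva.mul_right hvu).eq]; group
      _ = T * u * (u * a) * a := by rw [hvT, ← hua.eq]
      _ = T * (u * u) * (a * a) := by group
      _ = T := by rw [hu2, ha2, mul_one, mul_one]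
  obtain ⟨i, j, k, hijk⟩ := C.normD_four (hN x hxT) hxa.eq hxu.eq
  have hvx : v * x * v⁻¹ = x⁻¹ := by
    rw [hxi, inv_eq_of_mul_eq_one_right hv2, hx,
      show v * (v * v' * v * v') * v = (v * v) * v' * v * v' * v by group, hv2, one_mul]
  have hxx : x⁻¹ = x := by
    rw [hijk, ← map_inv]
    exact congrArg C.β (four_inv i j k)
  rw [hxx, hijk, show v = C.β (1, v5) from rfl, ← map_inv, ← map_mul, ← map_mul] at hvx
  have hxe : x = a ^ i.val * u ^ j.val := by
    rw [hijk, ← map_pow, ← map_pow, bp_apply, ← map_mul]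
    exact congrArg C.β (Prod.ext (by simp [eA]) (by
      simpa [eA] using four_fixed j k (congrArg Prod.snd (C.inj hvx))))
  -- the element acting trivially modulo `u`
  set w := v * T ^ i.val with hw
  have hTu : Commute T u := by
    show T * u = u * T
    simp only [T, u, ← C.bp_t5, ← map_mul]; exact congrArg C.bp (by decide +kernel)
  have hwu : Commute w u := hvu.mul_left (hTu.pow_left _)
  have hTa : Commute T a := by
    show T * a = a * T
    simp only [T, a, ← map_mul]; exact congrArg C.β (by decide +kernel)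
  have hwa : Commute w (C.γ u5) := by rw [hγu]; exact hva.mul_left (hTa.pow_left _)
  have hwZ : Commute w (C.γ c5) := by
    rw [C.γ_c5]
    refine Commute.mul_left (C.bp_comm_Z v5) (Commute.pow_left ?_ _)
    exact C.bp_comm_Z t5
  have hTv' : T * v' * T = v' * a := by
    calc T * v' * T = T * (v' * T * v') * v' := by
          rw [show T * (v' * T * v') * v' = T * v' * T * (v' * v') by group, hv'2, mul_one]
      _ = T * T * (a * v') := by rw [hv'T]; group
      _ = v' * a := by
        rw [← map_mul, show eT * eT = 1 by decide +kernel, map_one, one_mul, hv'a.eq]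
  have hwv : w * v' * w⁻¹ = u ^ j.val * v' := by
    have hvv : v * v' * v = x * v' := by rw [hx, mul_assoc (v * v' * v), hv'2, mul_one]
    have hT2 : T⁻¹ = T := inv_eq_of_mul_eq_one_right (by
      rw [← map_mul, show eT * eT = 1 by decide +kernel, map_one])
    rcases fin2_or i with hi | hi <;> subst hi
    · simp only [hw, Fin.val_zero, pow_zero, mul_one]
      rw [inv_eq_of_mul_eq_one_right hv2, hvv, hxe]
      simp
    · simp only [hw, Fin.val_one, pow_one]
      rw [show v * T * v' * (v * T)⁻¹ = v * (T * v' * T⁻¹) * v⁻¹ by group, hT2, hTv',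
        inv_eq_of_mul_eq_one_right hv2, show v * (v' * a) * v = v * v' * (a * v) by group,
        ← hva.eq, ← mul_assoc, hvv, hxe, mul_assoc _ v' a, hv'a.eq, Fin.val_one, pow_one,
        show a * u ^ j.val * (a * v') = a * (u ^ j.val * a) * v' by group, (hua.pow_left _).eq,
        ← mul_assoc a, ha2, one_mul]
  -- the elements of `B` centralised modulo `u`
  let S : Subgroup (Perm (Fin 5)) :=
    { carrier := {p | ∃ e : ℕ, w * C.γ p * w⁻¹ = u ^ e * C.γ p}
      one_mem' := ⟨0, by simp⟩
      mul_mem' := by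
        rintro p q ⟨e, he⟩ ⟨f, hf⟩
        refine ⟨e + f, ?_⟩
        rw [map_mul, show w * (C.γ p * C.γ q) * w⁻¹ = (w * C.γ p * w⁻¹) * (w * C.γ q * w⁻¹) by group,
          he, hf, pow_add, show u ^ e * C.γ p * (u ^ f * C.γ q) =
            u ^ e * (C.γ p * u ^ f) * C.γ q by group, ((huγ p).pow_right f).eq]
        group
      inv_mem' := by
        rintro p ⟨e, he⟩
        refine ⟨e, ?_⟩
        have hui : (u ^ e)⁻¹ = u ^ e := inv_eq_of_mul_eq_one_right (by
          rw [← (Commute.refl u).mul_pow, hu2, one_pow])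
        rw [map_inv, show w * (C.γ p)⁻¹ * w⁻¹ = (w * C.γ p * w⁻¹)⁻¹ by group, he, mul_inv_rev, hui]
        exact ((huγ p).inv_left.pow_right e).eq }
  have hS2 : u5 ∈ S := ⟨0, by rw [pow_zero, one_mul, hwa.eq, mul_inv_cancel_right]⟩
  have hS3 : c5 ∈ S := ⟨0, by rw [pow_zero, one_mul, hwZ.eq, mul_inv_cancel_right]⟩
  have hS5 : c5 * v5 ∈ S := S.mul_mem hS3 ⟨j.val, hwv⟩
  obtain ⟨e5, he5⟩ := hS5
  have hfix5 : Commute w (C.γ (c5 * v5)) := by
    have h5 : (c5 * v5) ^ 5 = 1 := by decide +kernel
    have e1 : (w * C.γ (c5 * v5) * w⁻¹) ^ 5 = (u ^ e5 * C.γ (c5 * v5)) ^ 5 := by rw [he5]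
    rw [conj_pow, ← map_pow, h5, map_one, mul_one, mul_inv_cancel,
      ((huγ (c5 * v5)).pow_right e5).symm.mul_pow, ← map_pow C.γ, h5, map_one, mul_one, ← pow_mul] at e1
    have hue : u ^ e5 = 1 := by
      calc u ^ e5 = u ^ e5 * (u * u) ^ (e5 * 2) := by rw [hu2, one_pow, mul_one]
        _ = u ^ (e5 * 5) := by rw [← sq, ← pow_mul, ← pow_add]; congr 1; ring
        _ = 1 := e1.symm
    rw [hue, one_mul] at he5
    exact mul_inv_eq_iff_eq_mul.1 he5
  let S1 : Subgroup (Perm (Fin 5)) :=
    (centralizer ({w} : Set G)).comap C.γ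
  have hall : ∀ p : Perm (Fin 5), Perm.sign p = 1 → Commute w (C.γ p) := by
    intro p hp
    have hmem : ∀ {q}, Commute w (C.γ q) → q ∈ S1 := fun h =>
      mem_centralizer_singleton_iff.2 h.symm.eq
    have := even_mem S1 (hmem hwZ) (hmem hwa) (hmem hfix5) (by decide +kernel) (by decide +kernel)
      (by decide +kernel) hp
    exact (mem_centralizer_singleton_iff.1 this).symm
  -- the centralizer of `B` contains `A`
  let S2 : Subgroup (Perm (Fin 5)) :=
    { carrier := {q | ∀ p, Perm.sign p = 1 → Commute (C.γ p) (C.bp q)}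
      one_mem' := fun p _ => by simp
      mul_mem' := fun ha hb p hp => by rw [map_mul]; exact (ha p hp).mul_right (hb p hp)
      inv_mem' := fun ha p hp => by rw [map_inv]; exact (ha p hp).inv_right }
  have h2u : u5 ∈ S2 := fun p _ => huγ p
  have h2c : c5 ∈ S2 := fun p _ => C.γ_comm_Z' p
  have h2w : v5 * t5 ^ i.val ∈ S2 := fun p hp => by
    rw [map_mul, map_pow, C.bp_t5]
    exact (hall p hp).symm
  intro p q hp hq
  rcases fin2_or i with hi | hi <;> subst hi
  · simp only [Fin.val_zero, pow_zero, mul_one] at h2w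
    exact even_mem S2 h2c h2u (S2.mul_mem h2c h2w) (by decide +kernel) (by decide +kernel)
      (by decide +kernel) hq p hp
  · exfalso
    simp only [Fin.val_one, pow_one] at h2w
    have hv5 : v5 ∈ S2 := even_mem S2 h2c h2u
      (S2.mul_mem h2c (S2.mul_mem (S2.mul_mem h2w h2c) (S2.inv_mem h2w))) (by decide +kernel)
      (by decide +kernel) (by decide +kernel) (by decide +kernel)
    have ht : t5 ∈ S2 := by
      have := S2.mul_mem (S2.inv_mem hv5) h2w
      rwa [inv_mul_cancel_left] at this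
    have h := ht v5 (by decide +kernel)
    rw [C.bp_t5, ← C.γ_t5] at h
    have h' : v5 * t5 = t5 * v5 := C.γ_inj (by rw [map_mul, map_mul]; exact h.eq)
    exact absurd h' (by decide +kernel)

end Ctx

end CfsgLib.ThreeLocalSymEight
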