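import Mathlib.GroupTheory.SpecificGroups.Alternating
import Mathlib.GroupTheory.SpecificGroups.Alternating.Simple
import Mathlib.GroupTheory.GroupAction.Quotient
import Mathlib.GroupTheory.PGroup
import Mathlib.Tactic
import Cfsg.Agent.ThreeLocalSymEight.Normal

/-!
Generation of `Alt(5)`, and normal subgroups of order prime to 3 of the small quotients.
-/

set_option autoImplicit false
set_option maxRecDepth 100000

namespace CfsgLib.ThreeLocalSymEight

open Subgroup Equiv Equiv.Perm
open CfsgLib.ThreeLocalEight (c3 t3 c5)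

/-- A subgroup of `Sym(5)` with elements of order 3 and 5 contains `Alt(5)`. -/
theorem even_mem_of_fifteen (S : Subgroup (Perm (Fin 5))) (h3 : c5 ∈ S) {q : Perm (Fin 5)}
    (hq : q ∈ S) (h5 : q ^ 5 = 1) (hq1 : q ≠ 1) {p : Perm (Fin 5)} (hp : Perm.sign p = 1) :
    p ∈ S := by
  let A := alternatingGroup (Fin 5)
  let T : Subgroup A := S.subgroupOf A
  suffices hT : T = ⊤ by
    exact mem_subgroupOf.1 (show (⟨p, mem_alternatingGroup.2 hp⟩ : A) ∈ T from hT ▸ mem_top _)
  haveI := alternatingGroup.isSimpleGroup (α := Fin 5) (by simp)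
  have hA : Nat.card A = 60 := by rw [nat_card_alternatingGroup, Nat.card_fin]; rfl
  have hsign : ∀ q : Perm (Fin 5), q ^ 5 = 1 → Perm.sign q = 1 := by decide +kernel
  have hord : ∀ (x : Perm (Fin 5)) (hx : Perm.sign x = 1) (n : ℕ), Nat.Prime n → x ∈ S → x ^ n = 1 →
      x ≠ 1 → n ∣ Nat.card T := by
    intro x hx n hn hxS hxn hx1
    haveI := Fact.mk hn
    have h : (⟨x, mem_alternatingGroup.2 hx⟩ : A) ∈ T := mem_subgroupOf.2 hxS
    have := Subgroup.orderOf_dvd_natCard T h
    rwa [Subgroup.orderOf_mk, orderOf_eq_prime hxn hx1] at this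
  have d3 := hord c5 (by decide +kernel) 3 Nat.prime_three h3 (by decide +kernel) (by decide +kernel)
  have d5 := hord q (hsign q h5) 5 Nat.prime_five hq h5 hq1
  have hdvd : 15 ∣ Nat.card T :=
    Nat.Coprime.mul_dvd_of_dvd_of_dvd (show Nat.Coprime 3 5 by norm_num) d3 d5
  have hi : T.index ≤ 4 := by
    have := Subgroup.card_mul_index T
    rw [hA] at this
    obtain ⟨k, hk⟩ := hdvd
    rw [hk] at this
    exact Nat.le_of_dvd (by norm_num) (show T.index ∣ 4 from ⟨k, by linarith⟩)
  rcases (show T.normalCore.Normal from inferInstance).eq_bot_or_eq_top with h | h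
  · exfalso
    have hinj : Function.Injective (MulAction.toPermHom A (A ⧸ T)) := by
      rw [← MonoidHom.ker_eq_bot_iff, ← Subgroup.normalCore_eq_ker, h]
    have hle := Nat.card_le_card_of_injective _ hinj
    rw [hA, Nat.card_perm, ← Subgroup.index_eq_card] at hle
    have := hle.trans (Nat.factorial_le hi)
    norm_num [Nat.factorial] at this
  · exact top_le_iff.1 (h ▸ T.normalCore_le)

/-- A nontrivial subgroup of `Sym(5)` of even permutations normalised by `Alt(5)` contains it. -/
theorem even_mem_of_normal (S : Subgroup (Perm (Fin 5)))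
    (hn : ∀ p, Perm.sign p = 1 → ∀ t ∈ S, p * t * p⁻¹ ∈ S)
    {t : Perm (Fin 5)} (ht : t ∈ S) (hts : Perm.sign t = 1) (ht1 : t ≠ 1) {p : Perm (Fin 5)}
    (hp : Perm.sign p = 1) : p ∈ S := by
  let A := alternatingGroup (Fin 5)
  let T : Subgroup A := S.subgroupOf A
  haveI : T.Normal := ⟨fun n hn' g => mem_subgroupOf.2
    (hn _ (mem_alternatingGroup.1 g.2) _ (mem_subgroupOf.1 hn'))⟩
  haveI := alternatingGroup.isSimpleGroup (α := Fin 5) (by simp)
  rcases (show T.Normal from inferInstance).eq_bot_or_eq_top with h | h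
  · have : (⟨t, mem_alternatingGroup.2 hts⟩ : A) ∈ T := mem_subgroupOf.2 ht
    rw [h, mem_bot] at this
    exact absurd (congrArg Subtype.val this) ht1
  · exact mem_subgroupOf.1 (show (⟨p, mem_alternatingGroup.2 hp⟩ : A) ∈ T from h ▸ mem_top _)

/-- A normal subgroup of order prime to 3 lies in the kernel of a map onto a group without such
subgroups. -/
theorem le_ker_of_normal {H K : Type*} [Group H] [Finite H] [Group K] (f : H →* K)
    (hf : Function.Surjective f) (N : Subgroup H) [hN : N.Normal] (h3 : (Nat.card N).Coprime 3)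
    (hK : ∀ M : Subgroup K, M.Normal → (Nat.card M).Coprime 3 → M = ⊥) : N ≤ f.ker := by
  have h := hK (N.map f) (hN.map f hf) (h3.coprime_dvd_left (Subgroup.card_map_dvd N f))
  intro x hx
  have : f x ∈ N.map f := mem_map_of_mem f hx
  rw [h, mem_bot] at this
  exact this

theorem normal_coprime_three {K : Type*} [Group K] [Finite K] (h : Nat.card K = 3)
    (M : Subgroup K) (hM : (Nat.card M).Coprime 3) : M = ⊥ :=
  eq_bot_of_card_eq _ (Nat.eq_one_of_dvd_coprimes hM dvd_rfl (h ▸ M.card_subgroup_dvd_card))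

theorem normal_coprime_perm3 (M : Subgroup (Perm (Fin 3))) (hn : M.Normal)
    (hM : (Nat.card M).Coprime 3) : M = ⊥ := by
  have h6 : Nat.card M ∣ 2 := by
    have h := M.card_subgroup_dvd_card
    rw [Nat.card_perm, Nat.card_fin, show Nat.factorial 3 = 2 * 3 from rfl] at h
    exact hM.dvd_of_dvd_mul_right h
  rw [eq_bot_iff]
  intro x hx
  have hx2 : x ^ 2 = 1 := orderOf_dvd_iff_pow_eq_one.1 ((M.orderOf_dvd_natCard hx).trans h6)
  have hcube : ∀ w : Perm (Fin 3), w ∈ M → w ^ 3 = 1 → w = 1 := fun w hw h =>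
    orderOf_eq_one_iff.1 (Nat.eq_one_of_dvd_coprimes hM (M.orderOf_dvd_natCard hw)
      (orderOf_dvd_of_pow_eq_one h))
  have hk : ∀ w : Perm (Fin 3), w ^ 2 = 1 → w = 1 ∨ (c3 * w * c3⁻¹ * w⁻¹) ^ 3 = 1 ∧
      c3 * w * c3⁻¹ * w⁻¹ ≠ 1 := by decide
  rcases hk x hx2 with h | ⟨h, h'⟩
  · exact mem_bot.2 h
  · exact absurd (hcube _ (mul_mem (hn.conj_mem _ hx c3) (inv_mem hx)) h) h'

theorem normal_coprime_alt5 (M : Subgroup (alternatingGroup (Fin 5))) (hn : M.Normal)
    (hM : (Nat.card M).Coprime 3) : M = ⊥ := by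
  haveI := alternatingGroup.isSimpleGroup (α := Fin 5) (by simp)
  rcases hn.eq_bot_or_eq_top with h | h
  · exact h
  · rw [h, Subgroup.card_top, nat_card_alternatingGroup, Nat.card_fin] at hM
    exact absurd hM (by decide +kernel)

theorem equiv_bot {K L : Type*} [Group K] [Group L] (e : K ≃* L)
    (hL : ∀ M : Subgroup L, M.Normal → (Nat.card M).Coprime 3 → M = ⊥) (M : Subgroup K)
    (hn : M.Normal) (hM : (Nat.card M).Coprime 3) : M = ⊥ := by
  have h := hL (M.map e.toMonoidHom) (hn.map _ e.surjective)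
    (by rwa [Subgroup.card_map_of_injective e.injective])
  exact (Subgroup.map_eq_bot_iff_of_injective _ e.injective).1 h

end CfsgLib.ThreeLocalSymEight
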