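import Cfsg.Agent.ThreeLocalSymEight.Kt
import Cfsg.Agent.ThreeLocalSymEight.Top
import Cfsg.Agent.ThreeLocalEight.Finish
import Cfsg.Agent.Solvable.CoprimeAbelian

/-!
The centralizer of the four-group fixing 3, when the centralizer of `τ` modulo `τ` is `Sym(6)`:
it contains a transposition of the second copy of `Sym(5)`, and the twist is trivial.
-/

set_option autoImplicit false
set_option maxRecDepth 100000

namespace CfsgLib.ThreeLocalSymEight

open Subgroup Equiv Equiv.Perm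
open CfsgLib.ThreeLocalEight (c3 t3 c5 gam fin3_ne zpowers_three card_centralizer_conj
  centralizer_inv_singleton mem_normalizer_zpowers_of conj_mem_zpowers invariant_pick even_order
  card_psl_two_seven)

universe u

/-- The four-group fixing 3. -/
def K4 : Subgroup (Perm (Fin 5)) where
  carrier := {p | ∃ i j : Fin 2, p = mV5 ^ i.val * mW5 ^ j.val}
  one_mem' := ⟨0, 0, by decide +kernel⟩
  mul_mem' := by
    rintro _ _ ⟨i, j, rfl⟩ ⟨i', j', rfl⟩
    have k : ∀ i j i' j' : Fin 2, mV5 ^ i.val * mW5 ^ j.val * (mV5 ^ i'.val * mW5 ^ j'.val) =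
        mV5 ^ (i + i').val * mW5 ^ (j + j').val := by decide +kernel
    exact ⟨_, _, k i j i' j'⟩
  inv_mem' := by
    rintro _ ⟨i, j, rfl⟩
    have k : ∀ i j : Fin 2, (mV5 ^ i.val * mW5 ^ j.val)⁻¹ = mV5 ^ i.val * mW5 ^ j.val := by
      decide +kernel
    exact ⟨i, j, k i j⟩

theorem K4_cent : ∀ p : Perm (Fin 5), p * mV5 = mV5 * p ∧ p * mW5 = mW5 * p →
    ∃ i j : Fin 2, p = mV5 ^ i.val * mW5 ^ j.val := by decide +kernel

theorem card_K4 : Nat.card K4 = 4 := by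
  have hinj : ∀ a b : Fin 2 × Fin 2,
      mV5 ^ a.1.val * mW5 ^ a.2.val = mV5 ^ b.1.val * mW5 ^ b.2.val → a = b := by decide +kernel
  rw [Nat.card_congr (Equiv.ofBijective
    (fun a : Fin 2 × Fin 2 => (⟨_, a.1, a.2, rfl⟩ : K4))
    ⟨fun a b h => hinj a b (congrArg Subtype.val h), fun ⟨p, i, j, hp⟩ =>
      ⟨(i, j), Subtype.ext hp.symm⟩⟩).symm]
  simp

theorem K4_exp {p : Perm (Fin 5)} (hp : p ∈ K4) : p * p = 1 := by
  obtain ⟨i, j, rfl⟩ := hp
  revert i j; decide +kernel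

theorem K4_sign {p : Perm (Fin 5)} (hp : p ∈ K4) : Perm.sign p = 1 := by
  obtain ⟨i, j, rfl⟩ := hp
  revert i j; decide +kernel

theorem K4_conj_c5 {p : Perm (Fin 5)} (hp : p ∈ K4) (b : Fin 3) :
    c5 ^ b.val * p * (c5 ^ b.val)⁻¹ ∈ K4 := by
  obtain ⟨i, j, rfl⟩ := hp
  have k : ∀ b : Fin 3, ∀ i j : Fin 2, ∃ i' j' : Fin 2,
      c5 ^ b.val * (mV5 ^ i.val * mW5 ^ j.val) * (c5 ^ b.val)⁻¹ = mV5 ^ i'.val * mW5 ^ j'.val := by
    decide +kernel
  exact k b i j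

theorem snd_of_gam : ∀ k : Fin 2, (gam (![3, 4] k) * u5 * c5) ^ 5 = 1 ∧
    gam (![3, 4] k) * u5 * c5 ≠ 1 := by decide +kernel

theorem five_in_A5 : Nat.card {p : alternatingGroup (Fin 5) // p ^ 5 = 1 ∧ p ≠ 1} = 24 := by
  rw [Nat.card_eq_fintype_card]; decide +kernel

theorem r23_sign : Perm.sign r23 = 1 := by decide +kernel

theorem centre_alt5 : ∀ p : Perm (Fin 5), Perm.sign p = 1 ∧ p * c5 = c5 * p ∧ p * u5 = u5 * p →
    p = 1 := by decide +kernel

theorem centre_s5 : ∀ p : Perm (Fin 5), p * c5 = c5 * p ∧ p * s5 = s5 * p ∧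
    p * (mV5 * u5) = (mV5 * u5) * p → p = 1 := by decide +kernel

theorem count_six : Nat.card {q : (Fin 2 × Fin 2) × alternatingGroup (Fin 5) //
    t5 * (r23⁻¹ * (mV5 ^ q.1.1.val * mW5 ^ q.1.2.val) * r23) * t5 =
      r23⁻¹ * (mV5 ^ q.1.1.val * mW5 ^ q.1.2.val) * r23 ∧
    t5 * (q.2 : Perm (Fin 5)) * t5 = (q.2 : Perm (Fin 5))} = 12 := by
  rw [Nat.card_eq_fintype_card]; decide +kernel

namespace Ctx

variable {G : Type u} [Group G] (C : Ctx G) [Finite G]

theorem T_not_CV : C.β eT ∉ C.CV := by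
  intro h
  have h1 := (mem_cent_pair.1 h).1
  rw [← C.bp_t5, ← map_mul, ← map_mul] at h1
  exact absurd (C.bp_inj h1) (by decide +kernel)

theorem Z_mem_CV : C.β eZ ∈ C.CV :=
  mem_cent_pair.2 ⟨(C.bp_comm_Z mV5).symm, (C.bp_comm_Z mW5).symm⟩

theorem a_mem_CV : C.β eA ∈ C.CV :=
  mem_cent_pair.2 ⟨(C.bp_comm_a mV5).symm, (C.bp_comm_a mW5).symm⟩

theorem cent_K4 {x : G} (hx : x ∈ C.CV) {p : Perm (Fin 5)} (hp : p ∈ K4) :
    Commute x (C.bp p) := by
  obtain ⟨i, j, rfl⟩ := hp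
  obtain ⟨h1, h2⟩ := mem_cent_pair.1 hx
  rw [map_mul, map_pow, map_pow]
  exact ((show Commute x (C.bp mV5) from h1).pow_right _).mul_right
    ((show Commute x (C.bp mW5) from h2).pow_right _)

theorem bp_K4_mem {p : Perm (Fin 5)} (hp : p ∈ K4) : C.bp p ∈ C.CV := by
  obtain ⟨i, j, rfl⟩ := hp
  have k : ∀ i j : Fin 2, mV5 ^ i.val * mW5 ^ j.val * mV5 = mV5 * (mV5 ^ i.val * mW5 ^ j.val) ∧
      mV5 ^ i.val * mW5 ^ j.val * mW5 = mW5 * (mV5 ^ i.val * mW5 ^ j.val) := by decide +kernel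
  refine mem_cent_pair.2 ⟨?_, ?_⟩ <;> rw [← map_mul, ← map_mul]
  · rw [(k i j).1]
  · rw [(k i j).2]

/-- The elements of `CV` commuting with `z`. -/
theorem cent_Z_CV {x : G} (hx : x ∈ C.CV) (h : x * C.β eZ = C.β eZ * x) :
    ∃ (i : Fin 3) (p : Perm (Fin 5)), p ∈ K4 ∧ x = C.β eZ ^ i.val * C.bp p := by
  obtain ⟨i, p, rfl⟩ := C.cent_Z h
  obtain ⟨h1, h2⟩ := mem_cent_pair.1 hx
  rw [bp_apply, ← map_mul, ← map_mul] at h1 h2
  refine ⟨i, p, K4_cent p ⟨congrArg Prod.snd (C.inj h1), congrArg Prod.snd (C.inj h2)⟩, ?_⟩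
  rw [bp_apply, ← map_pow, ← map_mul]
  exact congrArg C.β (Prod.ext (by simp [eZ]) (by simp [eZ]))

/-- `D` normalises `CV`. -/
theorem D_norm_CV {d x : G} (hd : d ∈ C.D) (hx : x ∈ C.CV) : d * x * d⁻¹ ∈ C.CV := by
  obtain ⟨a, b, rfl⟩ := hd
  have key : ∀ p : Perm (Fin 5), p ∈ K4 →
      Commute (C.β (dd a b) * x * (C.β (dd a b))⁻¹) (C.bp p) := by
    intro p hp
    have hq := K4_conj_c5 hp (-b)
    have h1 := (C.cent_K4 hx hq).map (MulAut.conj (C.β (dd a b))).toMonoidHom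
    have e : C.β (dd a b) * C.bp (c5 ^ (-b).val * p * (c5 ^ (-b).val)⁻¹) * (C.β (dd a b))⁻¹ =
        C.bp p := by
      rw [bp_apply, bp_apply, ← map_inv, ← map_mul, ← map_mul]
      refine congrArg C.β (Prod.ext (by simp) ?_)
      have k : ∀ b : Fin 3, c5 ^ b.val * c5 ^ (-b).val = 1 := by decide +kernel
      show c5 ^ b.val * (c5 ^ (-b).val * p * (c5 ^ (-b).val)⁻¹) * (c5 ^ b.val)⁻¹ = p
      rw [show c5 ^ b.val * (c5 ^ (-b).val * p * (c5 ^ (-b).val)⁻¹) * (c5 ^ b.val)⁻¹ =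
        (c5 ^ b.val * c5 ^ (-b).val) * p * (c5 ^ b.val * c5 ^ (-b).val)⁻¹ by group, k]
      simp
    simp only [MulEquiv.coe_toMonoidHom, MulAut.conj_apply] at h1
    rwa [e] at h1
  exact mem_cent_pair.2 ⟨(key _ ⟨1, 0, by simp⟩).eq, (key _ ⟨0, 1, by simp⟩).eq⟩

/-- A subgroup of `CV` of order prime to 3 normalised by `D` has no fixed point of an off-axis
element. -/
theorem fixed_off (Q : Subgroup G) (hQ : Q ≤ C.CV) (h3 : ¬ 3 ∣ Nat.card Q)
    (hD : C.D ≤ normalizer (Q : Set G)) {a b : Fin 3} (ha : a ≠ 0) (hb : b ≠ 0) {r : G}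
    (hr : r ∈ Q) (hc : r * C.β (dd a b) = C.β (dd a b) * r) : r = 1 := by
  have hcube : ∀ x : G, x ∈ Q → x ^ 3 = 1 → x = 1 := fun x hx h => by
    by_contra hne
    haveI := Fact.mk Nat.prime_three
    exact h3 (orderOf_eq_prime h hne ▸ Subgroup.orderOf_dvd_natCard Q hx)
  have hN := C.normD_iff.1 (C.normD_of_off a b ha hb hc)
  have hcD : ∀ d ∈ C.D, r * d = d * r := by
    intro d hd
    have h1 : r * d * r⁻¹ * d⁻¹ ∈ Q := by
      rw [show r * d * r⁻¹ * d⁻¹ = r * (d * r⁻¹ * d⁻¹) by group]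
      exact mul_mem hr ((mem_normalizer_iff.1 (hD hd) _).1 (inv_mem hr))
    have h2 : r * d * r⁻¹ * d⁻¹ ∈ C.D := mul_mem ((mem_normalizer_iff.1 hN _).1 hd) (inv_mem hd)
    exact mul_inv_eq_iff_eq_mul.1 (mul_inv_eq_one.1 (hcube _ h1 (C.D_cube h2)))
  obtain ⟨i, j, e, rfl⟩ := C.cD r (hcD _ C.Z_mem_D) (hcD _ C.Z'_mem_D)
  rcases fin2_or e with rfl | rfl
  · refine hcube _ hr ?_
    rw [Fin.val_zero, pow_zero, mul_one]
    exact C.D_cube (C.dd_mem i j)
  · have k : ∀ i j : Fin 3, (dd i j * eT ^ (1 : Fin 2).val) ^ 4 = dd i j := by decide +kernel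
    have h4 : C.β (dd i j) ∈ Q := by rw [← k i j, map_pow]; exact pow_mem hr 4
    have h5 := hcube _ h4 (C.D_cube (C.dd_mem i j))
    rw [map_mul, h5, one_mul, Fin.val_one, pow_one] at hr
    exact absurd (hQ hr) C.T_not_CV

/-- A signalizer not inside `V` has an element centralising `z'`. -/
theorem exists_fixed_Z' (Q : Subgroup G) (hQ : Q ≤ C.CV) (h3 : ¬ 3 ∣ Nat.card Q)
    (hD : C.D ≤ normalizer (Q : Set G)) (hne : ¬ Q ≤ K4.map C.bp) :
    ∃ r ∈ Q, r ≠ 1 ∧ r * C.β eZ' = C.β eZ' * r := by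
  by_contra hcon
  push Not at hcon
  apply hne
  haveI := C.D_comm
  have hcop : (Nat.card C.D).Coprime (Nat.card Q) := by
    rw [C.card_D, show (9 : ℕ) = 3 ^ 2 by norm_num]
    exact Nat.Coprime.pow_left 2 ((Nat.prime_three.coprime_iff_not_dvd).2 h3)
  refine (CfsgLib.CoprimeAct.generated_by_centralizers C.D_not_cyclic hD hcop).symm.le.trans
    (iSup₂_le ?_)
  rintro d ⟨⟨a, b, rfl⟩, hd1⟩ r ⟨hr, hrc⟩
  have hc : r * C.β (dd a b) = C.β (dd a b) * r := mem_centralizer_singleton_iff.1 hrc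
  by_cases ha : a = 0
  · subst ha
    have hb : b ≠ 0 := by
      rintro rfl
      exact hd1 (by rw [dd_zero, map_one])
    by_cases hr1 : r = 1
    · rw [hr1]; exact one_mem _
    refine absurd ?_ (hcon r hr hr1)
    rcases fin3_ne b hb with rfl | rfl
    · rwa [dd_zero_one] at hc
    · rw [show dd 0 (-1) = eZ'⁻¹ by decide +kernel, map_inv] at hc
      simpa using (Commute.inv_right (hc : Commute r _)).eq
  by_cases hb : b = 0
  · subst hb
    have hZ : r * C.β eZ = C.β eZ * r := by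
      rcases fin3_ne a ha with rfl | rfl
      · rwa [dd_one_zero] at hc
      · rw [show dd (-1) 0 = eZ⁻¹ by decide +kernel, map_inv] at hc
        simpa using (Commute.inv_right (hc : Commute r _)).eq
    obtain ⟨i, p, hp, rfl⟩ := C.cent_Z_CV (hQ hr) hZ
    refine ⟨p, hp, ?_⟩
    have hsq : (C.β eZ ^ i.val) ^ 2 ∈ Q := by
      have h := pow_mem hr 2
      rwa [((show Commute (C.bp p) (C.β eZ) from C.bp_comm_Z p).pow_right _).symm.mul_pow,
        ← map_pow C.bp, sq p, K4_exp hp, map_one, mul_one] at h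
    have h1 : (C.β eZ ^ i.val) ^ 2 = 1 := by
      by_contra hne
      haveI := Fact.mk Nat.prime_three
      refine h3 (orderOf_eq_prime (p := 3) ?_ hne ▸ Subgroup.orderOf_dvd_natCard Q hsq)
      rw [← pow_mul, ← pow_mul, show i.val * (2 * 3) = 3 * (i.val * 2) by ring, pow_mul,
        C.D_cube C.Z_mem_D, one_pow]
    have hz : C.β eZ ^ i.val = 1 := by
      calc C.β eZ ^ i.val = C.β eZ ^ i.val * ((C.β eZ ^ i.val) ^ 2) := by rw [h1, mul_one]
        _ = (C.β eZ ^ 3) ^ i.val := by rw [← pow_succ', ← pow_mul, ← pow_mul, mul_comm]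
        _ = 1 := by rw [C.D_cube C.Z_mem_D, one_pow]
    rw [hz, one_mul]
  rw [C.fixed_off Q hQ h3 hD ha hb hr hc]
  exact one_mem _

/-- A signalizer not inside `V` removes the twist and gives a 3-cycle of the second copy. -/
theorem good_of_signalizer (Q : Subgroup G) (hQ : Q ≤ C.CV)
    (h3 : ¬ 3 ∣ Nat.card Q) (hD : C.D ≤ normalizer (Q : Set G))
    (hN : C.CV ≤ normalizer (Q : Set G)) (hne : ¬ Q ≤ K4.map C.bp) :
    C.tw = 0 ∧ ∃ k : Fin 2, C.γ (gam (![3, 4] k)) ∈ C.CV := by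
  obtain ⟨r, hr, hr1, hrc⟩ := C.exists_fixed_Z' Q hQ h3 hD hne
  have hcube : ∀ x : G, x ∈ Q → x ^ 3 = 1 → x = 1 := fun x hx h => by
    by_contra hne
    haveI := Fact.mk Nat.prime_three
    exact h3 (orderOf_eq_prime h hne ▸ Subgroup.orderOf_dvd_natCard Q hx)
  let S : Subgroup (Perm (Fin 5)) := Q.comap C.γ
  have hScube : ∀ q ∈ S, q ^ 3 = 1 → q = 1 := fun q hq h => C.γ_inj (by
    rw [map_one]; exact hcube _ hq (by rw [← map_pow, h, map_one]))
  have ht5 : t5 ∉ S := fun h => C.T_not_CV (hQ (C.γ_t5 ▸ h))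
  -- `r` lies in the second copy
  obtain ⟨i, p, rfl⟩ := C.cent_Z' hrc
  have hc5 : Commute (C.bp (c5 ^ i.val)) (C.γ p) := by
    rw [map_pow]
    exact Commute.pow_left (C.γ_comm_Z' p).symm _
  have hgr : C.g * (C.bp (c5 ^ i.val) * C.γ p) * C.g⁻¹ = C.β (c3 ^ i.val, p) := by
    rw [show C.g * (C.bp (c5 ^ i.val) * C.γ p) * C.g⁻¹ =
      (C.g * C.bp (c5 ^ i.val) * C.g⁻¹) * (C.g * C.γ p * C.g⁻¹) by group, C.g_γ, ← γ_apply, map_pow,
      C.γ_c5, bp_apply, ← map_pow, ← map_mul]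
    exact congrArg C.β (Prod.ext (by simp [eZ]) (by simp [eZ]))
  have hi : C.bp (c5 ^ i.val) = 1 := by
    have h20 : (C.bp (c5 ^ i.val) * C.γ p) ^ 20 = 1 := by
      refine hcube _ (pow_mem hr _) ?_
      rw [← pow_mul]
      have k : ∀ (i : Fin 3) (p : Perm (Fin 5)), ((c3 ^ i.val, p) : P35) ^ 60 = 1 := by
        intro i p
        have k1 : ∀ p : Perm (Fin 5), p ^ 5 = 1 ∨ p ^ 4 = 1 ∨ p ^ 6 = 1 := by decide +kernel
        refine Prod.ext ?_ ?_
        · show (c3 ^ i.val) ^ 60 = 1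
          rw [← pow_mul, show i.val * 60 = 3 * (i.val * 20) by ring, pow_mul,
            show c3 ^ 3 = 1 by decide, one_pow]
        · show p ^ 60 = 1
          rcases k1 p with h | h | h
          · rw [show (60 : ℕ) = 5 * 12 from rfl, pow_mul, h, one_pow]
          · rw [show (60 : ℕ) = 4 * 15 from rfl, pow_mul, h, one_pow]
          · rw [show (60 : ℕ) = 6 * 10 from rfl, pow_mul, h, one_pow]
      have e : C.g * ((C.bp (c5 ^ i.val) * C.γ p) ^ (20 * 3)) * C.g⁻¹ = 1 := by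
        rw [← conj_pow, hgr, ← map_pow, k, map_one]
      exact conj_eq_one_iff.1 e
    have e : C.β ((c3 ^ i.val, p) ^ 20) = C.β 1 := by
      rw [map_pow, ← hgr, conj_pow, h20, mul_one, mul_inv_cancel, map_one]
    have k : ∀ i : Fin 3, (c3 ^ i.val) ^ 20 = 1 → i = 0 := by decide
    rw [k i (congrArg Prod.fst (C.inj e))]
    simp
  have hpS : p ∈ S := by
    show C.γ p ∈ Q
    rw [hi, one_mul] at hr; exact hr
  have hp1 : p ≠ 1 := fun h => hr1 (by rw [hi, h, map_one, mul_one])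
  have hconj : ∀ q ∈ S, c5 * q * c5⁻¹ ∈ S := by
    intro q hq
    show C.γ _ ∈ Q
    rw [map_mul, map_mul, map_inv, C.γ_c5]
    exact (mem_normalizer_iff.1 (hD C.Z_mem_D) _).1 hq
  obtain ⟨t, htS, ht, ht1⟩ : ∃ t ∈ S, Perm.sign t = 1 ∧ t ≠ 1 := by
    rcases Int.units_eq_one_or (Perm.sign p) with h | h
    · exact ⟨p, hpS, h, hp1⟩
    refine ⟨p * (c5 * p * c5⁻¹), mul_mem hpS (hconj p hpS), ?_, fun e => ?_⟩
    · rw [map_mul, map_mul, map_mul, map_inv, h]; simp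
    · have hcm : c5 * p⁻¹ = p⁻¹ * c5 ∨ c5 * p = p⁻¹ * c5 := Or.inr (by
        calc c5 * p = p⁻¹ * (p * (c5 * p * c5⁻¹)) * c5 := by group
          _ = p⁻¹ * c5 := by rw [e, mul_one])
      have k : ∀ p : Perm (Fin 5), Perm.sign p = -1 ∧ c5 * p = p⁻¹ * c5 →
          p ^ 3 = t5 ∨ (p ^ 2) ^ 3 = 1 ∧ p ^ 2 ≠ 1 := by decide +kernel
      rcases k p ⟨h, by calc c5 * p = p⁻¹ * (p * (c5 * p * c5⁻¹)) * c5 := by group
          _ = p⁻¹ * c5 := by rw [e, mul_one]⟩ with h' | ⟨h', h''⟩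
      · exact ht5 (h' ▸ pow_mem hpS 3)
      · exact h'' (hScube _ (pow_mem hpS 2) h')
  have h10 : ∀ w ∈ S, Perm.sign w = 1 → w ^ 10 = 1 := by
    intro w hw hs
    rcases even_order w hs with h | h
    · exact h
    · rw [hScube w hw h, one_pow]
  have hd := hconj t htS
  have he : c5⁻¹ * t * c5 ∈ S := by
    have := hconj _ (hconj t htS)
    rwa [show c5 * (c5 * t * c5⁻¹) * c5⁻¹ = c5⁻¹ * t * c5 by
      rw [show c5 * (c5 * t * c5⁻¹) * c5⁻¹ = (c5 * c5) * t * (c5 * c5)⁻¹ by group,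
        show c5 * c5 = c5⁻¹ by decide +kernel, inv_inv]] at this
  have hsc : Perm.sign c5 = 1 := by decide +kernel
  obtain ⟨k, i', j', hkij⟩ := invariant_pick t ⟨ht, ht1, h10 t htS ht,
    h10 _ (mul_mem htS hd) (by simp [ht, hsc]),
    h10 _ (mul_mem (mul_mem htS htS) hd) (by simp [ht, hsc]),
    h10 _ (mul_mem (mul_mem htS hd) he) (by simp [ht, hsc]),
    h10 _ (mul_mem htS (inv_mem hd)) (by simp [ht, hsc]),
    h10 _ (mul_mem (mul_mem (mul_mem htS hd) htS) he) (by simp [ht, hsc])⟩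
  let S' : Subgroup (Perm (Fin 5)) := C.CV.comap C.γ
  have hc5' : c5 ∈ S' := by
    show C.γ c5 ∈ C.CV
    rw [C.γ_c5]; exact C.Z_mem_CV
  have hgam : gam (![3, 4] k) ∈ S' := by
    rw [← hkij]
    exact mul_mem (mul_mem (mul_mem (pow_mem hc5' _) (show t ∈ S' from hQ htS))
      (inv_mem (pow_mem hc5' _))) (pow_mem hc5' _)
  refine ⟨?_, k, hgam⟩
  by_contra htw
  have h1 : C.tw = 1 := fin2_one _ htw
  have hu5 : u5 ∈ S' := by
    show C.γ u5 ∈ C.CV
    have := C.γ_a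
    rw [h1] at this
    rw [show u5 = s5 * t5 ^ (1 : Fin 2).val by simp [u5], this]
    exact C.a_mem_CV
  have hall : ∀ q, Perm.sign q = 1 → q ∈ S' := fun q hq =>
    even_mem_of_fifteen S' hc5' (mul_mem (mul_mem hgam hu5) hc5') (snd_of_gam k).1 (snd_of_gam k).2 hq
  have hnorm : ∀ q, Perm.sign q = 1 → ∀ w ∈ S, q * w * q⁻¹ ∈ S := by
    intro q hq w hw
    show C.γ _ ∈ Q
    rw [map_mul, map_mul, map_inv]
    exact (mem_normalizer_iff.1 (hN (hall q hq)) _).1 hw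
  have hc : c5 ∈ S := even_mem_of_normal S hnorm htS ht ht1 hsc
  exact absurd (hScube c5 hc (by decide +kernel)) (by decide +kernel)

/-- An element of order 5 of `CV` centralised by a nontrivial element of `D` lies in the second
copy of `Alt(5)`. -/
theorem five_cent {x d : G} (hx : x ∈ C.CV) (h5 : x ^ 5 = 1) (hx1 : x ≠ 1)
    (hd : d ∈ C.D) (hd1 : d ≠ 1) (h : x * d = d * x) :
    ∃ p : Perm (Fin 5), p ^ 5 = 1 ∧ p ≠ 1 ∧ x = C.γ p := by
  haveI := Fact.mk Nat.prime_five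
  obtain ⟨a, b, rfl⟩ := hd
  by_cases hb : b = 0
  · subst hb
    exfalso
    have ha : a ≠ 0 := fun e => hd1 (by rw [e, dd_zero, map_one])
    have hZ : x * C.β eZ = C.β eZ * x := by
      rcases fin3_ne a ha with rfl | rfl
      · rwa [dd_one_zero] at h
      · rw [show dd (-1) 0 = eZ⁻¹ by decide +kernel, map_inv] at h
        simpa using (Commute.inv_right (h : Commute x _)).eq
    obtain ⟨i, p, hp, rfl⟩ := C.cent_Z_CV hx hZ
    apply hx1
    have h6 : (C.β eZ ^ i.val * C.bp p) ^ 6 = 1 := by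
      rw [((show Commute (C.bp p) (C.β eZ) from C.bp_comm_Z p).pow_right _).symm.mul_pow,
        ← pow_mul, mul_comm, show 6 * i.val = 3 * (2 * i.val) by ring, pow_mul,
        C.D_cube C.Z_mem_D, one_pow, one_mul, ← map_pow, show p ^ 6 = (p * p) ^ 3 by
          rw [← sq, ← pow_mul], K4_exp hp, one_pow, map_one]
    rw [pow_succ, h5, one_mul] at h6
    exact h6
  by_cases ha : a = 0
  swap
  · exfalso
    have := Subgroup.orderOf_dvd_natCard (centralizer ({C.β (dd a b)} : Set G))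
      (mem_centralizer_singleton_iff.2 h)
    rw [orderOf_eq_prime h5 hx1, C.card_off a b ha hb] at this
    norm_num at this
  subst ha
  have hZ : x * C.β eZ' = C.β eZ' * x := by
    rcases fin3_ne b hb with rfl | rfl
    · rwa [dd_zero_one] at h
    · rw [show dd 0 (-1) = eZ'⁻¹ by decide +kernel, map_inv] at h
      simpa using (Commute.inv_right (h : Commute x _)).eq
  obtain ⟨i, p, rfl⟩ := C.cent_Z' hZ
  have hgr : C.g * (C.bp (c5 ^ i.val) * C.γ p) * C.g⁻¹ = C.β (c3 ^ i.val, p) := by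
    rw [show C.g * (C.bp (c5 ^ i.val) * C.γ p) * C.g⁻¹ =
      (C.g * C.bp (c5 ^ i.val) * C.g⁻¹) * (C.g * C.γ p * C.g⁻¹) by group, C.g_γ, ← γ_apply, map_pow,
      C.γ_c5, bp_apply, ← map_pow, ← map_mul]
    exact congrArg C.β (Prod.ext (by simp [eZ]) (by simp [eZ]))
  have e : C.β ((c3 ^ i.val, p) ^ 5) = C.β 1 := by
    rw [map_pow, ← hgr, conj_pow, h5, mul_one, mul_inv_cancel, map_one]
  have k : ∀ i : Fin 3, (c3 ^ i.val) ^ 5 = 1 → i = 0 := by decide
  obtain rfl := k i (congrArg Prod.fst (C.inj e))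
  refine ⟨p, congrArg Prod.snd (C.inj e), ?_, by simp⟩
  rintro rfl
  exact hx1 (by simp)

/-- Without signalizer, the five-elements of `CV` lie in the second copy. -/
theorem exists_five
    (f : C.CV →* alternatingGroup (Fin 5)) (hf : Function.Surjective f)
    (hk : ∀ x : C.CV, f x = 1 → (x : G) ∈ K4.map C.bp) :
    ∃ p : Perm (Fin 5), p ^ 5 = 1 ∧ p ≠ 1 ∧ C.γ p ∈ C.CV := by
  haveI := Fact.mk Nat.prime_five
  have h60 : 5 ∣ Nat.card C.CV := by
    refine dvd_trans ?_ (Subgroup.card_dvd_of_surjective f hf)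
    rw [nat_card_alternatingGroup, Nat.card_fin]
    decide +kernel
  obtain ⟨x, hx⟩ := exists_prime_orderOf_dvd_card' 5 h60
  have hx5 : (x : G) ^ 5 = 1 := by
    rw [← Subgroup.coe_pow, ← hx, pow_orderOf_eq_one]; rfl
  have hx1 : (x : G) ≠ 1 := fun e => by
    rw [show x = 1 from Subtype.ext e, orderOf_one] at hx; norm_num at hx
  by_contra hcon
  push Not at hcon
  have hno : ∀ (d : G), d ∈ C.D → ∀ k : ℕ, (x : G) ^ k ≠ 1 →
      Commute ((x : G) ^ k) d → d = 1 := by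
    intro d hd k hk1 h
    by_contra hd1
    obtain ⟨p, hp5, hp1, hp⟩ := C.five_cent (pow_mem x.2 k)
      (by rw [← pow_mul, mul_comm, pow_mul, hx5, one_pow]) hk1 hd hd1 h.eq
    exact hcon p hp5 hp1 (hp ▸ pow_mem x.2 k)
  have hkne : ∀ k : Fin 4, (x : G) ^ (k.val + 1) ≠ 1 := fun k e => by
    have := Nat.le_of_dvd (by omega) (orderOf_dvd_of_pow_eq_one e)
    rw [Subgroup.orderOf_coe, hx] at this
    omega
  have hmem : ∀ (d : C.D) (k : Fin 4), (d : G) * (x : G) ^ (k.val + 1) * (d : G)⁻¹ ∈ C.CV :=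
    fun d k => C.D_norm_CV d.2 (pow_mem x.2 _)
  have hf5 : ∀ (w : C.CV), (w : G) ^ 5 = 1 → (w : G) ≠ 1 → f w ^ 5 = 1 ∧ f w ≠ 1 := by
    intro w hw hw1
    refine ⟨by rw [← map_pow, show w ^ 5 = 1 from Subtype.ext (by simpa using hw), map_one],
      fun e => hw1 ?_⟩
    obtain ⟨p, hp, hpw⟩ := hk w e
    rw [← hpw] at hw ⊢
    rw [← map_pow, pow_succ, show p ^ 4 = (p * p) ^ 2 by rw [← sq, ← pow_mul], K4_exp hp, one_pow,
      one_mul] at hw
    exact hw
  let F : C.D × Fin 4 → {p : alternatingGroup (Fin 5) // p ^ 5 = 1 ∧ p ≠ 1} := fun q =>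
    ⟨f ⟨_, hmem q.1 q.2⟩, hf5 _ (by
      rw [conj_pow, ← pow_mul, mul_comm, pow_mul, hx5, one_pow, mul_one, mul_inv_cancel])
      (fun e => hkne q.2 (conj_eq_one_iff.1 e))⟩
  have hF : Function.Injective F := by
    rintro ⟨d, k⟩ ⟨d', l⟩ h
    have h' : f ⟨_, hmem d k⟩ = f ⟨_, hmem d' l⟩ := congrArg Subtype.val h
    rw [← mul_inv_eq_one, ← map_inv, ← map_mul] at h'
    obtain ⟨p, hp, hpw⟩ := hk _ h'
    set A := (d : G) * (x : G) ^ (k.val + 1) * (d : G)⁻¹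
    set B := (d' : G) * (x : G) ^ (l.val + 1) * (d' : G)⁻¹
    have hA : A ^ 5 = 1 := by
      rw [conj_pow, ← pow_mul, mul_comm, pow_mul, hx5, one_pow, mul_one, mul_inv_cancel]
    have hB : B ^ 5 = 1 := by
      rw [conj_pow, ← pow_mul, mul_comm, pow_mul, hx5, one_pow, mul_one, mul_inv_cancel]
    have hAB : A = C.bp p * B := by
      have e : C.bp p = A * B⁻¹ := hpw
      rw [e, inv_mul_cancel_right]
    have hcB : Commute (C.bp p) B := (C.cent_K4 (hmem d' l) hp).symm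
    have hp1 : C.bp p = 1 := by
      have e : (C.bp p * B) ^ 5 = 1 := by rw [← hAB, hA]
      rwa [hcB.mul_pow, hB, mul_one, ← map_pow, pow_succ, show p ^ 4 = (p * p) ^ 2 by
        rw [← sq, ← pow_mul], K4_exp hp, one_pow, one_mul] at e
    rw [hp1, one_mul] at hAB
    set δ := (d' : G)⁻¹ * (d : G)
    have hδ : δ ∈ C.D := mul_mem (inv_mem d'.2) d.2
    have hconj : δ * (x : G) ^ (k.val + 1) * δ⁻¹ = (x : G) ^ (l.val + 1) := by
      have e : δ * (x : G) ^ (k.val + 1) * δ⁻¹ = (d' : G)⁻¹ * A * d' := by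
        simp only [δ, A]; group
      rw [e, hAB]; simp only [B]; group
    have hkk : ∀ k : Fin 4, ∃ k' : Fin 5, (k.val + 1) * k'.val % 5 = 1 := by decide
    obtain ⟨k', hk'⟩ := hkk k
    have hxk : ((x : G) ^ (k.val + 1)) ^ k'.val = x := by
      rw [← pow_mul, pow_eq_pow_mod _ hx5, hk', pow_one]
    set m := (l.val + 1) * k'.val
    have hxm : ∀ n : ℕ, δ * (x : G) ^ n * δ⁻¹ = (x : G) ^ (m * n) := by
      intro n
      have e : δ * x * δ⁻¹ = (x : G) ^ m := by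
        conv_lhs => rw [← hxk]
        rw [← conj_pow, hconj, ← pow_mul]
      rw [← conj_pow, e, ← pow_mul]
    have h3 : (x : G) ^ (m * (m * m)) = x := by
      have e1 : δ * x * δ⁻¹ = (x : G) ^ m := by simpa using hxm 1
      rw [← hxm (m * m), ← hxm m, ← e1]
      calc δ * (δ * (δ * x * δ⁻¹) * δ⁻¹) * δ⁻¹ = δ ^ 3 * x * (δ ^ 3)⁻¹ := by
            rw [pow_three]; group
        _ = x := by rw [C.D_cube hδ]; simp
    have hmm : m * (m * m) ≡ 1 [MOD 5] := by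
      have := (pow_eq_pow_iff_modEq (x := (x : G)) (n := m * (m * m)) (m := 1)).1 (by
        rw [h3, pow_one])
      rwa [Subgroup.orderOf_coe, hx] at this
    have hm1 : m % 5 = 1 := by
      have : ∀ r : Fin 5, r.val * (r.val * r.val) % 5 = 1 → r.val = 1 := by decide
      refine this ⟨m % 5, Nat.mod_lt _ (by norm_num)⟩ ?_
      simpa [Nat.ModEq, Nat.mul_mod] using hmm
    have hcx : Commute ((x : G) ^ (k.val + 1)) δ := by
      refine (Commute.pow_left ?_ _)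
      have e := hxm 1
      rw [mul_one, pow_one, pow_eq_pow_mod m hx5, hm1, pow_one, mul_inv_eq_iff_eq_mul] at e
      exact e.symm
    have hδ1 := hno δ hδ _ (hkne k) hcx
    have hdd : d = d' := Subtype.ext (inv_mul_eq_one.1 hδ1).symm
    subst hdd
    rw [hδ1] at hconj
    simp only [one_mul, inv_one, mul_one] at hconj
    have hkl := pow_injOn_Iio_orderOf (x := (x : G))
      (by rw [Set.mem_Iio, Subgroup.orderOf_coe, hx]; omega)
      (by rw [Set.mem_Iio, Subgroup.orderOf_coe, hx]; omega) hconj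
    exact Prod.ext rfl (Fin.ext (Nat.succ.inj hkl))
  have := Nat.card_le_card_of_injective F hF
  rw [Nat.card_prod, C.card_D, Nat.card_fin, five_in_A5] at this
  omega

end Ctx

end CfsgLib.ThreeLocalSymEight
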