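import Cfsg.Agent.ThreeLocalSymEight.Six
import Cfsg.Agent.ThreeLocalSymEight.Transfer

/-!
The exceptional case: the two copies of `Alt(5)` commute and, with `τ` and the exchanging
involution, give a subgroup of order 14400 containing the centralizer of `τ`.
-/

set_option autoImplicit false
set_option maxRecDepth 100000

namespace CfsgLib.ThreeLocalSymEight

open Subgroup Equiv Equiv.Perm
open CfsgLib.ThreeLocalEight (c3 t3 c5)

universe u

/-- conjugation by `τ` in the coordinates -/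
def tq (e : Fin 2) (p : Perm (Fin 5)) : Perm (Fin 5) := t5 ^ e.val * p * (t5 ^ e.val)⁻¹

theorem tq_sign (e : Fin 2) (p : Perm (Fin 5)) : Perm.sign (tq e p) = Perm.sign p := by
  rw [tq, map_mul, map_mul, map_inv, mul_comm (Perm.sign (t5 ^ e.val)), mul_inv_cancel_right]

theorem invol_even : ∀ p : Perm (Fin 5), Perm.sign p = 1 → p * p = 1 → p ≠ 1 →
    ∃ r : Perm (Fin 5), Perm.sign r = 1 ∧ r * mV5 * r⁻¹ = p := by decide +kernel

theorem invol_twist : ∀ p : Perm (Fin 5), Perm.sign p = 1 → p * (t5 * p * t5) = 1 →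
    ∃ r : Perm (Fin 5), Perm.sign r = 1 ∧ r * (t5 * r⁻¹ * t5) = p := by decide +kernel

theorem centre_bp : ∀ (a b : Fin 3) (e : Fin 2),
    (dd a b * eT ^ e.val) * (1, c5) = (1, c5) * (dd a b * eT ^ e.val) ∧
    (dd a b * eT ^ e.val) * (1, mV5) = (1, mV5) * (dd a b * eT ^ e.val) ∧
    (dd a b * eT ^ e.val) * eA = eA * (dd a b * eT ^ e.val) → dd a b * eT ^ e.val = 1 := by
  decide +kernel

theorem comm_t5 : ∀ p : Perm (Fin 5), Perm.sign p = 1 ∧ t5 * p * t5 = p →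
    p * t5 = t5 * p := by decide +kernel

theorem card_comm_t5 :
    Nat.card {p : alternatingGroup (Fin 5) // t5 * (p : Perm (Fin 5)) * t5 = p} = 6 := by
  rw [Nat.card_eq_fintype_card]; decide +kernel

namespace Ctx

variable {G : Type u} [Group G] (C : Ctx G) [Finite G]

/-- The two copies of `Alt(5)` commute. -/
def Comm5 : Prop :=
  ∀ p q : Perm (Fin 5), Perm.sign p = 1 → Perm.sign q = 1 → Commute (C.γ p) (C.bp q)

variable {C}

theorem nCase_shift (hN : C.NCase) : C.shift.NCase := hN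

theorem comm5 (hN : C.NCase) : C.Comm5 := C.commute_of_nCase hN

theorem γ_u5 (hN : C.NCase) : C.γ u5 = C.β eA := by
  rw [← C.γ_a, C.twisted hN]; simp [u5]

theorem pair_mul (hN : C.NCase) {p q p' q' : Perm (Fin 5)} (hq : Perm.sign q = 1)
    (hp' : Perm.sign p' = 1) :
    C.γ p * C.bp q * (C.γ p' * C.bp q') = C.γ (p * p') * C.bp (q * q') := by
  rw [map_mul, map_mul, mul_assoc (C.γ p) (C.bp q), ← mul_assoc (C.bp q), ← (comm5 hN p' q hp' hq).eq]
  group

theorem pair_inv (hN : C.NCase) {p q : Perm (Fin 5)} (hp : Perm.sign p = 1) (hq : Perm.sign q = 1) :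
    (C.γ p * C.bp q)⁻¹ = C.γ p⁻¹ * C.bp q⁻¹ := by
  rw [mul_inv_rev, map_inv, map_inv]
  exact ((comm5 hN p q hp hq).inv_inv).eq.symm

theorem bp_eq_γ (hN : C.NCase) {p q : Perm (Fin 5)} (hp : Perm.sign p = 1) (hq : Perm.sign q = 1)
    (h : C.γ p * C.bp q = 1) : p = 1 ∧ q = 1 := by
  have e : C.bp q = C.γ p⁻¹ := by rw [map_inv]; exact eq_inv_of_mul_eq_one_right h
  have hc : ∀ r, Perm.sign r = 1 → q * r = r * q := fun r hr => C.bp_inj (by
    rw [map_mul, map_mul, e]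
    exact (comm5 hN p⁻¹ r (by rw [map_inv, hp, inv_one]) hr).eq)
  have hq1 := centre_alt5 q ⟨hq, hc _ (by decide +kernel), hc _ (by decide +kernel)⟩
  refine ⟨C.γ_inj ?_, hq1⟩
  rw [hq1, map_one, mul_one] at h
  rw [h, map_one]

theorem pair_inj (hN : C.NCase) {p q p' q' : Perm (Fin 5)} (hp : Perm.sign p = 1)
    (hq : Perm.sign q = 1) (hp' : Perm.sign p' = 1) (hq' : Perm.sign q' = 1)
    (h : C.γ p * C.bp q = C.γ p' * C.bp q') : p = p' ∧ q = q' := by
  obtain ⟨h1, h2⟩ := bp_eq_γ hN (p := p'⁻¹ * p) (q := q'⁻¹ * q)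
    (by rw [map_mul, map_inv, hp, hp', inv_one, one_mul])
    (by rw [map_mul, map_inv, hq, hq', inv_one, one_mul]) (by
      rw [← pair_mul hN (by rw [map_inv, hq', inv_one]) hp, ← pair_inv hN hp' hq', h,
        inv_mul_cancel])
  exact ⟨(inv_mul_eq_one.1 h1).symm, (inv_mul_eq_one.1 h2).symm⟩

theorem T_pow_γ (e : Fin 2) (p : Perm (Fin 5)) :
    C.β eT ^ e.val * C.γ p = C.γ (tq e p) * C.β eT ^ e.val := by
  rw [tq, map_mul, map_mul, map_inv, map_pow, C.γ_t5, inv_mul_cancel_right]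

theorem T_pow_bp (e : Fin 2) (p : Perm (Fin 5)) :
    C.β eT ^ e.val * C.bp p = C.bp (tq e p) * C.β eT ^ e.val := by
  rw [tq, map_mul, map_mul, map_inv, map_pow, C.bp_t5, inv_mul_cancel_right]

theorem g_γ' (p : Perm (Fin 5)) : C.g * C.γ p = C.bp p * C.g := by
  rw [← C.g_γ, inv_mul_cancel_right]

theorem g_bp (p : Perm (Fin 5)) : C.g * C.bp p = C.γ p * C.g := by
  rw [γ_apply, inv_mul_cancel_right]

theorem T_pow_pair (e : Fin 2) (p q : Perm (Fin 5)) :
    C.β eT ^ e.val * (C.γ p * C.bp q) = C.γ (tq e p) * C.bp (tq e q) * C.β eT ^ e.val := by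
  rw [← mul_assoc, T_pow_γ, mul_assoc (C.γ _), T_pow_bp, ← mul_assoc]

theorem g_pair (hN : C.NCase) {p q : Perm (Fin 5)} (hp : Perm.sign p = 1) (hq : Perm.sign q = 1) :
    C.g * (C.γ p * C.bp q) = C.γ q * C.bp p * C.g := by
  rw [← mul_assoc, g_γ', mul_assoc, g_bp, ← mul_assoc, (comm5 hN q p hq hp).eq]

theorem fin2_add (x : G) (hx : x * x = 1) (a b : Fin 2) : x ^ a.val * x ^ b.val = x ^ (a + b).val := by
  rcases fin2_or a with rfl | rfl <;> rcases fin2_or b with rfl | rfl <;> simp [hx]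

variable (C)

/-- The product of the two copies of `Alt(5)`. -/
def pairs (hN : C.NCase) : Subgroup G where
  carrier := {x | ∃ p q : Perm (Fin 5), Perm.sign p = 1 ∧ Perm.sign q = 1 ∧ x = C.γ p * C.bp q}
  one_mem' := ⟨1, 1, map_one _, map_one _, by simp⟩
  mul_mem' := by
    rintro _ _ ⟨p, q, hp, hq, rfl⟩ ⟨p', q', hp', hq', rfl⟩
    exact ⟨p * p', q * q', by rw [map_mul, hp, hp', one_mul], by rw [map_mul, hq, hq', one_mul],
      pair_mul hN hq hp'⟩
  inv_mem' := by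
    rintro _ ⟨p, q, hp, hq, rfl⟩
    exact ⟨p⁻¹, q⁻¹, by rw [map_inv, hp, inv_one], by rw [map_inv, hq, inv_one],
      pair_inv hN hp hq⟩

variable {C}

theorem pair_mem (hN : C.NCase) {p q : Perm (Fin 5)} (hp : Perm.sign p = 1) (hq : Perm.sign q = 1) :
    C.γ p * C.bp q ∈ C.pairs hN := ⟨p, q, hp, hq, rfl⟩

theorem γ_mem (hN : C.NCase) {p : Perm (Fin 5)} (hp : Perm.sign p = 1) : C.γ p ∈ C.pairs hN :=
  ⟨p, 1, hp, map_one _, by simp⟩

theorem bp_mem (hN : C.NCase) {p : Perm (Fin 5)} (hp : Perm.sign p = 1) : C.bp p ∈ C.pairs hN :=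
  ⟨1, p, map_one _, hp, by simp⟩

theorem coset_move (hN : C.NCase) {p q : Perm (Fin 5)} (hp : Perm.sign p = 1)
    (hq : Perm.sign q = 1) (e f : Fin 2) :
    ∃ p' q' : Perm (Fin 5), Perm.sign p' = 1 ∧ Perm.sign q' = 1 ∧
      C.β eT ^ e.val * C.g ^ f.val * (C.γ p * C.bp q) =
        C.γ p' * C.bp q' * (C.β eT ^ e.val * C.g ^ f.val) := by
  rcases fin2_or f with rfl | rfl
  · refine ⟨tq e p, tq e q, by rw [tq_sign, hp], by rw [tq_sign, hq], ?_⟩
    simp only [Fin.val_zero, pow_zero, mul_one]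
    exact T_pow_pair e p q
  · refine ⟨tq e q, tq e p, by rw [tq_sign, hq], by rw [tq_sign, hp], ?_⟩
    simp only [Fin.val_one, pow_one]
    rw [mul_assoc, g_pair hN hp hq, ← mul_assoc, T_pow_pair, mul_assoc]

theorem coset_mul (e f e' f' : Fin 2) :
    C.β eT ^ e.val * C.g ^ f.val * (C.β eT ^ e'.val * C.g ^ f'.val) =
      C.β eT ^ (e + e').val * C.g ^ (f + f').val := by
  have h : Commute (C.g ^ f.val) (C.β eT ^ e'.val) := Commute.pow_pow C.gT _ _
  rw [mul_assoc, ← mul_assoc (C.g ^ f.val), h.eq, ← fin2_add _ C.T_sq, ← fin2_add _ C.gg]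
  group

variable (C)

/-- The subgroup of order 14400. -/
def big (hN : C.NCase) : Subgroup G where
  carrier := {x | ∃ (p q : Perm (Fin 5)) (e f : Fin 2), Perm.sign p = 1 ∧ Perm.sign q = 1 ∧
    x = C.γ p * C.bp q * (C.β eT ^ e.val * C.g ^ f.val)}
  one_mem' := ⟨1, 1, 0, 0, map_one _, map_one _, by simp⟩
  mul_mem' := by
    rintro _ _ ⟨p, q, e, f, hp, hq, rfl⟩ ⟨p', q', e', f', hp', hq', rfl⟩
    obtain ⟨p'', q'', hp'', hq'', h⟩ := coset_move hN hp' hq' e f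
    refine ⟨p * p'', q * q'', e + e', f + f', by rw [map_mul, hp, hp'', one_mul],
      by rw [map_mul, hq, hq'', one_mul], ?_⟩
    rw [← pair_mul hN hq hp'', ← coset_mul, mul_assoc (C.γ p * C.bp q),
      ← mul_assoc (C.β eT ^ e.val * C.g ^ f.val), h]
    group
  inv_mem' := by
    rintro _ ⟨p, q, e, f, hp, hq, rfl⟩
    have hs : (C.β eT ^ e.val * C.g ^ f.val)⁻¹ = C.β eT ^ e.val * C.g ^ f.val := by
      refine inv_eq_of_mul_eq_one_right ?_
      rw [coset_mul]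
      rcases fin2_or e with rfl | rfl <;> rcases fin2_or f with rfl | rfl <;> simp
    obtain ⟨p'', q'', hp'', hq'', h⟩ := coset_move hN (p := p⁻¹) (q := q⁻¹)
      (by rw [map_inv, hp, inv_one]) (by rw [map_inv, hq, inv_one]) e f
    exact ⟨p'', q'', e, f, hp'', hq'', by rw [mul_inv_rev, hs, pair_inv hN hp hq, h]⟩

variable {C}

theorem pairs_le (hN : C.NCase) : C.pairs hN ≤ C.big hN := by
  rintro _ ⟨p, q, hp, hq, rfl⟩
  exact ⟨p, q, 0, 0, hp, hq, by simp⟩

theorem coset_mem (hN : C.NCase) (e f : Fin 2) : C.β eT ^ e.val * C.g ^ f.val ∈ C.big hN :=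
  ⟨1, 1, e, f, map_one _, map_one _, by simp⟩

theorem T_mem_big (hN : C.NCase) : C.β eT ∈ C.big hN := by simpa using coset_mem hN 1 0

theorem g_mem_big (hN : C.NCase) : C.g ∈ C.big hN := by simpa using coset_mem hN 0 1

theorem big_normalizes (hN : C.NCase) {w x : G} (hw : w ∈ C.big hN) (hx : x ∈ C.pairs hN) :
    w * x * w⁻¹ ∈ C.pairs hN := by
  obtain ⟨p, q, e, f, hp, hq, rfl⟩ := hw
  obtain ⟨p', q', hp', hq', rfl⟩ := hx
  obtain ⟨p'', q'', hp'', hq'', h⟩ := coset_move hN hp' hq' e f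
  have e' : C.γ p * C.bp q * (C.β eT ^ e.val * C.g ^ f.val) * (C.γ p' * C.bp q') *
      (C.γ p * C.bp q * (C.β eT ^ e.val * C.g ^ f.val))⁻¹ =
      C.γ p * C.bp q * (C.γ p'' * C.bp q'') * (C.γ p * C.bp q)⁻¹ := by
    rw [mul_assoc (C.γ p * C.bp q), h]; group
  rw [e']
  exact mul_mem (mul_mem (pair_mem hN hp hq) (pair_mem hN hp'' hq''))
    (inv_mem (pair_mem hN hp hq))

theorem T_not_pairs (hN : C.NCase) : C.β eT ∉ C.pairs hN := by
  rintro ⟨p, q, hp, hq, h⟩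
  have hc : ∀ r, Perm.sign r = 1 → t5 * r * t5⁻¹ = q * r * q⁻¹ := fun r hr => C.bp_inj (by
    rw [map_mul, map_mul, map_mul, map_mul, map_inv, map_inv, C.bp_t5, h, mul_inv_rev,
      show C.γ p * C.bp q * C.bp r * ((C.bp q)⁻¹ * (C.γ p)⁻¹) =
        C.γ p * (C.bp q * C.bp r * (C.bp q)⁻¹) * (C.γ p)⁻¹ by group,
      ← map_inv C.bp, ← map_mul, ← map_mul,
      (comm5 hN p _ hp (by rw [map_mul, map_mul, map_inv, hq, hr]; simp)).eq, mul_inv_cancel_right])
  have k : ∀ q : Perm (Fin 5), Perm.sign q = 1 → t5 * c5 * t5⁻¹ = q * c5 * q⁻¹ →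
      t5 * mV5 * t5⁻¹ = q * mV5 * q⁻¹ → False := by decide +kernel
  exact k q hq (hc _ (by decide +kernel)) (hc _ (by decide +kernel))

theorem g_not_coset (hN : C.NCase) {x : G} (hx : x ∈ C.pairs hN) (e : Fin 2) :
    x * C.β eT ^ e.val ≠ C.g := by
  intro h
  obtain ⟨p, q, hp, hq, rfl⟩ := hx
  have h1 := g_bp (C := C) c5
  rw [← h, mul_assoc _ (C.β eT ^ e.val), T_pow_bp, C.γ_c5, ← mul_assoc, ← mul_assoc] at h1
  have h2 := mul_right_cancel h1
  rw [mul_assoc (C.γ p), ← map_mul] at h2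
  have hc : Commute (C.γ p) (C.bp (q * tq e c5 * q⁻¹)) :=
    comm5 hN p _ hp (by rw [map_mul, map_mul, map_inv, hq, tq_sign]; decide +kernel)
  have h3 : C.β eZ = C.bp (q * tq e c5 * q⁻¹) := by
    calc C.β eZ = C.β eZ * (C.γ p * C.bp q) * (C.γ p * C.bp q)⁻¹ := by rw [mul_inv_cancel_right]
      _ = C.γ p * C.bp (q * tq e c5) * (C.γ p * C.bp q)⁻¹ := by rw [h2, mul_assoc]
      _ = C.γ p * C.bp (q * tq e c5 * q⁻¹) * (C.γ p)⁻¹ := by
        rw [map_mul C.bp (q * _), map_inv]; group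
      _ = C.bp (q * tq e c5 * q⁻¹) := by rw [hc.eq, mul_inv_cancel_right]
  exact absurd (congrArg Prod.fst (C.inj (h3.trans (C.bp_apply _))))
    (show c3 ≠ (1 : Perm (Fin 3)) by decide)

/-- Uniqueness of the decomposition. -/
theorem coset_zero (hN : C.NCase) {x : G} (hx : x ∈ C.pairs hN) (e f : Fin 2)
    (h : x * (C.β eT ^ e.val * C.g ^ f.val) = 1) : x = 1 ∧ e = 0 ∧ f = 0 := by
  rcases fin2_or f with rfl | rfl
  · rcases fin2_or e with rfl | rfl
    · exact ⟨by simpa using h, rfl, rfl⟩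
    · exfalso
      simp only [Fin.val_zero, pow_zero, Fin.val_one, pow_one, mul_one] at h
      exact T_not_pairs hN (eq_inv_of_mul_eq_one_right h ▸ inv_mem hx)
  · exfalso
    simp only [Fin.val_one, pow_one] at h
    have hg : C.g = (x * C.β eT ^ e.val)⁻¹ := eq_inv_of_mul_eq_one_right (by rw [mul_assoc]; exact h)
    refine g_not_coset hN (x := x) hx e ?_
    rw [← inv_inv (x * C.β eT ^ e.val), ← hg, C.ginv]

theorem coset_unique (hN : C.NCase) {p q p' q' : Perm (Fin 5)} (hp : Perm.sign p = 1)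
    (hq : Perm.sign q = 1) (hp' : Perm.sign p' = 1) (hq' : Perm.sign q' = 1) {e f e' f' : Fin 2}
    (h : C.γ p * C.bp q * (C.β eT ^ e.val * C.g ^ f.val) =
      C.γ p' * C.bp q' * (C.β eT ^ e'.val * C.g ^ f'.val)) :
    p = p' ∧ q = q' ∧ e = e' ∧ f = f' := by
  have hn := mul_mem (inv_mem (pair_mem hN hp' hq')) (pair_mem hN hp hq)
  have hw : (C.β eT ^ e'.val * C.g ^ f'.val)⁻¹ = C.β eT ^ e'.val * C.g ^ f'.val := by
    refine inv_eq_of_mul_eq_one_right ?_
    rw [coset_mul]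
    rcases fin2_or e' with rfl | rfl <;> rcases fin2_or f' with rfl | rfl <;> simp
  have h' : (C.γ p' * C.bp q')⁻¹ * (C.γ p * C.bp q) *
      (C.β eT ^ (e + e').val * C.g ^ (f + f').val) = 1 := by
    rw [← coset_mul, ← hw, ← mul_assoc, mul_assoc _ (C.γ p * C.bp q), h]
    group
  obtain ⟨h1, he, hf⟩ := coset_zero hN hn _ _ h'
  have k : ∀ a b : Fin 2, a + b = 0 → a = b := by decide
  obtain ⟨hpp, hqq⟩ := pair_inj hN hp hq hp' hq' (inv_mul_eq_one.1 h1).symm
  exact ⟨hpp, hqq, k _ _ he, k _ _ hf⟩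

/-- The second coordinate is contained in the subgroup. -/
theorem range_le_big (hN : C.NCase) (m : P35) : C.β m ∈ C.big hN := by
  have k : ∀ s : Perm (Fin 3), ∃ a : Fin 3, ∃ i : Fin 2, s = c3 ^ a.val * t3 ^ i.val := by decide
  obtain ⟨a, i, hs⟩ := k m.1
  rw [show m = eZ ^ a.val * eA ^ i.val * (1, m.2) from
    Prod.ext (by simp [hs, eZ, eA]) (by simp [eZ, eA]), map_mul, map_mul, map_pow, map_pow]
  refine mul_mem (mul_mem (pow_mem ?_ _) (pow_mem ?_ _)) ?_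
  · rw [← C.γ_c5]; exact pairs_le hN (γ_mem hN (by decide +kernel))
  · rw [← γ_u5 hN]; exact pairs_le hN (γ_mem hN (by decide +kernel))
  · rw [← bp_apply]
    rcases Int.units_eq_one_or (Perm.sign m.2) with h | h
    · exact pairs_le hN (bp_mem hN h)
    · rw [show m.2 = (m.2 * t5) * t5 by
        rw [mul_assoc, show t5 * t5 = 1 by decide +kernel, mul_one], map_mul, C.bp_t5]
      exact mul_mem (pairs_le hN (bp_mem hN (by rw [map_mul, h]; decide +kernel))) (T_mem_big hN)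

theorem normD_le_big (hN : C.NCase) {x : G} (h : C.NormD x) : x ∈ C.big hN := by
  obtain ⟨m, -, rfl | rfl⟩ := C.normD_cases h
  · exact range_le_big hN m
  · exact mul_mem (g_mem_big hN) (range_le_big hN m)

theorem CT_le_big (hN : C.NCase) : C.CT ≤ C.big hN := fun x hx =>
  normD_le_big hN (hN x (mem_centralizer_singleton_iff.1 hx))

theorem card_CT (hN : C.NCase) : Nat.card C.CT = 144 := by
  let A6 := {p : alternatingGroup (Fin 5) // t5 * (p : Perm (Fin 5)) * t5 = p}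
  have h144 : Nat.card ((A6 × A6) × Fin 2 × Fin 2) = 144 := by
    rw [Nat.card_prod, Nat.card_prod, Nat.card_prod, card_comm_t5, Nat.card_fin]
  rw [← h144]
  have hmem : ∀ q : (A6 × A6) × Fin 2 × Fin 2,
      C.γ q.1.1.1 * C.bp q.1.2.1 * (C.β eT ^ q.2.1.val * C.g ^ q.2.2.val) ∈ C.CT := by
    rintro ⟨⟨⟨p, hp⟩, ⟨q, hq⟩⟩, e, f⟩
    refine mem_centralizer_singleton_iff.2 ?_
    have h1 : Commute (C.γ (p : Perm (Fin 5))) (C.β eT) := by
      rw [← C.γ_t5]; show _ * _ = _ * _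
      rw [← map_mul, ← map_mul, comm_t5 _ ⟨p.2, hp⟩]
    have h2 : Commute (C.bp (q : Perm (Fin 5))) (C.β eT) := by
      rw [← C.bp_t5]; show _ * _ = _ * _
      rw [← map_mul, ← map_mul, comm_t5 _ ⟨q.2, hq⟩]
    exact ((h1.mul_left h2).mul_left ((Commute.refl _).pow_left _ |>.mul_left
      ((show Commute C.g (C.β eT) from C.gT).pow_left _))).eq
  refine (Nat.card_congr (Equiv.ofBijective (fun q => (⟨_, hmem q⟩ : C.CT)) ⟨?_, ?_⟩)).symm
  · rintro ⟨⟨⟨p, hp⟩, ⟨q, hq⟩⟩, e, f⟩ ⟨⟨⟨p', hp'⟩, ⟨q', hq'⟩⟩, e', f'⟩ h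
    obtain ⟨h1, h2, rfl, rfl⟩ := coset_unique hN p.2 q.2 p'.2 q'.2 (congrArg Subtype.val h :)
    obtain rfl : p = p' := Subtype.ext h1
    obtain rfl : q = q' := Subtype.ext h2
    rfl
  · rintro ⟨x, hx⟩
    obtain ⟨p, q, e, f, hp, hq, rfl⟩ := CT_le_big hN hx
    have hx' := mem_centralizer_singleton_iff.1 hx
    have hT : C.β eT * (C.γ p * C.bp q * (C.β eT ^ e.val * C.g ^ f.val)) * C.β eT =
        C.γ (t5 * p * t5) * C.bp (t5 * q * t5) * (C.β eT ^ e.val * C.g ^ f.val) := by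
      have h1 := T_pow_pair (C := C) 1 p q
      have ht : ∀ r, tq 1 r = t5 * r * t5 := fun r => by
        simp [tq, show t5⁻¹ = t5 by decide +kernel]
      simp only [Fin.val_one, pow_one, ht] at h1
      have hc : Commute (C.β eT ^ e.val * C.g ^ f.val) (C.β eT) :=
        ((Commute.refl _).pow_left _).mul_left ((show Commute C.g (C.β eT) from C.gT).pow_left _)
      rw [← mul_assoc, h1, mul_assoc, mul_assoc, hc.eq, ← mul_assoc (C.β eT) (C.β eT), C.T_sq,
        one_mul]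
    rw [← hx', mul_assoc, C.T_sq, mul_one] at hT
    obtain ⟨h1, h2, -, -⟩ := coset_unique hN hp hq (by rw [map_mul, map_mul, hp]; decide +kernel)
      (by rw [map_mul, map_mul, hq]; decide +kernel) hT
    exact ⟨((⟨⟨p, mem_alternatingGroup.2 hp⟩, h1.symm⟩, ⟨⟨q, mem_alternatingGroup.2 hq⟩, h2.symm⟩),
      e, f), rfl⟩

/-- The centraliser of the product is trivial. -/
theorem cent_pairs (hN : C.NCase) {x : G} (h : ∀ n ∈ C.pairs hN, x * n = n * x) : x = 1 := by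
  have hZ : x * C.β eZ = C.β eZ * x := by
    rw [← C.γ_c5]; exact h _ (γ_mem hN (by decide +kernel))
  have hZ' : x * C.β eZ' = C.β eZ' * x := h _ (bp_mem hN (p := c5) (by decide +kernel))
  obtain ⟨a, b, e, he⟩ := C.cD x hZ hZ'
  have h1 : x * C.bp c5 = C.bp c5 * x := hZ'
  have h2 := h _ (bp_mem hN (p := mV5) (by decide +kernel))
  have h3 := h _ (γ_mem hN (p := u5) (by decide +kernel))
  rw [γ_u5 hN] at h3
  rw [he, bp_apply, ← map_mul, ← map_mul] at h1 h2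
  rw [he, ← map_mul, ← map_mul] at h3
  rw [he, centre_bp a b e ⟨C.inj h1, C.inj h2, C.inj h3⟩, map_one]

end Ctx

end CfsgLib.ThreeLocalSymEight
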