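import Cfsg.Agent.ThreeLocalSymEight.ExcMid
import Cfsg.Agent.Solvable.CoprimeAbelian
import Mathlib.GroupTheory.Transfer

/-!
The exceptional case: the subgroup of index 4 is the product of the two copies of `Alt(5)`.
-/

set_option autoImplicit false
set_option maxRecDepth 100000
set_option maxHeartbeats 400000

namespace CfsgLib.ThreeLocalSymEight

open Subgroup Equiv Equiv.Perm
open CfsgLib.ThreeLocalEight (c3 t3 c5 fin3_ne mem_normalizer_zpowers_of)
open CfsgLib.ThreeLocalEight.Emb (eq_of_odd power_inverted)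

universe u

/-- The second transfer's output. -/
structure Inner {G : Type u} [Group G] [Finite G] (C : Ctx G) (hN : C.NCase) where
  L : Subgroup G
  gL : C.g ∉ L
  TL : C.β eT ∉ L
  gconj : ∀ y ∈ L, C.g * y * C.g⁻¹ ∈ L
  le : C.pairs hN ≤ L
  odd : Odd ((C.pairs hN).relIndex L)
  big : ∀ x ∈ L, x ∈ C.big hN → x ∈ C.pairs hN

theorem norm_K4 : ∀ p : Perm (Fin 5), Perm.sign p = 1 →
    (∃ i j : Fin 2, p * mV5 * p⁻¹ = mV5 ^ i.val * mW5 ^ j.val) ∧
    (∃ i j : Fin 2, p * mW5 * p⁻¹ = mV5 ^ i.val * mW5 ^ j.val) →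
    ∃ (i j : Fin 2) (k : Fin 3), p = mV5 ^ i.val * mW5 ^ j.val * c5 ^ k.val := by decide +kernel

theorem norm_K4_c5 : ∀ (i j : Fin 2) (k : Fin 3),
    (∃ l : Fin 3, (mV5 ^ i.val * mW5 ^ j.val * c5 ^ k.val) * c5 *
      (mV5 ^ i.val * mW5 ^ j.val * c5 ^ k.val)⁻¹ = c5 ^ l.val) →
    mV5 ^ i.val * mW5 ^ j.val * c5 ^ k.val = c5 ^ k.val := by decide +kernel

theorem norm_K4_fix : ∀ (i j : Fin 2) (k : Fin 3),
    (mV5 ^ i.val * mW5 ^ j.val * c5 ^ k.val) * mV5 = mV5 * (mV5 ^ i.val * mW5 ^ j.val * c5 ^ k.val) →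
    k = 0 := by decide +kernel

theorem cent_mV : ∀ p : Perm (Fin 5), Perm.sign p = 1 → p * mV5 = mV5 * p →
    ∃ i j : Fin 2, p = mV5 ^ i.val * mW5 ^ j.val := by decide +kernel

theorem K4_to_mV : ∀ i j : Fin 2, mV5 ^ i.val * mW5 ^ j.val ≠ 1 →
    ∃ k : Fin 3, c5 ^ k.val * (mV5 ^ i.val * mW5 ^ j.val) * (c5 ^ k.val)⁻¹ = mV5 := by decide +kernel

theorem K4_comm {v w : Perm (Fin 5)} (hv : v ∈ K4) (hw : w ∈ K4) : v * w = w * v := by
  obtain ⟨i, j, rfl⟩ := hv
  obtain ⟨i', j', rfl⟩ := hw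
  revert i j i' j'; decide +kernel

theorem K4_odd_pow {w : K4} {n : ℕ} (hn : Odd n) : w ^ n = w := by
  obtain ⟨m, rfl⟩ := hn
  have h : w ^ 2 = 1 := Subtype.ext (by simpa [sq] using K4_exp w.2)
  rw [pow_succ, pow_mul, h, one_pow, one_mul]

theorem mem_K4_mV : mV5 ∈ K4 := ⟨1, 0, by simp⟩

theorem mem_K4_mW : mW5 ∈ K4 := ⟨0, 1, by simp⟩

namespace Ctx

variable {G : Type u} [Group G] {C : Ctx G} [Finite G] {hN : C.NCase}

theorem card_pairs (hN : C.NCase) : Nat.card (C.pairs hN) = 3600 := by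
  have h : Nat.card (alternatingGroup (Fin 5) × alternatingGroup (Fin 5)) = 3600 := by
    rw [Nat.card_prod, card_alt5]
  rw [← h]
  refine (Nat.card_congr (Equiv.ofBijective (fun q : alternatingGroup (Fin 5) × alternatingGroup (Fin 5) =>
    (⟨C.γ q.1 * C.bp q.2, pair_mem hN q.1.2 q.2.2⟩ : C.pairs hN)) ⟨?_, ?_⟩)).symm
  · intro q r h
    obtain ⟨h1, h2⟩ := pair_inj hN q.1.2 q.2.2 r.1.2 r.2.2 (congrArg Subtype.val h :)
    exact Prod.ext (Subtype.ext h1) (Subtype.ext h2)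
  · rintro ⟨x, p, q, hp, hq, rfl⟩
    exact ⟨(⟨p, mem_alternatingGroup.2 hp⟩, ⟨q, mem_alternatingGroup.2 hq⟩), rfl⟩

theorem pair_conj (hN : C.NCase) {a b p q : Perm (Fin 5)} (ha : Perm.sign a = 1)
    (hb : Perm.sign b = 1) (hp : Perm.sign p = 1) (hq : Perm.sign q = 1) :
    C.γ a * C.bp b * (C.γ p * C.bp q) * (C.γ a * C.bp b)⁻¹ =
      C.γ (a * p * a⁻¹) * C.bp (b * q * b⁻¹) := by
  rw [pair_inv hN ha hb, pair_mul hN hb hp,
    pair_mul hN (by rw [map_mul, hb, hq, one_mul]) (by rw [map_inv, ha, inv_one])]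

variable (I : Inner C hN)

theorem fixed_pairs {x : G} (hx : x ∈ I.L) {a b : Fin 3} (hne : ¬ (a = 0 ∧ b = 0))
    (h : x * C.β (dd a b) = C.β (dd a b) * x) : x ∈ C.pairs hN := by
  refine I.big x hx ?_
  by_cases ha : a = 0
  · subst ha
    have hb : b ≠ 0 := fun e => hne ⟨rfl, e⟩
    have hZ : x * C.β eZ' = C.β eZ' * x := by
      rcases fin3_ne b hb with rfl | rfl
      · rwa [dd_zero_one] at h
      · rw [show dd 0 (-1) = eZ'⁻¹ by decide +kernel, map_inv] at h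
        simpa using (Commute.inv_right (h : Commute x _)).eq
    obtain ⟨i, p, rfl⟩ := C.cent_Z' hZ
    refine mul_mem (range_le_big hN _) ?_
    rw [γ_apply, bp_apply]
    exact mul_mem (mul_mem (g_mem_big hN) (range_le_big hN _)) (inv_mem (g_mem_big hN))
  by_cases hb : b = 0
  · subst hb
    have hZ : x * C.β eZ = C.β eZ * x := by
      rcases fin3_ne a ha with rfl | rfl
      · rwa [dd_one_zero] at h
      · rw [show dd (-1) 0 = eZ⁻¹ by decide +kernel, map_inv] at h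
        simpa using (Commute.inv_right (h : Commute x _)).eq
    obtain ⟨i, p, rfl⟩ := C.cent_Z hZ
    exact range_le_big hN _
  exact normD_le_big hN (C.normD_of_off a b ha hb h)

theorem sq16_leL : C.sq16 hN ≤ I.L := (sq16_le hN).trans I.le

theorem sq16_odd {H : Subgroup G} (h1 : C.sq16 hN ≤ H) (h2 : H ≤ I.L) :
    Odd ((C.sq16 hN).relIndex H) := by
  have h225 : (C.sq16 hN).relIndex (C.pairs hN) = 225 := by
    have h := Subgroup.card_mul_index ((C.sq16 hN).subgroupOf (C.pairs hN))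
    rw [Nat.card_congr (subgroupOfEquivOfLe (sq16_le hN)).toEquiv, card_sq16, card_pairs] at h
    rw [show (C.sq16 hN).relIndex (C.pairs hN) = ((C.sq16 hN).subgroupOf (C.pairs hN)).index from rfl]
    omega
  have hL : Odd ((C.sq16 hN).relIndex I.L) := by
    rw [← relIndex_mul_relIndex _ _ _ (sq16_le hN) I.le, h225]
    exact Odd.mul (by decide) I.odd
  exact hL.of_dvd_nat ⟨H.relIndex I.L, (relIndex_mul_relIndex _ _ _ h1 h2).symm⟩

/-- The Sylow 2-subgroup. -/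
theorem exists_sylow {H : Subgroup G} (h1 : C.sq16 hN ≤ H) (h2 : H ≤ I.L) :
    ∃ P : Sylow 2 H, (P : Subgroup H) = (C.sq16 hN).subgroupOf H := by
  haveI := Fact.mk Nat.prime_two
  have hp : IsPGroup 2 ((C.sq16 hN).subgroupOf H) := IsPGroup.of_card (n := 4) (by
    rw [Nat.card_congr (subgroupOfEquivOfLe h1).toEquiv, card_sq16]; norm_num)
  exact ⟨hp.toSylow (by
    intro h
    have := (sq16_odd I h1 h2)
    rw [Nat.odd_iff] at this
    have h' : 2 ∣ (C.sq16 hN).relIndex H := h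
    omega), rfl⟩

theorem conj_dd_pairs (a b : Fin 3) :
    C.β (dd a b) = C.γ (c5 ^ a.val) * C.bp (c5 ^ b.val) := by
  rw [map_pow, map_pow, C.γ_c5, C.bp_c5, ← map_pow, ← map_pow, ← map_mul]
  exact congrArg C.β (Prod.ext (by simp [dd, eZ, eZ']) (by simp [dd, eZ, eZ']))

theorem norm_coord {p q : Perm (Fin 5)} (hp : Perm.sign p = 1) (hq : Perm.sign q = 1)
    (h : C.γ p * C.bp q ∈ normalizer (C.sq16 hN : Set G)) :
    (∃ (i j : Fin 2) (k : Fin 3), p = mV5 ^ i.val * mW5 ^ j.val * c5 ^ k.val) ∧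
    ∃ (i j : Fin 2) (k : Fin 3), q = mV5 ^ i.val * mW5 ^ j.val * c5 ^ k.val := by
  have key : ∀ v w, v ∈ K4 → w ∈ K4 → p * v * p⁻¹ ∈ K4 ∧ q * w * q⁻¹ ∈ K4 := by
    intro v w hv hw
    obtain ⟨v', w', hv', hw', e⟩ := (mem_normalizer_iff.1 h _).1 ⟨v, w, hv, hw, rfl⟩
    rw [pair_conj hN hp hq (K4_sign hv) (K4_sign hw)] at e
    obtain ⟨e1, e2⟩ := pair_inj hN (by rw [map_mul, map_mul, map_inv, hp, K4_sign hv]; simp)
      (by rw [map_mul, map_mul, map_inv, hq, K4_sign hw]; simp) (K4_sign hv') (K4_sign hw') e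
    exact ⟨e1 ▸ hv', e2 ▸ hw'⟩
  obtain ⟨h1, h2⟩ := key mV5 mV5 mem_K4_mV mem_K4_mV
  obtain ⟨h3, h4⟩ := key mW5 mW5 mem_K4_mW mem_K4_mW
  exact ⟨norm_K4 p hp ⟨h1, h3⟩, norm_K4 q hq ⟨h2, h4⟩⟩

/-- The normalizer of the Sylow 2-subgroup lies in the product. -/
theorem norm_pairs {x : G} (hx : x ∈ I.L) (hxn : x ∈ normalizer (C.sq16 hN : Set G)) :
    x ∈ C.pairs hN := by
  classical
  haveI := Fact.mk Nat.prime_three
  set O' := (normalizer (C.sq16 hN : Set G) ⊓ I.L : Subgroup G)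
  have hDm : ∀ a b : Fin 3, C.β (dd a b) ∈ O' := by
    intro a b
    have hk : ∀ v ∈ K4, ∀ a : Fin 3, c5 ^ a.val * v * (c5 ^ a.val)⁻¹ ∈ K4 := fun v hv a =>
      K4_conj_c5 hv a
    have hs : ∀ a : Fin 3, Perm.sign (c5 ^ a.val) = 1 := by decide +kernel
    refine ⟨?_, I.le (by rw [conj_dd_pairs]; exact pair_mem hN (hs a) (hs b))⟩
    have key : ∀ a b : Fin 3, ∀ y ∈ C.sq16 hN, C.β (dd a b) * y * (C.β (dd a b))⁻¹ ∈ C.sq16 hN := by
      rintro a b _ ⟨v, w, hv, hw, rfl⟩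
      rw [conj_dd_pairs, pair_conj hN (hs a) (hs b) (K4_sign hv) (K4_sign hw)]
      exact ⟨_, _, hk v hv a, hk w hw b, rfl⟩
    show C.β (dd a b) ∈ normalizer (C.sq16 hN : Set G)
    rw [mem_normalizer_iff]
    refine fun y => ⟨key a b y, fun hy => ?_⟩
    have h := key (-a) (-b) _ hy
    rw [← dd_inv, map_inv] at h
    simpa [mul_assoc] using h
  have hD : C.D ≤ O' := by rintro _ ⟨a, b, rfl⟩; exact hDm a b
  have hDp : IsPGroup 3 (C.D.subgroupOf O') := IsPGroup.of_card (n := 2) (by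
    rw [Nat.card_congr (subgroupOfEquivOfLe hD).toEquiv, C.card_D]; norm_num)
  obtain ⟨P, hP⟩ := hDp.exists_le_sylow
  have hPD : (P : Subgroup O') = C.D.subgroupOf O' := by
    refine (eq_of_le_of_card_ge hP ?_).symm
    rw [Nat.card_congr (subgroupOfEquivOfLe hD).toEquiv, C.card_D,
      ← Subgroup.card_map_of_injective O'.subtype_injective]
    exact Nat.le_of_dvd (by norm_num) (C.sylow_bound _ (P.2.map _))
  have hNC : normalizer ((P : Subgroup O') : Set O') ≤ centralizer (P : Set O') := by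
    intro n hn
    rw [hPD] at hn
    have hnD : ∀ d ∈ C.D, (n : G) * d * (n : G)⁻¹ ∈ C.D := by
      intro d hd
      have := (mem_normalizer_iff.1 hn ⟨d, hD hd⟩).1 (mem_subgroupOf.2 hd)
      simpa [mem_subgroupOf] using this
    have hnN : C.NormD (n : G) := fun i j => hnD _ (C.dd_mem i j)
    obtain ⟨p, q, hp, hq, hpq⟩ := I.big _ n.2.2 (normD_le_big hN hnN)
    have hn1 := n.2.1
    rw [hpq] at hn1
    obtain ⟨⟨i, j, k, hp'⟩, i', j', k', hq'⟩ := norm_coord hp hq hn1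
    obtain ⟨l, m, hlm⟩ := hnN 1 1
    have hs : Perm.sign c5 = 1 := by decide +kernel
    rw [hpq, conj_dd_pairs, conj_dd_pairs, Fin.val_one, pow_one, pair_conj hN hp hq hs hs] at hlm
    obtain ⟨e1, e2⟩ := pair_inj hN (by rw [map_mul, map_mul, map_inv, hp, hs]; simp)
      (by rw [map_mul, map_mul, map_inv, hq, hs]; simp)
      (by rw [map_pow, hs, one_pow]) (by rw [map_pow, hs, one_pow]) hlm
    rw [hp', norm_K4_c5 i j k ⟨l, hp' ▸ e1⟩] at hpq
    rw [hq', norm_K4_c5 i' j' k' ⟨m, hq' ▸ e2⟩, ← conj_dd_pairs] at hpq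
    rw [mem_centralizer_iff]
    intro d hd
    have hd' : (d : G) ∈ C.D := mem_subgroupOf.1 (SetLike.le_def.1 hPD.le hd)
    obtain ⟨r, s, hrs⟩ := hd'
    apply Subtype.ext
    show (d : G) * n = n * d
    rw [hrs, hpq, ← map_mul, ← map_mul, dd_mul, dd_mul, add_comm r, add_comm s]
  obtain ⟨F, hFn, hc, hnd⟩ : ∃ F : Subgroup O', F.Normal ∧ IsComplement' F (P : Subgroup O') ∧
      ¬ 3 ∣ Nat.card F :=
    ⟨_, (MonoidHom.transferSylow P hNC).normal_ker,
      MonoidHom.ker_transferSylow_isComplement' P hNC,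
      MonoidHom.not_dvd_card_ker_transferSylow P hNC⟩
  set K := F.map O'.subtype
  have hK3 : ¬ 3 ∣ Nat.card K := by rwa [Subgroup.card_map_of_injective O'.subtype_injective]
  have hDK : C.D ≤ normalizer (K : Set G) := by
    have key : ∀ d ∈ C.D, ∀ y ∈ K, d * y * d⁻¹ ∈ K := by
      rintro d hd _ ⟨w, hw, rfl⟩
      exact ⟨⟨d, hD hd⟩ * w * ⟨d, hD hd⟩⁻¹, hFn.conj_mem _ hw _, rfl⟩
    intro d hd
    rw [mem_normalizer_iff]
    refine fun y => ⟨key d hd y, fun hy => ?_⟩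
    have := key _ (inv_mem hd) _ hy
    simpa [mul_assoc] using this
  have hKle : K ≤ C.pairs hN := by
    haveI := C.D_comm
    have hcop : (Nat.card C.D).Coprime (Nat.card K) := by
      rw [C.card_D, show (9 : ℕ) = 3 ^ 2 by norm_num]
      exact Nat.Coprime.pow_left 2 ((Nat.prime_three.coprime_iff_not_dvd).2 hK3)
    refine (CfsgLib.CoprimeAct.generated_by_centralizers C.D_not_cyclic hDK hcop).symm.le.trans
      (iSup₂_le ?_)
    rintro d ⟨⟨a, b, rfl⟩, hd1⟩ y ⟨hy, hyc⟩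
    obtain ⟨w, -, rfl⟩ := hy
    exact fixed_pairs I w.2.2 (fun e => hd1 (by rw [e.1, e.2, dd_zero, map_one]))
      (mem_centralizer_singleton_iff.1 hyc)
  obtain ⟨⟨o, d⟩, hod⟩ :=
    (Subgroup.isComplement_iff_existsUnique.1 hc ⟨x, hxn, hx⟩).exists
  have hd : ((d : O') : G) ∈ C.pairs hN := by
    obtain ⟨a, b, h⟩ := mem_subgroupOf.1 (SetLike.le_def.1 hPD.le d.2)
    rw [h, conj_dd_pairs]
    have hs : ∀ a : Fin 3, Perm.sign (c5 ^ a.val) = 1 := by decide +kernel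
    exact pair_mem hN (hs a) (hs b)
  have e : ((o : O') : G) * ((d : O') : G) = x := congrArg Subtype.val hod
  rw [← e]
  exact mul_mem (hKle ⟨o, o.2, rfl⟩) hd

/-- Control of fusion in the Sylow 2-subgroup. -/
theorem fusion {H : Subgroup G} (h1 : C.sq16 hN ≤ H) (h2 : H ≤ I.L) {x k : G}
    (hx : x ∈ C.sq16 hN) (hk : k ∈ H) (hkx : k * x * k⁻¹ ∈ C.sq16 hN) :
    ∃ (i j i' j' : Fin 2) (l l' : Fin 3),
      C.γ (mV5 ^ i.val * mW5 ^ j.val * c5 ^ l.val) * C.bp (mV5 ^ i'.val * mW5 ^ j'.val * c5 ^ l'.val) ∈ H ∧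
      k * x * k⁻¹ =
        C.γ (mV5 ^ i.val * mW5 ^ j.val * c5 ^ l.val) * C.bp (mV5 ^ i'.val * mW5 ^ j'.val * c5 ^ l'.val) *
          x * (C.γ (mV5 ^ i.val * mW5 ^ j.val * c5 ^ l.val) *
            C.bp (mV5 ^ i'.val * mW5 ^ j'.val * c5 ^ l'.val))⁻¹ := by
  haveI := Fact.mk Nat.prime_two
  obtain ⟨P, hP⟩ := exists_sylow I h1 h2
  haveI : IsMulCommutative P := ⟨⟨fun a b => Subtype.ext (Subtype.ext (sq16_comm hN
    (mem_subgroupOf.1 (SetLike.le_def.1 hP.le a.2)) (mem_subgroupOf.1 (SetLike.le_def.1 hP.le b.2))))⟩⟩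
  let k' : H := ⟨k, hk⟩
  obtain ⟨n, hn, he⟩ := P.conj_eq_normalizer_conj_of_mem (⟨x, h1 hx⟩ : H) k'⁻¹
    (show (⟨x, h1 hx⟩ : H) ∈ (P : Subgroup H) by rw [hP]; exact mem_subgroupOf.2 hx)
    (show k'⁻¹⁻¹ * ⟨x, h1 hx⟩ * k'⁻¹ ∈ (P : Subgroup H) by
      rw [hP, mem_subgroupOf]; simpa using hkx)
  have he' : k * x * k⁻¹ = ((n : H) : G)⁻¹ * x * (n : G) := by
    have := congrArg Subtype.val he
    simpa [k'] using this
  have hn' : ((n : H) : G)⁻¹ ∈ normalizer (C.sq16 hN : Set G) := by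
    have hn2 : n⁻¹ ∈ normalizer ((P : Subgroup H) : Set H) := inv_mem hn
    rw [hP] at hn2
    rw [mem_normalizer_iff]
    intro y
    constructor
    · intro hy
      have := (mem_normalizer_iff.1 hn2 ⟨y, h1 hy⟩).1 (mem_subgroupOf.2 hy)
      simpa [mem_subgroupOf] using this
    · intro hy
      have hyH : y ∈ H := by
        have h := mul_mem (mul_mem n.2 (h1 hy)) (inv_mem n.2)
        simpa [mul_assoc] using h
      exact mem_subgroupOf.1 ((mem_normalizer_iff.1 hn2 ⟨y, hyH⟩).2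
        (by simpa [mem_subgroupOf] using hy))
  obtain ⟨p, q, hp, hq, hpq⟩ := norm_pairs I (h2 (inv_mem n.2)) hn'
  obtain ⟨⟨i, j, l, rfl⟩, i', j', l', rfl⟩ := norm_coord hp hq (hpq ▸ hn')
  refine ⟨i, j, i', j', l, l', hpq ▸ inv_mem n.2, ?_⟩
  rw [← hpq, he', inv_inv]

theorem not_conj_ua {k : G} (hk : k ∈ I.L) : k * C.bp mV5 * k⁻¹ ≠ C.γ mV5 := by
  intro h
  have hx : C.bp mV5 ∈ C.sq16 hN := ⟨1, mV5, K4.one_mem, mem_K4_mV, by simp⟩
  have hkx : k * C.bp mV5 * k⁻¹ ∈ C.sq16 hN := ⟨mV5, 1, mem_K4_mV, K4.one_mem, by simp [h]⟩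
  obtain ⟨i, j, i', j', l, l', -, he⟩ := fusion I (sq16_leL I) le_rfl hx hk hkx
  set p := mV5 ^ i.val * mW5 ^ j.val * c5 ^ l.val
  set q := mV5 ^ i'.val * mW5 ^ j'.val * c5 ^ l'.val
  have hs : ∀ (i j : Fin 2) (l : Fin 3), Perm.sign (mV5 ^ i.val * mW5 ^ j.val * c5 ^ l.val) = 1 := by
    decide +kernel
  have e : C.γ 1 * C.bp (q * mV5 * q⁻¹) = C.γ mV5 * C.bp 1 := by
    have h' := pair_conj hN (hs i j l) (hs i' j' l') (map_one _) (K4_sign mem_K4_mV)
    rw [map_one, one_mul] at h'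
    rw [← he, h, mul_one, mul_inv_cancel, map_one C.γ, one_mul] at h'
    rw [map_one C.bp, mul_one, map_one C.γ, one_mul]
    exact h'.symm
  obtain ⟨h1, -⟩ := pair_inj hN (map_one _)
    (by rw [map_mul, map_mul, map_inv, hs, K4_sign mem_K4_mV]; simp) (K4_sign mem_K4_mV) (map_one _) e
  exact absurd h1 (by decide +kernel)

/-- The centralizer of `u`. -/
theorem cent_u {x : G} (hx : x ∈ I.L) (hxu : x * C.bp mV5 = C.bp mV5 * x) : x ∈ C.pairs hN := by
  classical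
  haveI := Fact.mk Nat.prime_two
  set J := (centralizer ({C.bp mV5} : Set G) ⊓ I.L : Subgroup G)
  have hsu : C.bp mV5 ∈ C.sq16 hN := ⟨1, mV5, K4.one_mem, mem_K4_mV, by simp⟩
  have hJ1 : C.sq16 hN ≤ J := fun y hy =>
    ⟨mem_centralizer_singleton_iff.2 (sq16_comm hN hy hsu), sq16_leL I hy⟩
  have hJ2 : J ≤ I.L := inf_le_right
  obtain ⟨P, hP⟩ := exists_sylow I hJ1 hJ2
  letI : CommGroup K4 := { (inferInstance : Group K4) with
    mul_comm := fun a b => Subtype.ext (K4_comm a.2 b.2) }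
  have hco : ∀ y : (P : Subgroup J), ∃ w : K4, ∃ v ∈ K4, ((y : J) : G) = C.γ v * C.bp w := by
    intro y
    obtain ⟨v, w, hv, hw, h⟩ := mem_subgroupOf.1 (SetLike.le_def.1 hP.le y.2)
    exact ⟨⟨w, hw⟩, v, hv, h⟩
  choose co cv hcv hco' using hco
  have hcu : ∀ (y : (P : Subgroup J)) (v w : Perm (Fin 5)), v ∈ K4 → w ∈ K4 →
      ((y : J) : G) = C.γ v * C.bp w → (co y : Perm (Fin 5)) = w := fun y v w hv hw h =>
    (pair_inj hN (K4_sign (hcv y)) (K4_sign (co y).2) (K4_sign hv) (K4_sign hw)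
      ((hco' y).symm.trans h)).2
  let pr : (P : Subgroup J) →* K4 :=
    { toFun := co
      map_one' := Subtype.ext (hcu 1 1 1 K4.one_mem K4.one_mem (by simp))
      map_mul' := fun a b => Subtype.ext (hcu (a * b) (cv a * cv b) (co a * co b)
        (K4.mul_mem (hcv a) (hcv b)) (K4.mul_mem (co a).2 (co b).2) (by
          rw [Subgroup.coe_mul, Subgroup.coe_mul, hco' a, hco' b]
          exact pair_mul hN (K4_sign (co a).2) (K4_sign (hcv b)))) }
  haveI : (P : Subgroup J).FiniteIndex := inferInstance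
  let χ : J →* K4 := MonoidHom.transfer pr
  have hodd : Odd (P : Subgroup J).index := by
    have := sq16_odd I hJ1 hJ2
    rw [show (C.sq16 hN).relIndex J = ((C.sq16 hN).subgroupOf J).index from rfl, ← hP] at this
    exact this
  have hbpJ : ∀ w ∈ K4, C.bp w ∈ J := fun w hw => hJ1 ⟨1, w, K4.one_mem, hw, by simp⟩
  have hχv : ∀ (w : Perm (Fin 5)) (hw : w ∈ K4), χ ⟨C.bp w, hbpJ w hw⟩ = ⟨w, hw⟩ := by
    intro w hw
    have key : ∀ (k : ℕ) (g0 : J), g0⁻¹ * (⟨C.bp w, hbpJ w hw⟩ : J) ^ k * g0 ∈ (P : Subgroup J) →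
        g0⁻¹ * (⟨C.bp w, hbpJ w hw⟩ : J) ^ k * g0 = (⟨C.bp w, hbpJ w hw⟩ : J) ^ k := by
      intro k g0 hmem
      apply Subtype.ext
      simp only [Subgroup.coe_mul, Subgroup.coe_inv, Subgroup.coe_pow]
      rw [hP, mem_subgroupOf] at hmem
      simp only [Subgroup.coe_mul, Subgroup.coe_inv, Subgroup.coe_pow] at hmem
      have hwk : w ^ k ∈ K4 := pow_mem hw k
      rw [← map_pow] at hmem ⊢
      have hx : C.bp (w ^ k) ∈ C.sq16 hN := ⟨1, _, K4.one_mem, hwk, by simp⟩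
      obtain ⟨i, j, i', j', l, l', hmemJ, he⟩ := fusion I hJ1 hJ2 hx (inv_mem g0.2)
        (by simpa using hmem)
      rw [inv_inv] at he
      rw [he]
      set p := mV5 ^ i.val * mW5 ^ j.val * c5 ^ l.val
      set q := mV5 ^ i'.val * mW5 ^ j'.val * c5 ^ l'.val
      have hs : ∀ (i j : Fin 2) (l : Fin 3), Perm.sign (mV5 ^ i.val * mW5 ^ j.val * c5 ^ l.val) = 1 := by
        decide +kernel
      have hu := mem_centralizer_singleton_iff.1 hmemJ.1
      have hu' : C.γ p * C.bp (q * mV5) = C.γ p * C.bp (mV5 * q) := by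
        rw [map_mul C.bp q mV5, map_mul C.bp mV5 q, ← mul_assoc, hu, ← mul_assoc,
          ← (comm5 hN p mV5 (hs i j l) (K4_sign mem_K4_mV)).eq, mul_assoc]
      have hl : l' = 0 := norm_K4_fix i' j' l' (C.bp_inj (mul_left_cancel hu'))
      have hq : q ∈ K4 := ⟨i', j', by simp [q, hl]⟩
      have h' := pair_conj hN (hs i j l) (K4_sign hq) (map_one _) (K4_sign hwk)
      rw [map_one, one_mul] at h'
      rw [h', mul_one, mul_inv_cancel, map_one, one_mul, K4_comm hq hwk, mul_inv_cancel_right]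
    show MonoidHom.transfer pr _ = _
    rw [MonoidHom.transfer_eq_pow pr _ key]
    obtain ⟨m, hm⟩ := hodd
    refine Subtype.ext (hcu _ 1 w K4.one_mem hw ?_)
    show ((⟨C.bp w, hbpJ w hw⟩ : J) ^ (P : Subgroup J).index : J).1 = C.γ 1 * C.bp w
    rw [Subgroup.coe_pow, map_one, one_mul, hm, ← map_pow]
    congr 1
    exact congrArg Subtype.val (K4_odd_pow (w := ⟨w, hw⟩) ⟨m, rfl⟩)
  have hγJ : ∀ p, Perm.sign p = 1 → C.γ p ∈ J := fun p hp =>
    ⟨mem_centralizer_singleton_iff.2 (comm5 hN p mV5 hp (K4_sign mem_K4_mV)).eq, I.le (γ_mem hN hp)⟩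
  set R := ↥χ.ker
  have hγker : ∀ (p : Perm (Fin 5)) (hp : Perm.sign p = 1), χ ⟨C.γ p, hγJ p hp⟩ = 1 := by
    let S : Subgroup (Perm (Fin 5)) := (χ.ker.map J.subtype).comap C.γ
    have hm : ∀ p (hp : Perm.sign p = 1), p ^ 15 = 1 → p ∈ S := by
      intro p hp h15
      refine ⟨⟨C.γ p, hγJ p hp⟩, ?_, rfl⟩
      rw [SetLike.mem_coe, MonoidHom.mem_ker, ← K4_odd_pow (w := χ _) (n := 15) (by decide), ← map_pow,
        show (⟨C.γ p, hγJ p hp⟩ : J) ^ 15 = 1 from Subtype.ext (by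
          rw [Subgroup.coe_pow, ← map_pow, h15, map_one]; rfl), map_one]
    intro p hp
    obtain ⟨w, hw, hwp⟩ := even_mem_of_fifteen S (hm c5 (by decide +kernel) (by decide +kernel))
      (hm (mV5 * u5) (by decide +kernel) (by decide +kernel)) (by decide +kernel) (by decide +kernel) hp
    rw [← show w = ⟨C.γ p, hγJ p hp⟩ from Subtype.ext hwp]
    exact hw
  let δ : alternatingGroup (Fin 5) →* R :=
    { toFun := fun p => ⟨⟨C.γ p, hγJ p p.2⟩, hγker p p.2⟩
      map_one' := Subtype.ext (Subtype.ext (map_one C.γ))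
      map_mul' := fun p q => Subtype.ext (Subtype.ext (map_mul C.γ (p : Perm (Fin 5)) q)) }
  have hδ : Function.Injective δ := fun p q h => Subtype.ext (C.γ_inj
    (congrArg (fun r : R => ((r : J) : G)) h :))
  let c : alternatingGroup (Fin 5) := ⟨c5, mem_alternatingGroup.2 (by decide +kernel)⟩
  have hc3 : orderOf (δ c) = 3 := by
    haveI := Fact.mk Nat.prime_three
    rw [orderOf_injective δ hδ]
    exact orderOf_eq_prime (Subtype.ext (by decide +kernel : c5 ^ 3 = 1))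
      (fun e => absurd (congrArg Subtype.val e) (show c5 ≠ 1 by decide +kernel))
  have hcen : centralizer (zpowers (δ c) : Set R) = zpowers (δ c) := by
    refine le_antisymm (fun r hr => ?_) fun r hr => ?_
    · have h : ((r : J) : G) * C.γ c5 = C.γ c5 * ((r : J) : G) :=
        (congrArg (fun r : R => ((r : J) : G)) (mem_centralizer_iff.1 hr _ (mem_zpowers _)) :).symm
      have hrJ := (r : J).2
      rw [C.γ_c5] at h
      obtain ⟨p, q, hp, hq, hpq⟩ := fixed_pairs I (a := 1) (b := 0) hrJ.2 (by simp)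
        (by rw [dd_one_zero]; exact h)
      rw [← C.γ_c5, hpq, mul_assoc, ← (comm5 hN c5 q (by decide +kernel) hq).eq, ← mul_assoc,
        ← mul_assoc, ← map_mul, ← map_mul] at h
      obtain ⟨i, hi⟩ := centC5 p hp (C.γ_inj (mul_right_cancel h))
      have hu := mem_centralizer_singleton_iff.1 hrJ.1
      rw [hpq, mul_assoc, ← mul_assoc (C.bp mV5), ← (comm5 hN p mV5 hp (K4_sign mem_K4_mV)).eq,
        mul_assoc (C.γ p) (C.bp mV5), ← map_mul, ← map_mul] at hu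
      obtain ⟨i', j', hq'⟩ := cent_mV q hq (C.bp_inj (mul_left_cancel hu))
      have hqK : q ∈ K4 := ⟨i', j', hq'⟩
      have e : (r : J) = ⟨C.γ p, hγJ p hp⟩ * ⟨C.bp q, hbpJ q hqK⟩ := Subtype.ext hpq
      have hq1 : q = 1 := by
        have h1 : χ (r : J) = 1 := r.2
        rw [e, map_mul, hγker p hp, one_mul, hχv q hqK] at h1
        exact congrArg Subtype.val h1
      refine mem_zpowers_iff.2 ⟨(i.val : ℤ), Subtype.ext (Subtype.ext ?_)⟩
      rw [zpow_natCast, hpq, hq1, map_one, mul_one, hi, map_pow]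
      rfl
    · rw [mem_centralizer_iff]
      intro w hw
      obtain ⟨k, rfl⟩ := mem_zpowers_iff.1 hr
      obtain ⟨l, rfl⟩ := mem_zpowers_iff.1 hw
      exact (Commute.zpow_zpow (Commute.refl _) l k).eq
  obtain ⟨E, hEn, hE2, -, ⟨eE⟩, -⟩ := alt5_trichotomy (zpowers (δ c))
    (by rw [Nat.card_zpowers, hc3]) hcen δ hδ
  haveI := hEn
  have hsurj : Function.Surjective χ := fun w => ⟨⟨C.bp w, hbpJ w w.2⟩, hχv w w.2⟩
  have hR : Nat.card R = 60 := by
    have h1 := Subgroup.card_mul_index χ.ker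
    rw [Subgroup.index_ker, MonoidHom.range_eq_top.2 hsurj, Subgroup.card_top, card_K4] at h1
    have h2 := Subgroup.card_mul_index (P : Subgroup J)
    rw [hP, Nat.card_congr (subgroupOfEquivOfLe hJ1).toEquiv, card_sq16, ← hP] at h2
    obtain ⟨m, hm⟩ := hodd
    have h3 : Nat.card R = Nat.card (R ⧸ E) * Nat.card E :=
      Subgroup.card_eq_card_quotient_mul_card_subgroup E
    rw [Nat.card_congr eE.toEquiv, card_alt5] at h3
    have hEp : IsPGroup 2 E := fun w => ⟨1, Subtype.ext (by simpa using hE2 w.1 w.2)⟩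
    obtain ⟨n, hn⟩ := IsPGroup.iff_card.1 hEp
    rcases n with _ | n
    · rw [h3, hn]; norm_num
    · exfalso
      rw [hm] at h2
      rw [h3, hn, pow_succ] at h1
      omega
  have hδs : Function.Surjective δ :=
    (hδ.bijective_of_nat_card_le (by rw [hR, card_alt5])).2
  -- conclusion
  set xJ : J := ⟨x, mem_centralizer_singleton_iff.2 hxu, hx⟩
  set w := χ xJ
  have hker : xJ * ⟨C.bp w, hbpJ w w.2⟩ ∈ χ.ker := by
    rw [MonoidHom.mem_ker, map_mul, hχv w w.2]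
    show w * ⟨w, _⟩ = 1
    exact Subtype.ext (K4_exp w.2)
  obtain ⟨p, hp⟩ := hδs ⟨_, hker⟩
  have e : C.γ (p : Perm (Fin 5)) = x * C.bp w := congrArg (fun r : R => ((r : J) : G)) hp
  have e2 : x = C.γ (p : Perm (Fin 5)) * C.bp w := by
    rw [e, mul_assoc, ← map_mul, K4_exp w.2, map_one, mul_one]
  rw [e2]
  exact pair_mem hN p.2 (K4_sign w.2)

/-- The centralizer of `au`. -/
theorem cent_au {x : G} (hx : x ∈ I.L)
    (hxu : x * (C.γ mV5 * C.bp mV5) = C.γ mV5 * C.bp mV5 * x) : x ∈ C.pairs hN := by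
  classical
  haveI := Fact.mk Nat.prime_two
  set J := (centralizer ({C.γ mV5 * C.bp mV5} : Set G) ⊓ I.L : Subgroup G)
  have hau : C.γ mV5 * C.bp mV5 ∈ C.sq16 hN := ⟨_, _, mem_K4_mV, mem_K4_mV, rfl⟩
  have hJ1 : C.sq16 hN ≤ J := fun y hy =>
    ⟨mem_centralizer_singleton_iff.2 (sq16_comm hN hy hau), sq16_leL I hy⟩
  obtain ⟨P, hP⟩ := exists_sylow I hJ1 inf_le_right
  have hNC : normalizer ((P : Subgroup J) : Set J) ≤ centralizer (P : Set J) := by
    intro n hn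
    rw [hP] at hn
    have hn' : (n : G) ∈ normalizer (C.sq16 hN : Set G) := by
      rw [mem_normalizer_iff]
      intro y
      constructor
      · intro hy
        have := (mem_normalizer_iff.1 hn ⟨y, hJ1 hy⟩).1 (mem_subgroupOf.2 hy)
        simpa [mem_subgroupOf] using this
      · intro hy
        have hyH : y ∈ J := by
          have h := mul_mem (mul_mem (inv_mem n.2) (hJ1 hy)) n.2
          simpa [mul_assoc] using h
        exact mem_subgroupOf.1 ((mem_normalizer_iff.1 hn ⟨y, hyH⟩).2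
          (by simpa [mem_subgroupOf] using hy))
    obtain ⟨p, q, hp, hq, hpq⟩ := norm_pairs I n.2.2 hn'
    obtain ⟨⟨i, j, k, hp'⟩, i', j', k', hq'⟩ := norm_coord hp hq (hpq ▸ hn')
    have hc := mem_centralizer_singleton_iff.1 n.2.1
    rw [hpq, pair_mul hN hq (K4_sign mem_K4_mV), pair_mul hN (K4_sign mem_K4_mV) hp] at hc
    obtain ⟨e1, e2⟩ := pair_inj hN (by rw [map_mul, hp, K4_sign mem_K4_mV, one_mul])
      (by rw [map_mul, hq, K4_sign mem_K4_mV, one_mul])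
      (by rw [map_mul, hp, K4_sign mem_K4_mV, one_mul])
      (by rw [map_mul, hq, K4_sign mem_K4_mV, one_mul]) hc
    have hk : k = 0 := norm_K4_fix i j k (by rw [← hp']; exact e1)
    have hk' : k' = 0 := norm_K4_fix i' j' k' (by rw [← hq']; exact e2)
    have hns : (n : G) ∈ C.sq16 hN :=
      ⟨p, q, ⟨i, j, by rw [hp', hk]; simp⟩, ⟨i', j', by rw [hq', hk']; simp⟩, hpq⟩
    rw [mem_centralizer_iff]
    intro y hy
    exact Subtype.ext (sq16_comm hN (mem_subgroupOf.1 (SetLike.le_def.1 hP.le hy)) hns)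
  obtain ⟨F, hFn, hc, hnd⟩ : ∃ F : Subgroup J, F.Normal ∧ IsComplement' F (P : Subgroup J) ∧
      ¬ 2 ∣ Nat.card F :=
    ⟨_, (MonoidHom.transferSylow P hNC).normal_ker,
      MonoidHom.ker_transferSylow_isComplement' P hNC,
      MonoidHom.not_dvd_card_ker_transferSylow P hNC⟩
  set O := F.map J.subtype
  have hO2 : ¬ 2 ∣ Nat.card O := by rwa [Subgroup.card_map_of_injective J.subtype_injective]
  set V := K4.map C.bp
  have hVle : V ≤ C.sq16 hN := by
    rintro _ ⟨w, hw, rfl⟩; exact ⟨1, w, K4.one_mem, hw, by simp⟩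
  have hV4 : Nat.card V = 4 := by rw [Subgroup.card_map_of_injective C.bp_inj, card_K4]
  have hVc : IsMulCommutative V :=
    ⟨⟨fun a b => Subtype.ext (sq16_comm hN (hVle a.2) (hVle b.2))⟩⟩
  have hVnc : ¬ IsCyclic V := by
    intro h
    obtain ⟨g, hg⟩ := h.exists_generator
    have h1 := orderOf_eq_card_of_forall_mem_zpowers hg
    have h2 : g ^ 2 = 1 := by
      obtain ⟨w, hw, e⟩ := g.2
      apply Subtype.ext
      rw [Subgroup.coe_pow, ← e, ← map_pow, sq, K4_exp hw, map_one]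
      rfl
    have := Nat.le_of_dvd (by norm_num) (orderOf_dvd_of_pow_eq_one h2)
    omega
  have hOle : O ≤ C.pairs hN := by
    have hVn : V ≤ normalizer (O : Set G) := by
      have key : ∀ v ∈ V, ∀ y ∈ O, v * y * v⁻¹ ∈ O := by
        rintro v hv _ ⟨w, hw, rfl⟩
        exact ⟨⟨v, hJ1 (hVle hv)⟩ * w * ⟨v, hJ1 (hVle hv)⟩⁻¹, hFn.conj_mem _ hw _, rfl⟩
      intro v hv
      rw [mem_normalizer_iff]
      refine fun y => ⟨key v hv y, fun hy => ?_⟩
      have := key _ (inv_mem hv) _ hy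
      simpa [mul_assoc] using this
    have hcop : (Nat.card V).Coprime (Nat.card O) := by
      rw [hV4, show (4 : ℕ) = 2 ^ 2 by norm_num]
      exact Nat.Coprime.pow_left 2 ((Nat.prime_two.coprime_iff_not_dvd).2 hO2)
    refine (CfsgLib.CoprimeAct.generated_by_centralizers hVnc hVn hcop).symm.le.trans (iSup₂_le ?_)
    rintro v ⟨⟨w, hw, rfl⟩, hv1⟩ y ⟨hy, hyc⟩
    obtain ⟨y', -, rfl⟩ := hy
    obtain ⟨i, j, rfl⟩ := hw
    obtain ⟨k, hk⟩ := K4_to_mV i j (fun e => hv1 (by rw [e, map_one]))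
    have hkp : C.bp (c5 ^ k.val) ∈ C.pairs hN :=
      bp_mem hN (by rw [map_pow, show Perm.sign c5 = 1 by decide +kernel, one_pow])
    have h1 := cent_u I (x := C.bp (c5 ^ k.val) * (y' : G) * (C.bp (c5 ^ k.val))⁻¹)
      (mul_mem (mul_mem (I.le hkp) y'.2.2) (inv_mem (I.le hkp))) (by
        rw [← hk, map_mul, map_mul, map_inv]
        exact ((show Commute (y' : G) _ from mem_centralizer_singleton_iff.1 hyc).map
          (MulAut.conj (C.bp (c5 ^ k.val))).toMonoidHom).eq)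
    have h2 := mul_mem (mul_mem (inv_mem hkp) h1) hkp
    rw [show (C.bp (c5 ^ k.val))⁻¹ * (C.bp (c5 ^ k.val) * (y' : G) * (C.bp (c5 ^ k.val))⁻¹) *
      C.bp (c5 ^ k.val) = y' by group] at h2
    exact h2
  obtain ⟨⟨o, d⟩, hod⟩ :=
    (Subgroup.isComplement_iff_existsUnique.1 hc ⟨x, mem_centralizer_singleton_iff.2 hxu, hx⟩).exists
  have hd : ((d : J) : G) ∈ C.pairs hN :=
    sq16_le hN (mem_subgroupOf.1 (SetLike.le_def.1 hP.le d.2))
  have e : ((o : J) : G) * ((d : J) : G) = x := congrArg Subtype.val hod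
  rw [← e]
  exact mul_mem (hOle ⟨o, o.2, rfl⟩) hd

theorem cent_a {x : G} (hx : x ∈ I.L) (hxa : x * C.γ mV5 = C.γ mV5 * x) : x ∈ C.pairs hN := by
  have h1 := cent_u I (x := C.g * x * C.g⁻¹) (I.gconj x hx) (by
    have := (show Commute x _ from hxa).map (MulAut.conj C.g).toMonoidHom
    simp only [MulEquiv.coe_toMonoidHom, MulAut.conj_apply, C.g_γ] at this
    exact this.eq)
  have h2 := big_normalizes hN (g_mem_big hN) h1
  rwa [C.gconj] at h2

theorem cent_inv {k x : G} (hk : k ∈ C.pairs hN) (h2 : k * k = 1) (h1 : k ≠ 1) (hx : x ∈ I.L)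
    (h : x * k = k * x) : x ∈ C.pairs hN := by
  obtain ⟨n, hn, hrep⟩ := rep_pairs hN hk h2 h1
  suffices n * x * n⁻¹ ∈ C.pairs hN by
    have h3 := mul_mem (mul_mem (inv_mem hn) this) hn
    rwa [show n⁻¹ * (n * x * n⁻¹) * n = x by group] at h3
  have hxL : n * x * n⁻¹ ∈ I.L := mul_mem (mul_mem (I.le hn) hx) (inv_mem (I.le hn))
  have hc : n * x * n⁻¹ * (n * k * n⁻¹) = n * k * n⁻¹ * (n * x * n⁻¹) :=
    ((show Commute x k from h).map (MulAut.conj n).toMonoidHom).eq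
  rcases hrep with e | e | e <;> rw [e] at hc
  · exact cent_a I hxL hc
  · exact cent_u I hxL hc
  · exact cent_au I hxL hc

/-- The subgroup of index 4 is the product. -/
theorem inner_eq : I.L = C.pairs hN := by
  refine le_antisymm (fun x hx => ?_) I.le
  set a := C.γ mV5
  set u := C.bp mV5
  have hm2 : mV5 * mV5 = 1 := by decide +kernel
  have hu2 : u * u = 1 := by rw [← map_mul, hm2, map_one]
  have ha2 : a * a = 1 := by rw [← map_mul, hm2, map_one]
  have hm1 : mV5 ≠ 1 := by decide +kernel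
  have hu1 : u ≠ 1 := fun h => hm1 (C.bp_inj (h.trans (map_one C.bp).symm))
  have haN : a ∈ C.pairs hN := γ_mem hN (K4_sign mem_K4_mV)
  have huN : u ∈ C.pairs hN := bp_mem hN (K4_sign mem_K4_mV)
  set t := x * a * x⁻¹ with ht
  have htL : t ∈ I.L := mul_mem (mul_mem hx (I.le haN)) (inv_mem hx)
  have ht2 : t * t = 1 := by
    rw [show t * t = x * (a * a) * x⁻¹ by rw [ht]; group, ha2, mul_one, mul_inv_cancel]
  have ht1 : t ≠ 1 := fun h => hm1 (C.γ_inj ((conj_eq_one_iff.1 h).trans (map_one C.γ).symm))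
  set c := u * t with hc
  have hcL : c ∈ I.L := mul_mem (I.le huN) htL
  rcases Nat.even_or_odd' (orderOf c) with ⟨k, hk | hk⟩
  swap
  · exfalso
    have e := eq_of_odd hu2 ht2 (c := 1) (i := k) (by rw [← hk]; exact pow_orderOf_eq_one _)
    rw [one_mul, ht] at e
    refine not_conj_ua I (k := x⁻¹ * c ^ k) (mul_mem (inv_mem hx) (pow_mem hcL k)) ?_
    rw [show x⁻¹ * c ^ k * u * (x⁻¹ * c ^ k)⁻¹ = x⁻¹ * (c ^ k * u * (c ^ k)⁻¹) * x by group, hc, e]
    group
    rfl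
  set r := c ^ k with hr
  have hrr : r * r = 1 := by rw [hr, ← pow_add, ← two_mul, ← hk, pow_orderOf_eq_one]
  have hri : r⁻¹ = r := inv_eq_of_mul_eq_one_right hrr
  have hr1 : r ≠ 1 := by
    intro e
    have hpos := orderOf_pos c
    have := Nat.le_of_dvd (by omega) (orderOf_dvd_of_pow_eq_one e)
    omega
  obtain ⟨i1, i2⟩ := power_inverted hu2 ht2 k
  rw [← hc, ← hr] at i1 i2
  have hru : r * u = u * r := (mul_inv_eq_iff_eq_mul.1 (i1.trans hri)).symm
  have hrt : t * r = r * t := mul_inv_eq_iff_eq_mul.1 (i2.trans hri)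
  have hrN : r ∈ C.pairs hN := cent_u I (pow_mem hcL k) hru
  have htN : t ∈ C.pairs hN := cent_inv I hrN hrr hr1 htL hrt
  obtain ⟨n, hn, hrep⟩ := rep_pairs hN htN ht2 ht1
  have hnx : n * x ∈ I.L := mul_mem (I.le hn) hx
  have e0 : n * t * n⁻¹ = n * x * a * (n * x)⁻¹ := by rw [ht]; group
  rcases hrep with e | e | e <;> rw [e0] at e
  · have h1 := cent_a I hnx (mul_inv_eq_iff_eq_mul.1 e)
    have h2 := mul_mem (inv_mem hn) h1
    rwa [inv_mul_cancel_left] at h2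
  · exfalso
    refine not_conj_ua I (k := (n * x)⁻¹) (inv_mem hnx) ?_
    rw [← e]; group
    rfl
  · exfalso
    have hkx : n * x * a * (n * x)⁻¹ ∈ C.sq16 hN := by
      rw [e]; exact ⟨_, _, mem_K4_mV, mem_K4_mV, rfl⟩
    obtain ⟨i, j, i', j', l, l', -, he⟩ := fusion I (sq16_leL I) le_rfl
      (x := a) ⟨mV5, 1, mem_K4_mV, K4.one_mem, by simp [a]⟩ hnx hkx
    have hs : ∀ (i j : Fin 2) (l : Fin 3), Perm.sign (mV5 ^ i.val * mW5 ^ j.val * c5 ^ l.val) = 1 := by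
      decide +kernel
    set p := mV5 ^ i.val * mW5 ^ j.val * c5 ^ l.val
    set q := mV5 ^ i'.val * mW5 ^ j'.val * c5 ^ l'.val
    have h' := pair_conj hN (hs i j l) (hs i' j' l') (K4_sign mem_K4_mV) (map_one _)
    rw [map_one C.bp, mul_one (C.γ mV5)] at h'
    rw [e, h'] at he
    obtain ⟨-, h2⟩ := pair_inj hN (K4_sign mem_K4_mV) (K4_sign mem_K4_mV)
      (by rw [map_mul, map_mul, map_inv, hs, K4_sign mem_K4_mV]; simp)
      (by rw [map_mul, map_mul, map_inv, hs, map_one]; simp) he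
    rw [mul_one, mul_inv_cancel] at h2
    exact hm1 h2

end Ctx

end CfsgLib.ThreeLocalSymEight
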