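import Cfsg.Agent.ThreeLocalSymEight.ExcBase
import Cfsg.Agent.S3331

/-!
The exceptional case: two transfers give a subgroup of index 4 containing the two copies of
`Alt(5)` with odd index.
-/

set_option autoImplicit false
set_option maxRecDepth 100000

namespace CfsgLib.ThreeLocalSymEight

open Subgroup Equiv Equiv.Perm
open CfsgLib.ThreeLocalEight (c3 t3 c5 fin3_ne card_centralizer_conj card_psl_two_seven)

universe u

theorem mem_of_index_two_of_pow {H : Type*} [Group H] {S : Subgroup H} (hS : S.index = 2) {x : H}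
    (hx : x ^ 15 = 1) : x ∈ S := by
  have h : x = (x ^ 2) ^ 8 := by
    rw [← pow_mul, show 2 * 8 = 15 + 1 from rfl, pow_add, hx, one_mul, pow_one]
  rw [h]
  exact pow_mem (Subgroup.sq_mem_of_index_two hS x) 8

theorem mult_two : ∀ a b : Multiplicative (ZMod 2), a ≠ 1 → b ≠ 1 → a * b = 1 := by decide

theorem centC5 : ∀ p : Perm (Fin 5), Perm.sign p = 1 → p * c5 = c5 * p →
    ∃ i : Fin 3, p = c5 ^ i.val := by decide +kernel

theorem cent_t5_move : ∀ p : Perm (Fin 5), Perm.sign p = 1 → t5 * p * t5 = p →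
    p * c5 * p⁻¹ = c5 ∨ p * c5 * p⁻¹ = c5⁻¹ := by decide +kernel

theorem card_alt5 : Nat.card (alternatingGroup (Fin 5)) = 60 := by
  rw [nat_card_alternatingGroup, Nat.card_fin]; rfl

/-- A group with a self-centralising subgroup of order 3 containing a copy of `Alt(5)` is an
extension of an elementary abelian 2-group by `Alt(5)`. -/
theorem alt5_trichotomy {R : Type*} [Group R] [Finite R] (X : Subgroup R) (hX : Nat.card X = 3)
    (hC : centralizer (X : Set R) = X) (δ : alternatingGroup (Fin 5) →* R)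
    (hδ : Function.Injective δ) :
    ∃ (N : Subgroup R) (_ : N.Normal), (∀ n ∈ N, n ^ 2 = 1) ∧ (Nat.card N).Coprime 3 ∧
      Nonempty (R ⧸ N ≃* alternatingGroup (Fin 5)) ∧ (∀ p, δ p ∈ N → p = 1) := by
  haveI := alternatingGroup.isSimpleGroup (α := Fin 5) (by simp)
  have hbot : ∀ (N : Subgroup R) [N.Normal], (Nat.card N).Coprime 3 → ∀ p, δ p ∈ N → p = 1 := by
    intro N hn hN p hp
    rcases (hn.comap δ).eq_bot_or_eq_top with h | h
    · have : p ∈ N.comap δ := hp
      rwa [h, mem_bot] at this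
    · exfalso
      let c : alternatingGroup (Fin 5) :=
        ⟨c5, mem_alternatingGroup.2 (by decide +kernel)⟩
      have hc : δ c ∈ N := show c ∈ N.comap δ from h ▸ mem_top _
      have h3 : orderOf (δ c) = 3 := by
        haveI := Fact.mk Nat.prime_three
        rw [orderOf_injective δ hδ]
        exact orderOf_eq_prime (Subtype.ext (by decide +kernel : c5 ^ 3 = 1))
          (fun e => absurd (congrArg Subtype.val e) (show c5 ≠ 1 by decide +kernel))
      have h13 := Nat.eq_one_of_dvd_coprimes hN (h3 ▸ N.orderOf_dvd_natCard hc) dvd_rfl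
      omega
  rcases Cfsg.Agent.S3331.result X hX hC with
    ⟨N, hN, -, h3, hq⟩ | ⟨N, hN, -, hN2, heq⟩ | h7
  · exfalso
    haveI := hN
    let f : alternatingGroup (Fin 5) →* R ⧸ N := (QuotientGroup.mk' N).comp δ
    have hf : Function.Injective f := by
      rw [injective_iff_map_eq_one]
      intro p hp
      exact hbot N h3 p ((QuotientGroup.eq_one_iff _).1 hp)
    have hle := Nat.card_le_card_of_injective f hf
    rw [card_alt5] at hle
    rcases hq with h | ⟨⟨eq⟩⟩
    · omega
    · rw [Nat.card_congr eq.toEquiv, Nat.card_perm, Nat.card_fin] at hle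
      exact absurd hle (by decide)
  · haveI := hN
    have h3 : (Nat.card N).Coprime 3 := by
      have hp : IsPGroup 2 N := fun w => ⟨1, Subtype.ext (by simpa using hN2 w.1 w.2)⟩
      haveI := Fact.mk Nat.prime_two
      obtain ⟨n, hn⟩ := IsPGroup.iff_card.1 hp
      rw [hn]
      exact Nat.Coprime.pow_left n (by decide)
    exact ⟨N, hN, hN2, h3, heq, hbot N h3⟩
  · exfalso
    obtain ⟨eq⟩ := h7
    have h := Subgroup.card_subgroup_dvd_card δ.range
    rw [← Nat.card_congr (MonoidHom.ofInjective hδ).toEquiv, card_alt5,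
      Nat.card_congr eq.toEquiv, card_psl_two_seven] at h
    norm_num at h

namespace Ctx

variable {G : Type u} [Group G] {C : Ctx G} [Finite G]

variable (C)

/-- The product of the two four-groups. -/
def sq16 (hN : C.NCase) : Subgroup G where
  carrier := {x | ∃ v w : Perm (Fin 5), v ∈ K4 ∧ w ∈ K4 ∧ x = C.γ v * C.bp w}
  one_mem' := ⟨1, 1, K4.one_mem, K4.one_mem, by simp⟩
  mul_mem' := by
    rintro _ _ ⟨v, w, hv, hw, rfl⟩ ⟨v', w', hv', hw', rfl⟩
    exact ⟨v * v', w * w', K4.mul_mem hv hv', K4.mul_mem hw hw',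
      pair_mul hN (K4_sign hw) (K4_sign hv')⟩
  inv_mem' := by
    rintro _ ⟨v, w, hv, hw, rfl⟩
    exact ⟨v⁻¹, w⁻¹, K4.inv_mem hv, K4.inv_mem hw, pair_inv hN (K4_sign hv) (K4_sign hw)⟩

variable {C}

theorem sq16_le (hN : C.NCase) : C.sq16 hN ≤ C.pairs hN := by
  rintro _ ⟨v, w, hv, hw, rfl⟩
  exact pair_mem hN (K4_sign hv) (K4_sign hw)

theorem card_sq16 (hN : C.NCase) : Nat.card (C.sq16 hN) = 16 := by
  have h : Nat.card (K4 × K4) = 16 := by rw [Nat.card_prod, card_K4]
  rw [← h]
  refine (Nat.card_congr (Equiv.ofBijective (fun q : K4 × K4 =>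
    (⟨C.γ q.1 * C.bp q.2, q.1, q.2, q.1.2, q.2.2, rfl⟩ : C.sq16 hN)) ⟨?_, ?_⟩)).symm
  · intro q r h
    obtain ⟨h1, h2⟩ := pair_inj hN (K4_sign q.1.2) (K4_sign q.2.2) (K4_sign r.1.2) (K4_sign r.2.2)
      (congrArg Subtype.val h :)
    exact Prod.ext (Subtype.ext h1) (Subtype.ext h2)
  · rintro ⟨x, v, w, hv, hw, rfl⟩
    exact ⟨(⟨v, hv⟩, ⟨w, hw⟩), rfl⟩

theorem sq16_comm (hN : C.NCase) {x y : G} (hx : x ∈ C.sq16 hN) (hy : y ∈ C.sq16 hN) :
    x * y = y * x := by
  obtain ⟨v, w, hv, hw, rfl⟩ := hx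
  obtain ⟨v', w', hv', hw', rfl⟩ := hy
  rw [pair_mul hN (K4_sign hw) (K4_sign hv'), pair_mul hN (K4_sign hw') (K4_sign hv)]
  have key : ∀ v ∈ K4, ∀ v' ∈ K4, v * v' = v' * v := by
    rintro _ ⟨i, j, rfl⟩ _ ⟨i', j', rfl⟩
    revert i j i' j'; decide +kernel
  rw [key v hv v' hv', key w hw w' hw']

theorem g_sq16 (hN : C.NCase) : C.g ∈ normalizer (C.sq16 hN : Set G) := by
  have key : ∀ x ∈ C.sq16 hN, C.g * x * C.g⁻¹ ∈ C.sq16 hN := by
    rintro _ ⟨v, w, hv, hw, rfl⟩
    exact ⟨w, v, hw, hv, by rw [g_pair hN (K4_sign hv) (K4_sign hw), mul_inv_cancel_right]⟩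
  rw [mem_normalizer_iff]
  refine fun x => ⟨key x, fun hx => ?_⟩
  have := key _ hx
  rwa [C.gconj] at this

theorem g_not_pairs (hN : C.NCase) : C.g ∉ C.pairs hN := fun h =>
  g_not_coset hN h 0 (by simp)

/-- A 2-group of order more than 16 in the centralizer of the diagonal involution. -/
theorem two_group (hN : C.NCase) : ∃ S : Subgroup G, IsPGroup 2 S ∧ 16 < Nat.card S ∧
    S ≤ C.sq16 hN ⊔ zpowers C.g ∧
    ∀ x ∈ S, x * (C.γ mV5 * C.bp mV5) = C.γ mV5 * C.bp mV5 * x := by
  haveI := Fact.mk Nat.prime_two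
  refine ⟨C.sq16 hN ⊔ zpowers C.g, ?_, ?_, le_rfl, ?_⟩
  · refine IsPGroup.to_sup_of_normal_left' (IsPGroup.of_card (n := 4) (by rw [card_sq16]; norm_num))
      (IsPGroup.of_card (n := 1) ?_) (zpowers_le.2 (g_sq16 hN))
    rw [Nat.card_zpowers, pow_one]
    refine orderOf_eq_prime (by rw [sq, C.gg]) fun h => ?_
    exact g_not_pairs hN (h ▸ one_mem _)
  · by_contra h
    push Not at h
    have heq := eq_of_le_of_card_ge (le_sup_left : C.sq16 hN ≤ C.sq16 hN ⊔ zpowers C.g)
      (by rw [card_sq16]; exact h)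
    refine g_not_pairs hN (sq16_le hN ?_)
    rw [heq]; exact mem_sup_right (mem_zpowers _)
  · have hm : mV5 ∈ K4 := ⟨1, 0, by simp⟩
    have hle : C.sq16 hN ⊔ zpowers C.g ≤ centralizer ({C.γ mV5 * C.bp mV5} : Set G) := by
      refine sup_le (fun x hx => ?_) (zpowers_le.2 ?_)
      · exact mem_centralizer_singleton_iff.2 (sq16_comm hN hx ⟨_, _, hm, hm, rfl⟩)
      · exact mem_centralizer_singleton_iff.2 (g_pair hN (K4_sign hm) (K4_sign hm))
    exact fun x hx => mem_centralizer_singleton_iff.1 (hle hx)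

theorem two_power_not_dvd {S : Subgroup G} (h2 : IsPGroup 2 S) (h16 : 16 < Nat.card S) {a b : ℕ}
    (ha : a ∣ 16) (hb : b % 2 = 1) : ¬ Nat.card S ∣ a * b := by
  haveI := Fact.mk Nat.prime_two
  obtain ⟨k, hk⟩ := IsPGroup.iff_card.1 h2
  intro h
  rw [hk] at h h16
  have hcop : Nat.Coprime (2 ^ k) b :=
    Nat.Coprime.pow_left k (Nat.prime_two.coprime_iff_not_dvd.2 (by omega))
  have := Nat.le_of_dvd (by norm_num) ((hcop.dvd_of_dvd_mul_right h).trans ha)
  omega

/-- The classes of involutions of the product. -/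
theorem rep_pairs (hN : C.NCase) {x : G} (hx : x ∈ C.pairs hN) (h2 : x * x = 1) (h1 : x ≠ 1) :
    ∃ n ∈ C.pairs hN, n * x * n⁻¹ = C.γ mV5 ∨ n * x * n⁻¹ = C.bp mV5 ∨
      n * x * n⁻¹ = C.γ mV5 * C.bp mV5 := by
  obtain ⟨p, q, hp, hq, rfl⟩ := hx
  rw [pair_mul hN hq hp] at h2
  obtain ⟨hp2, hq2⟩ := bp_eq_γ hN (by rw [map_mul, hp, one_mul]) (by rw [map_mul, hq, one_mul]) h2
  have key : ∀ {r s : Perm (Fin 5)}, Perm.sign r = 1 → Perm.sign s = 1 → ∀ {p' q' : Perm (Fin 5)},
      r * p' * r⁻¹ = p → s * q' * s⁻¹ = q → Perm.sign p' = 1 → Perm.sign q' = 1 →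
      (C.γ r * C.bp s)⁻¹ * (C.γ p * C.bp q) * ((C.γ r * C.bp s)⁻¹)⁻¹ = C.γ p' * C.bp q' := by
    intro r s hr hs p' q' h1 h2 hp' hq'
    rw [inv_inv, ← h1, ← h2,
      show C.γ (r * p' * r⁻¹) * C.bp (s * q' * s⁻¹) =
        C.γ r * C.bp s * (C.γ p' * C.bp q') * (C.γ r * C.bp s)⁻¹ by
        rw [pair_inv hN hr hs, pair_mul hN hs hp',
          pair_mul hN (by rw [map_mul, hs, hq', one_mul]) (by rw [map_inv, hr, inv_one])]]
    group
  by_cases hp1 : p = 1
  · by_cases hq1 : q = 1
    · exact absurd (by rw [hp1, hq1]; simp) h1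
    · obtain ⟨s, hs, hsq⟩ := invol_even q hq hq2 hq1
      refine ⟨(C.γ 1 * C.bp s)⁻¹, inv_mem (pair_mem hN (map_one _) hs), Or.inr (Or.inl ?_)⟩
      rw [key (map_one _) hs (p' := 1) (by rw [hp1]; simp) hsq (map_one _) (by decide +kernel),
        map_one, one_mul]
  · obtain ⟨r, hr, hrp⟩ := invol_even p hp hp2 hp1
    by_cases hq1 : q = 1
    · refine ⟨(C.γ r * C.bp 1)⁻¹, inv_mem (pair_mem hN hr (map_one _)), Or.inl ?_⟩
      rw [key hr (map_one _) hrp (q' := 1) (by rw [hq1]; simp) (by decide +kernel) (map_one _),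
        map_one C.bp, mul_one]
    · obtain ⟨s, hs, hsq⟩ := invol_even q hq hq2 hq1
      refine ⟨(C.γ r * C.bp s)⁻¹, inv_mem (pair_mem hN hr hs), Or.inr (Or.inr ?_)⟩
      exact key hr hs hrp hsq (by decide +kernel) (by decide +kernel)

theorem dd11_eq : C.β (dd 1 1) = C.γ c5 * C.bp c5 := by
  rw [C.γ_c5, C.bp_c5, ← map_mul]; exact congrArg C.β (by decide +kernel)

theorem g_comm_dd11 (hN : C.NCase) : Commute C.g (C.β (dd 1 1)) := by
  rw [dd11_eq]
  exact g_pair hN (by decide +kernel) (by decide +kernel)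

/-- Conjugates of `τ` are not in the product. -/
theorem pairs_not_T (hN : C.NCase) {x : G} (hx : x ∈ C.pairs hN) (k : G) :
    k * x * k⁻¹ ≠ C.β eT := by
  intro hk
  have hu : ∀ k : G, k * C.bp mV5 * k⁻¹ ≠ C.β eT := by
    intro k h
    rw [bp_apply] at h
    obtain ⟨q, hq⟩ := C.conj_T_of_Z (m := (1, mV5)) (by decide +kernel) h
    have := congrArg (fun m : P35 => Perm.sign m.2) hq
    simp only [Prod.snd_mul, Prod.snd_inv, map_mul, map_inv] at this
    rw [mul_comm, inv_mul_cancel_left] at this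
    exact absurd this (by decide +kernel)
  have h2 : x * x = 1 := by
    rw [show x = k⁻¹ * C.β eT * k by rw [← hk]; group,
      show k⁻¹ * C.β eT * k * (k⁻¹ * C.β eT * k) = k⁻¹ * (C.β eT * C.β eT) * k by group, C.T_sq,
      mul_one, inv_mul_cancel]
  have h1 : x ≠ 1 := fun h => C.T_ne_one (by rw [← hk, h, mul_one, mul_inv_cancel])
  obtain ⟨n, -, hn⟩ := rep_pairs hN hx h2 h1
  have hk' : (k * n⁻¹) * (n * x * n⁻¹) * (k * n⁻¹)⁻¹ = C.β eT := by rw [← hk]; group
  rcases hn with e | e | e <;> rw [e] at hk'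
  · refine hu (k * n⁻¹ * C.g) ?_
    rw [← hk', γ_apply]; group
  · exact hu _ hk'
  · set l := k * n⁻¹
    obtain ⟨S, hS2, hS16, -, hScomm⟩ := two_group hN
    have hd := Subgroup.card_dvd_of_le (show S.map (MulAut.conj l).toMonoidHom ≤ C.CT from by
      rintro _ ⟨s, hs, rfl⟩
      refine mem_centralizer_singleton_iff.2 ?_
      show l * s * l⁻¹ * C.β eT = C.β eT * (l * s * l⁻¹)
      rw [← hk', show l * s * l⁻¹ * (l * (C.γ mV5 * C.bp mV5) * l⁻¹) =
        l * (s * (C.γ mV5 * C.bp mV5)) * l⁻¹ by group, hScomm s hs]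
      group)
    rw [Subgroup.card_map_of_injective (MulEquiv.injective _), card_CT hN,
      show 144 = 16 * 9 from rfl] at hd
    exact two_power_not_dvd hS2 hS16 dvd_rfl (by norm_num) hd

/-- Involutions of the coset of the exchanging involution. -/
theorem g_coset (hN : C.NCase) {p q : Perm (Fin 5)} (hp : Perm.sign p = 1) (hq : Perm.sign q = 1)
    (h : C.γ p * C.bp q * C.g * (C.γ p * C.bp q * C.g) = 1) :
    C.γ p * C.bp q * C.g = C.γ p * C.g * (C.γ p)⁻¹ := by
  have e : C.γ p * C.bp q * C.g * (C.γ p * C.bp q * C.g) = C.γ (p * q) * C.bp (q * p) := by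
    rw [mul_assoc (C.γ p * C.bp q) C.g, ← mul_assoc C.g (C.γ p * C.bp q), g_pair hN hp hq,
      mul_assoc _ C.g C.g, C.gg, mul_one, pair_mul hN hq hq]
  rw [e] at h
  obtain ⟨h1, -⟩ := bp_eq_γ hN (by rw [map_mul, hp, hq, one_mul])
    (by rw [map_mul, hp, hq, one_mul]) h
  rw [show q = p⁻¹ from eq_inv_of_mul_eq_one_right h1, mul_assoc, mul_assoc, ← g_γ', map_inv]

/-- The conjugates of `τ` in the big subgroup. -/
theorem conj_T_form (hN : C.NCase) {x : G} (hx : x ∈ C.big hN) {k : G}
    (hk : k * x * k⁻¹ = C.β eT) : ∃ n ∈ C.pairs hN, n * C.β eT * n⁻¹ = x := by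
  have h2 : x * x = 1 := by
    rw [show x = k⁻¹ * C.β eT * k by rw [← hk]; group,
      show k⁻¹ * C.β eT * k * (k⁻¹ * C.β eT * k) = k⁻¹ * (C.β eT * C.β eT) * k by group, C.T_sq,
      mul_one, inv_mul_cancel]
  obtain ⟨p, q, e, f, hp, hq, rfl⟩ := hx
  rcases fin2_or f with rfl | rfl
  · rcases fin2_or e with rfl | rfl
    · exact absurd hk (pairs_not_T hN (by simpa using pair_mem hN hp hq) k)
    · simp only [Fin.val_one, pow_one, Fin.val_zero, pow_zero, mul_one] at h2 ⊢
      have ht : ∀ r, tq 1 r = t5 * r * t5 := fun r => by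
        simp [tq, show t5⁻¹ = t5 by decide +kernel]
      have h1 := T_pow_pair (C := C) 1 p q
      simp only [Fin.val_one, pow_one, ht] at h1
      rw [mul_assoc (C.γ p * C.bp q), ← mul_assoc (C.β eT), h1, mul_assoc _ (C.β eT) (C.β eT), C.T_sq,
        mul_one, pair_mul hN hq (by rw [map_mul, map_mul, hp]; decide +kernel)] at h2
      obtain ⟨a1, a2⟩ := bp_eq_γ hN (by rw [map_mul, map_mul, map_mul, hp]; decide +kernel)
        (by rw [map_mul, map_mul, map_mul, hq]; decide +kernel) h2
      obtain ⟨r, hr, hrp⟩ := invol_twist p hp a1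
      obtain ⟨s, hs, hsq⟩ := invol_twist q hq a2
      refine ⟨C.γ r * C.bp s, pair_mem hN hr hs, ?_⟩
      have h3 := T_pow_pair (C := C) 1 r⁻¹ s⁻¹
      simp only [Fin.val_one, pow_one, ht] at h3
      rw [pair_inv hN hr hs, mul_assoc, h3, ← mul_assoc,
        pair_mul hN hs (by rw [map_mul, map_mul, map_inv, hr]; decide +kernel), hrp, hsq]
  · exfalso
    have hinv : ∀ (n w : G), w * C.β (dd 1 1) = C.β (dd 1 1) * w → w ≠ C.β eT →
        C.γ p * C.bp q * (C.β eT ^ e.val * C.g ^ (1 : Fin 2).val) = n * w * n⁻¹ → False := by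
      intro n w hw hne hxw
      rw [hxw] at hk
      exact hne (C.eq_T_of_off 1 1 (by decide) (by decide) hw (k := k * n) (by rw [← hk]; group))
    rcases fin2_or e with rfl | rfl
    · simp only [Fin.val_one, pow_one, Fin.val_zero, pow_zero, one_mul] at h2 hinv
      exact hinv _ C.g (g_comm_dd11 hN) (fun h => g_not_coset hN (one_mem _) 1 (by simpa using h.symm))
        (g_coset hN hp hq h2)
    · -- use the shifted involution
      have hN' : C.shift.NCase := nCase_shift hN
      set p' := t5 * p * t5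
      have hp' : Perm.sign p' = 1 := by rw [map_mul, map_mul, hp]; decide +kernel
      have hform : C.γ p * C.bp q * (C.β eT ^ (1 : Fin 2).val * C.g ^ (1 : Fin 2).val) =
          C.shift.γ p' * C.shift.bp q * C.shift.g := by
        rw [shift_γ, show t5 * (t5 * p * t5) * t5 = (t5 * t5) * p * (t5 * t5) by group,
          show t5 * t5 = 1 by decide +kernel, one_mul, mul_one, Fin.val_one, pow_one, pow_one, ← C.gT]
        rfl
      rw [hform] at h2 hinv
      refine hinv _ C.shift.g (g_comm_dd11 hN') (fun h => ?_) (g_coset hN' hp' hq h2)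
      have h' : C.g * C.β eT = C.β eT := h
      exact g_not_pairs hN (by rw [show C.g = 1 from mul_right_cancel (h'.trans (one_mul _).symm)]
                               exact one_mem _)

/-- The index of the big subgroup is odd. -/
theorem odd_big (hN : C.NCase) : Odd (C.big hN).index := by
  refine odd_index _ C.T_sq C.T_ne_one (T_mem_big hN) fun x hx => ?_
  obtain ⟨n, hn, he⟩ := conj_T_form hN hx (k := x) (by group)
  have h1 : x * n ∈ C.big hN := CT_le_big hN (mem_centralizer_singleton_iff.2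
    (mul_inv_eq_iff_eq_mul.1 (by
      rw [show x * n * C.β eT * (x * n)⁻¹ = x * (n * C.β eT * n⁻¹) * x⁻¹ by group, he]; group)))
  have h2 := mul_mem h1 (inv_mem (pairs_le hN hn))
  rwa [mul_inv_cancel_right] at h2

theorem pairs_le_of_odd (hN : C.NCase) (H : Subgroup G)
    (h : ∀ x ∈ C.pairs hN, x ^ 15 = 1 → x ∈ H) : C.pairs hN ≤ H := by
  have hall : ∀ (f : Perm (Fin 5) →* G), (∀ p, Perm.sign p = 1 → f p ∈ C.pairs hN) →
      ∀ p, Perm.sign p = 1 → f p ∈ H := by
    intro f hf p hp
    have hm : ∀ p, Perm.sign p = 1 → p ^ 15 = 1 → p ∈ H.comap f := fun p hs hp =>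
      h _ (hf p hs) (by rw [← map_pow, hp, map_one])
    exact even_mem_of_fifteen (H.comap f) (hm c5 (by decide +kernel) (by decide +kernel))
      (hm (mV5 * u5) (by decide +kernel) (by decide +kernel)) (by decide +kernel) (by decide +kernel)
      hp
  rintro _ ⟨p, q, hp, hq, rfl⟩
  exact mul_mem (hall C.γ (fun p hp => γ_mem hN hp) p hp) (hall C.bp (fun p hp => bp_mem hN hp) q hq)

variable (C)

/-- The product extended by the exchanging involution. -/
def mid (hN : C.NCase) : Subgroup G := C.pairs hN ⊔ zpowers C.g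

variable {C}

theorem mem_mid (hN : C.NCase) {x : G} : x ∈ C.mid hN ↔ ∃ (p q : Perm (Fin 5)) (f : Fin 2),
    Perm.sign p = 1 ∧ Perm.sign q = 1 ∧ x = C.γ p * C.bp q * C.g ^ f.val := by
  constructor
  · intro hx
    have hn : C.g ∈ normalizer (C.pairs hN : Set G) := by
      rw [mem_normalizer_iff]
      refine fun y => ⟨big_normalizes hN (g_mem_big hN), fun hy => ?_⟩
      have := big_normalizes hN (g_mem_big hN) hy
      rwa [C.gconj] at this
    obtain ⟨k, ⟨p, q, hp, hq, rfl⟩, i, rfl⟩ := CfsgLib.ThreeLocalEight.mem_sup_zpowers hn hx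
    have h2 : C.g ^ (2 : ℤ) = 1 := by rw [zpow_ofNat, sq, C.gg]
    rcases Int.emod_two_eq_zero_or_one i with h | h
    · exact ⟨p, q, 0, hp, hq, by
        rw [← Int.emod_add_mul_ediv i 2, zpow_add, zpow_mul, h2, one_zpow, h]; simp⟩
    · exact ⟨p, q, 1, hp, hq, by
        rw [← Int.emod_add_mul_ediv i 2, zpow_add, zpow_mul, h2, one_zpow, h]; simp⟩
  · rintro ⟨p, q, f, hp, hq, rfl⟩
    exact mul_mem (mem_sup_left (pair_mem hN hp hq)) (pow_mem (mem_sup_right (mem_zpowers _)) _)

theorem mid_le (hN : C.NCase) : C.mid hN ≤ C.big hN :=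
  sup_le (pairs_le hN) (zpowers_le.2 (g_mem_big hN))

theorem T_not_mid (hN : C.NCase) : C.β eT ∉ C.mid hN := by
  intro h
  obtain ⟨p, q, f, hp, hq, e⟩ := (mem_mid hN).1 h
  obtain ⟨-, -, h', -⟩ := coset_unique hN (map_one _) (map_one _) hp hq
    (e := 1) (f := 0) (e' := 0) (f' := f) (by simpa using e)
  exact absurd h' (by decide)

theorem mid_relIndex (hN : C.NCase) : (C.mid hN).relIndex (C.big hN) = 2 := by
  refine (index_eq_two_iff' (H := (C.mid hN).subgroupOf (C.big hN))).2
    ⟨⟨_, T_mem_big hN⟩, fun b => ?_⟩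
  obtain ⟨b, hb⟩ := b
  obtain ⟨p, q, e, f, hp, hq, rfl⟩ := hb
  simp only [mem_subgroupOf, Subgroup.coe_mul, xor_iff_iff_not]
  have key : ∀ e : Fin 2, C.γ p * C.bp q * (C.β eT ^ e.val * C.g ^ f.val) ∈ C.mid hN ↔ e = 0 := by
    intro e
    constructor
    · intro h
      obtain ⟨p', q', f', hp', hq', h'⟩ := (mem_mid hN).1 h
      exact (coset_unique hN hp hq hp' hq' (e' := 0) (by simpa using h')).2.2.1
    · rintro rfl
      exact (mem_mid hN).2 ⟨p, q, f, hp, hq, by simp⟩
  have hmove : C.β eT * (C.γ p * C.bp q * (C.β eT ^ e.val * C.g ^ f.val)) =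
      C.γ (tq 1 p) * C.bp (tq 1 q) * (C.β eT ^ (1 + e).val * C.g ^ f.val) := by
    have h1 := T_pow_pair (C := C) 1 p q
    simp only [Fin.val_one, pow_one] at h1
    rw [← mul_assoc, h1, ← fin2_add _ C.T_sq 1 e, Fin.val_one, pow_one]
    group
  have key' : C.β eT * (C.γ p * C.bp q * (C.β eT ^ e.val * C.g ^ f.val)) ∈ C.mid hN ↔ e = 1 := by
    rw [hmove]
    constructor
    · intro h
      obtain ⟨p', q', f', hp', hq', h'⟩ := (mem_mid hN).1 h
      have := (coset_unique hN (p := tq 1 p) (q := tq 1 q) (by rw [tq_sign, hp]) (by rw [tq_sign, hq]) hp' hq' (e := 1 + e) (f := f)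
        (e' := 0) (f' := f') (by simpa using h')).2.2.1
      have k : ∀ e : Fin 2, 1 + e = 0 → e = 1 := by decide
      exact k _ this
    · rintro rfl
      exact (mem_mid hN).2 ⟨tq 1 p, tq 1 q, f, by rw [tq_sign, hp], by rw [tq_sign, hq],
        by simp⟩
  rw [key', key e]
  rcases fin2_or e with rfl | rfl <;> decide

theorem pairs_relIndex (hN : C.NCase) : (C.pairs hN).relIndex (C.mid hN) = 2 := by
  refine (index_eq_two_iff' (H := (C.pairs hN).subgroupOf (C.mid hN))).2
    ⟨⟨_, mem_sup_right (mem_zpowers C.g)⟩, fun b => ?_⟩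
  obtain ⟨b, hb⟩ := b
  obtain ⟨p, q, f, hp, hq, rfl⟩ := (mem_mid hN).1 hb
  simp only [mem_subgroupOf, Subgroup.coe_mul, xor_iff_iff_not]
  rcases fin2_or f with rfl | rfl
  · simp only [Fin.val_zero, pow_zero, mul_one]
    refine ⟨fun h => ?_, fun h => absurd (pair_mem hN hp hq) h⟩
    have := mul_mem h (inv_mem (pair_mem hN hp hq))
    rw [mul_inv_cancel_right] at this
    exact absurd this (g_not_pairs hN)
  · simp only [Fin.val_one, pow_one]
    refine ⟨fun _ h => ?_, fun _ => ?_⟩
    · exact g_not_pairs hN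
        (by simpa [mul_assoc] using mul_mem (inv_mem (pair_mem hN hp hq)) h)
    · rw [← mul_assoc, g_pair hN hp hq, mul_assoc, C.gg, mul_one]
      exact pair_mem hN hq hp

/-- The first transfer. -/
theorem first_transfer (hN : C.NCase) : ∃ M : Subgroup G, M.Normal ∧ M.index = 2 ∧ C.β eT ∉ M := by
  refine exists_normal_two (C.big hN) (C.mid hN) (odd_big hN) (mid_relIndex hN) C.T_sq ?_
  intro k hk
  obtain ⟨n, hn, he⟩ := conj_T_form hN (mid_le hN hk) (k := k⁻¹) (by group)
  have h1 : C.β eT ∈ C.mid hN := by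
    have h2 := mul_mem (mul_mem (mem_sup_left (inv_mem hn)) hk) (mem_sup_left hn :
      n ∈ C.mid hN)
    rwa [show n⁻¹ * (k * C.β eT * k⁻¹) * n = C.β eT by rw [← he]; group] at h2
  exact T_not_mid hN h1

theorem pairs_le_index_two (hN : C.NCase) {M : Subgroup G} (h : M.index = 2) : C.pairs hN ≤ M :=
  pairs_le_of_odd hN M fun _ _ hx => mem_of_index_two_of_pow h hx

theorem mem_mid_of_mem (hN : C.NCase) {M : Subgroup G} (hM : M.index = 2) (hT : C.β eT ∉ M)
    (hg : C.g ∈ M) {x : G} (hx : x ∈ C.big hN) (hxM : x ∈ M) : x ∈ C.mid hN := by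
  obtain ⟨p, q, e, f, hp, hq, rfl⟩ := hx
  rcases fin2_or e with rfl | rfl
  · exact (mem_mid hN).2 ⟨p, q, f, hp, hq, by simp⟩
  · exfalso
    have h1 := mul_mem (inv_mem (pairs_le_index_two hN hM (pair_mem hN hp hq))) hxM
    rw [inv_mul_cancel_left] at h1
    have h2 := mul_mem h1 (inv_mem (pow_mem hg f.val))
    simp only [mul_inv_cancel_right, Fin.val_one, pow_one] at h2
    exact hT h2

/-- The centralizer of the exchanging involution in the first subgroup. -/
theorem card_cent_g (hN : C.NCase) {M : Subgroup G} (hMn : M.Normal) (hM : M.index = 2)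
    (hT : C.β eT ∉ M) (hg : C.g ∈ M) :
    Nat.card (centralizer ({C.g} : Set G) ⊓ M : Subgroup G) = 120 := by
  classical
  set K := (centralizer ({C.g} : Set G) ⊓ M : Subgroup G)
  have hgK : C.g ∈ K := ⟨mem_centralizer_singleton_iff.2 rfl, hg⟩
  have hKc : ∀ x : K, (x : G) * C.g = C.g * x := fun x => mem_centralizer_singleton_iff.1 x.2.1
  let Z0 : Subgroup K := (zpowers C.g).subgroupOf K
  have hg1 : C.g ≠ 1 := fun h => g_not_pairs hN (h ▸ one_mem _)
  have hzp : ∀ {x : G}, x ∈ zpowers C.g → x = 1 ∨ x = C.g := by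
    intro x hx
    obtain ⟨i, rfl⟩ := mem_zpowers_iff.1 hx
    have h2 : C.g ^ (2 : ℤ) = 1 := by rw [zpow_ofNat, sq, C.gg]
    rcases Int.emod_two_eq_zero_or_one i with h | h
    · left; rw [← Int.emod_add_mul_ediv i 2, zpow_add, zpow_mul, h2, one_zpow, h]; simp
    · right; rw [← Int.emod_add_mul_ediv i 2, zpow_add, zpow_mul, h2, one_zpow, h]; simp
  haveI : Z0.Normal := ⟨fun n hn w => by
    rw [mem_subgroupOf] at hn ⊢
    rcases hzp hn with e | e
    · simp [e]
    · simp [e, hKc w]⟩
  have hZ0 : Nat.card Z0 = 2 := by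
    rw [Nat.card_congr (subgroupOfEquivOfLe (zpowers_le.2 hgK)).toEquiv, Nat.card_zpowers]
    exact orderOf_eq_prime (by rw [sq, C.gg]) hg1
  set R := ↥K ⧸ Z0
  let π : K →* R := QuotientGroup.mk' Z0
  have hπ : ∀ x y : K, π x = π y ↔ (y : G) = x ∨ (y : G) = x * C.g := by
    intro x y
    rw [QuotientGroup.mk'_apply, QuotientGroup.mk'_apply, QuotientGroup.eq, mem_subgroupOf]
    simp only [Subgroup.coe_mul, Subgroup.coe_inv]
    constructor
    · intro h
      rcases hzp h with h | h
      · exact Or.inl (inv_mul_eq_one.1 h).symm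
      · exact Or.inr (inv_mul_eq_iff_eq_mul.1 h)
    · rintro (h | h) <;> rw [h]
      · simp
      · rw [inv_mul_cancel_left]; exact mem_zpowers _
  have hdiag : ∀ p : Perm (Fin 5), Perm.sign p = 1 → C.γ p * C.bp p ∈ K := fun p hp =>
    ⟨mem_centralizer_singleton_iff.2 (g_pair hN hp hp).symm,
      pairs_le_index_two hN hM (pair_mem hN hp hp)⟩
  let Δ : alternatingGroup (Fin 5) →* K :=
    { toFun := fun p => ⟨C.γ p * C.bp p, hdiag p p.2⟩
      map_one' := Subtype.ext (by simp)
      map_mul' := fun p q => Subtype.ext (by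
        show C.γ ((p : Perm (Fin 5)) * q) * C.bp ((p : Perm (Fin 5)) * q) = _
        exact (pair_mul hN p.2 q.2).symm) }
  have hδinj : Function.Injective (π.comp Δ) := by
    rw [injective_iff_map_eq_one]
    intro p hp
    rcases (hπ (Δ p) 1).1 (by rw [map_one]; exact hp) with h | h
    · exact Subtype.ext (bp_eq_γ hN p.2 p.2 h.symm).1
    · exfalso
      have h' : C.γ p * C.bp (p : Perm (Fin 5)) * C.g = 1 := h.symm
      exact g_not_pairs hN (eq_inv_of_mul_eq_one_right h' ▸ inv_mem (pair_mem hN p.2 p.2))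
  -- the self-centralising subgroup
  let c : alternatingGroup (Fin 5) := ⟨c5, mem_alternatingGroup.2 (by decide +kernel)⟩
  set yR := π (Δ c)
  have hy3 : orderOf yR = 3 := by
    haveI := Fact.mk Nat.prime_three
    show orderOf ((π.comp Δ) c) = 3
    rw [orderOf_injective _ hδinj]
    exact orderOf_eq_prime (Subtype.ext (by decide +kernel : c5 ^ 3 = 1))
      (fun e => absurd (congrArg Subtype.val e) (show c5 ≠ 1 by decide +kernel))
  have hyv : ((Δ c : K) : G) = C.β (dd 1 1) := dd11_eq.symm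
  have hCK : ∀ x : K, (x : G) * C.β eT = C.β eT * x →
      ∃ p : alternatingGroup (Fin 5), π x = π (Δ p) ∧ t5 * (p : Perm (Fin 5)) * t5 = p := by
    intro x hx
    obtain ⟨p, q, f, hp, hq, hxe⟩ := (mem_mid hN).1 (mem_mid_of_mem hN hM hT hg
      (CT_le_big hN (mem_centralizer_singleton_iff.2 hx)) x.2.2)
    have h := hKc x
    rw [hxe, mul_assoc, show C.g ^ f.val * C.g = C.g * C.g ^ f.val from
      ((Commute.refl C.g).pow_left _).eq, ← mul_assoc, ← mul_assoc C.g, g_pair hN hp hq] at h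
    obtain ⟨hpq, -⟩ := pair_inj hN hp hq hq hp (mul_right_cancel (mul_right_cancel h))
    subst hpq
    refine ⟨⟨p, mem_alternatingGroup.2 hp⟩, (hπ _ _).2 ?_, ?_⟩
    · show C.γ p * C.bp p = x ∨ C.γ p * C.bp p = x * C.g
      rw [hxe]
      rcases fin2_or f with rfl | rfl
      · left; simp
      · right; simp [mul_assoc, C.gg]
    · show t5 * p * t5 = p
      have hgT : Commute (C.g ^ f.val) (C.β eT) := (show Commute C.g (C.β eT) from C.gT).pow_left _
      rw [hxe, mul_assoc, hgT.eq, ← mul_assoc, ← mul_assoc (C.β eT)] at hx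
      have h3 := mul_right_cancel hx
      have h1 := T_pow_pair (C := C) 1 p p
      simp only [Fin.val_one, pow_one] at h1
      rw [h1] at h3
      have h4 := (pair_inj hN hp hp (by rw [tq_sign, hp]) (by rw [tq_sign, hp])
        (mul_right_cancel h3)).1
      conv_rhs => rw [h4]
      simp [tq, show t5⁻¹ = t5 by decide +kernel]
  have hcen : centralizer (zpowers yR : Set R) = zpowers yR := by
    refine le_antisymm (fun r hr => ?_) fun r hr => ?_
    · obtain ⟨x, rfl⟩ := QuotientGroup.mk'_surjective Z0 r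
      have h := (mem_centralizer_iff.1 hr _ (mem_zpowers yR)).symm
      change π x * π (Δ c) = π (Δ c) * π x at h
      rw [← mul_inv_eq_iff_eq_mul, ← map_inv, ← map_mul, ← map_mul, hπ] at h
      simp only [Subgroup.coe_mul, Subgroup.coe_inv, hyv] at h
      have hxy : (x : G) * C.β (dd 1 1) = C.β (dd 1 1) * x := by
        rcases h with h | h
        · exact mul_inv_eq_iff_eq_mul.1 h.symm
        · exfalso
          set w := (x : G) * C.β (dd 1 1) * (x : G)⁻¹
          have hw3 : w ^ 3 = 1 := by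
            rw [conj_pow, C.D_cube (C.dd_mem 1 1), mul_one, mul_inv_cancel]
          have hw : w = C.β (dd 1 1) * C.g := by
            rw [h, mul_assoc, C.gg, mul_one]
          rw [hw, (g_comm_dd11 hN).symm.mul_pow, C.D_cube (C.dd_mem 1 1), one_mul, pow_succ, sq,
            C.gg, one_mul] at hw3
          exact hg1 hw3
      have hxN := C.normD_of_off 1 1 (by decide) (by decide) hxy
      obtain ⟨p, hp, hpt⟩ := hCK x (C.normD_comm_T hxN)
      rw [hp]
      have hpc : (p : Perm (Fin 5)) * c5 = c5 * (p : Perm (Fin 5)) := by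
        have h5 : π (Δ p) * π (Δ c) = π (Δ c) * π (Δ p) := by
          rw [← hp]; exact (mem_centralizer_iff.1 hr _ (mem_zpowers yR)).symm
        rw [← map_mul, ← map_mul, ← map_mul, ← map_mul] at h5
        exact congrArg Subtype.val (hδinj h5)
      obtain ⟨i, hi⟩ := centC5 p p.2 hpc
      refine mem_zpowers_iff.2 ⟨(i.val : ℤ), ?_⟩
      rw [zpow_natCast, ← map_pow, ← map_pow, show p = c ^ i.val from Subtype.ext (by simp [c, hi])]
    · rw [mem_centralizer_iff]
      intro w hw
      obtain ⟨k, rfl⟩ := mem_zpowers_iff.1 hr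
      obtain ⟨l, rfl⟩ := mem_zpowers_iff.1 hw
      exact (Commute.zpow_zpow (Commute.refl _) l k).eq
  obtain ⟨E, hEn, hE2, hE3, ⟨eE⟩, hEδ⟩ := alt5_trichotomy (zpowers yR)
    (by rw [Nat.card_zpowers, hy3]) hcen (π.comp Δ) hδinj
  haveI := hEn
  -- `τ` fixes a point of the kernel
  have hE1 : E = ⊥ := by
    by_contra hne
    have hTK : ∀ x ∈ K, C.β eT * x * C.β eT ∈ K := by
      intro x hx
      refine ⟨mem_centralizer_singleton_iff.2 ?_, ?_⟩
      · have h1 : Commute C.g (C.β eT) := C.gT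
        exact ((h1.symm.mul_left (hKc ⟨x, hx⟩)).mul_left h1.symm).eq
      · have := hMn.conj_mem x hx.2 (C.β eT)
        rwa [inv_eq_of_mul_eq_one_right C.T_sq] at this
    let σ : K →* K :=
      { toFun := fun x => ⟨C.β eT * x * C.β eT, hTK x x.2⟩
        map_one' := Subtype.ext (by simp [C.T_sq])
        map_mul' := fun x y => Subtype.ext (by
          show C.β eT * ((x : G) * y) * C.β eT = C.β eT * x * C.β eT * (C.β eT * y * C.β eT)
          rw [show C.β eT * (x : G) * C.β eT * (C.β eT * y * C.β eT) =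
            C.β eT * x * (C.β eT * C.β eT) * y * C.β eT by group, C.T_sq, mul_one]
          group) }
    have hσσ : ∀ x, σ (σ x) = x := fun x => Subtype.ext (by
      show C.β eT * (C.β eT * x * C.β eT) * C.β eT = x
      rw [show C.β eT * (C.β eT * (x : G) * C.β eT) * C.β eT =
        (C.β eT * C.β eT) * x * (C.β eT * C.β eT) by group, C.T_sq, one_mul, mul_one])
    let f : K →* R ⧸ E := (QuotientGroup.mk' E).comp π
    let E0 : Subgroup K := E.comap π
    haveI : E0.Normal := hEn.comap π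
    have hE0le : ∀ x ∈ E0, σ x ∈ E0 := by
      intro x hx
      haveI : (E0.map σ).Normal := Subgroup.Normal.map inferInstance σ fun y => ⟨σ y, hσσ y⟩
      have hcop : (Nat.card (E0.map σ)).Coprime 3 := by
        refine Nat.Coprime.coprime_dvd_left (Subgroup.card_map_dvd E0 σ) ?_
        have h1 := Subgroup.card_mul_index E0
        rw [show E0.index = E.index from Subgroup.index_comap_of_surjective _
          (QuotientGroup.mk'_surjective _), ← Subgroup.card_mul_index Z0, hZ0] at h1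
        have h2 := Subgroup.card_mul_index E
        rw [show Z0.index = Nat.card R from rfl, ← h2] at h1
        have hpos : 0 < E.index := Nat.pos_of_ne_zero Subgroup.index_ne_zero_of_finite
        rw [mul_right_cancel₀ hpos.ne' (h1.trans (by ring) :
          Nat.card E0 * E.index = (2 * Nat.card E) * E.index)]
        exact Nat.Coprime.mul_left (by decide) hE3
      have h := le_ker_of_normal f
        ((QuotientGroup.mk'_surjective E).comp (QuotientGroup.mk'_surjective _)) (E0.map σ) hcop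
        (fun N => equiv_bot eE normal_coprime_alt5 N) (mem_map_of_mem σ hx)
      rw [MonoidHom.mem_ker, MonoidHom.comp_apply, QuotientGroup.mk'_apply,
        QuotientGroup.eq_one_iff] at h
      exact h
    let τE : E → E := fun r => ⟨π (σ (Quotient.out r.1)), by
      refine hE0le _ ?_
      show π (Quotient.out r.1) ∈ E
      rw [show π (Quotient.out r.1) = r.1 from Quotient.out_eq r.1]
      exact r.2⟩
    have hσπ : ∀ x y : K, π x = π y → π (σ x) = π (σ y) := by
      intro x y h
      have hgT : C.β eT * C.g = C.g * C.β eT := C.gT.symm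
      rcases (hπ x y).1 h with e | e
      · rw [show y = x from Subtype.ext e]
      · refine (hπ _ _).2 (Or.inr ?_)
        show C.β eT * (y : G) * C.β eT = C.β eT * x * C.β eT * C.g
        rw [e, mul_assoc (C.β eT * x), hgT]
        group
    have hτ : Function.Involutive τE := by
      intro r
      apply Subtype.ext
      show π (σ (Quotient.out (π (σ (Quotient.out r.1))))) = r.1
      rw [hσπ _ (σ (Quotient.out r.1)) (Quotient.out_eq _), hσσ]
      exact Quotient.out_eq r.1
    -- an even number of fixed points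
    haveI := Fact.mk Nat.prime_two
    letI : MulAction (Multiplicative (ZMod 2)) E :=
      { smul := fun z r => if z = 1 then r else τE r
        one_smul := fun r => if_pos rfl
        mul_smul := fun a b r => by
          show (if a * b = 1 then r else τE r) =
            if a = 1 then (if b = 1 then r else τE r) else τE (if b = 1 then r else τE r)
          have k := mult_two
          by_cases ha : a = 1
          · simp [ha]
          by_cases hb : b = 1
          · simp [ha, hb]
          simp [ha, hb, k a b ha hb, hτ r] }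
    have hmod := (IsPGroup.of_card (p := 2) (n := 1) (G := Multiplicative (ZMod 2))
      (by simp)).card_modEq_card_fixedPoints E
    have hEp : IsPGroup 2 E := fun w => ⟨1, Subtype.ext (by simpa using hE2 w.1 w.2)⟩
    obtain ⟨n, hn⟩ := IsPGroup.iff_card.1 hEp
    have hn0 : n ≠ 0 := by
      rintro rfl
      exact hne (eq_bot_of_card_eq _ (by simpa using hn))
    have h1fix : (1 : E) ∈ MulAction.fixedPoints (Multiplicative (ZMod 2)) E := by
      intro z
      show (if z = 1 then (1 : E) else τE 1) = 1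
      split
      · rfl
      · apply Subtype.ext
        show π (σ (Quotient.out (1 : R))) = 1
        rw [hσπ _ 1 ((Quotient.out_eq (1 : R)).trans (map_one π).symm), map_one, map_one]
    obtain ⟨r, hr, hr1⟩ : ∃ r ∈ MulAction.fixedPoints (Multiplicative (ZMod 2)) E, r ≠ 1 := by
      by_contra! h
      have h1 : Nat.card (MulAction.fixedPoints (Multiplicative (ZMod 2)) E) = 1 :=
        Nat.card_eq_one_iff_unique.2 ⟨⟨fun a b => Subtype.ext ((h a.1 a.2).trans (h b.1 b.2).symm)⟩,
          ⟨⟨1, h1fix⟩⟩⟩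
      rw [h1, hn] at hmod
      obtain ⟨m, rfl⟩ := Nat.exists_eq_succ_of_ne_zero hn0
      unfold Nat.ModEq at hmod
      rw [pow_succ, Nat.mul_mod_left] at hmod
      norm_num at hmod
    set x := Quotient.out r.1
    have hxr : π x = r.1 := Quotient.out_eq r.1
    have hfix : π (σ x) = π x := by
      have := congrArg Subtype.val (hr (Multiplicative.ofAdd 1))
      rw [hxr]
      exact this
    rcases (hπ _ _).1 hfix with e | e
    · change (x : G) = C.β eT * x * C.β eT at e
      obtain ⟨p, hp, -⟩ := hCK x (by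
        conv_lhs => rw [e]
        rw [mul_assoc _ (C.β eT) (C.β eT), C.T_sq, mul_one])
      apply hr1
      apply Subtype.ext
      rw [← hxr, hp, hEδ p (show π (Δ p) ∈ E by rw [← hp, hxr]; exact r.2), map_one, map_one]
      rfl
    · change (x : G) = C.β eT * x * C.β eT * C.g at e
      have e2 : (x : G) * C.β eT * (x : G)⁻¹ = C.β eT * C.g := by
        have h1 : (x : G) * C.g = C.β eT * x * C.β eT := by
          conv_lhs => rw [e]
          rw [mul_assoc _ C.g C.g, C.gg, mul_one]
        rw [hKc x] at h1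
        calc (x : G) * C.β eT * (x : G)⁻¹
            = (C.β eT * C.β eT) * x * C.β eT * (x : G)⁻¹ := by rw [C.T_sq, one_mul]
          _ = C.β eT * (C.β eT * x * C.β eT) * (x : G)⁻¹ := by group
          _ = C.β eT * C.g := by rw [← h1]; group
      have h3 := C.eq_T_of_off 1 1 (by decide) (by decide) (t := C.β eT * C.g)
        (k := (x : G)⁻¹) (by
          have hd : Commute (C.β eT) (C.β (dd 1 1)) := (C.T_comm_D (C.dd_mem 1 1)).symm
          exact (hd.mul_left (g_comm_dd11 hN)).eq) (by rw [← e2]; group)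
      exact hg1 (mul_left_cancel (h3.trans (mul_one _).symm))
  have hR : Nat.card R = 60 := by
    rw [Subgroup.card_eq_card_quotient_mul_card_subgroup E, Nat.card_congr eE.toEquiv, card_alt5,
      hE1, Subgroup.card_bot]
  rw [Subgroup.card_eq_card_quotient_mul_card_subgroup Z0, hZ0, show Nat.card (↥K ⧸ Z0) = 60 from hR]

/-- The second transfer. -/
theorem second_transfer (hN : C.NCase) {M : Subgroup G} (hMn : M.Normal) (hM : M.index = 2)
    (hT : C.β eT ∉ M) (hg : C.g ∈ M) :
    ∃ L : Subgroup G, L ≤ M ∧ L.relIndex M = 2 ∧ C.g ∉ L ∧ C.pairs hN ≤ L ∧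
      (∀ x ∈ M, ∀ y ∈ L, x * y * x⁻¹ ∈ L) ∧ Odd ((C.pairs hN).relIndex L) := by
  classical
  set Y := C.mid hN
  set N := C.pairs hN
  have hNM : N ≤ M := pairs_le_index_two hN hM
  have hYM : Y ≤ M := sup_le hNM (zpowers_le.2 hg)
  have hNY : N ≤ Y := le_sup_left
  have hYidx : Y.index = 2 * (C.big hN).index := by
    rw [← relIndex_mul_index (mid_le hN), mid_relIndex hN]
  have hYodd : Odd (Y.relIndex M) := by
    have h := relIndex_mul_index hYM
    rw [hYidx, hM] at h
    rw [show Y.relIndex M = (C.big hN).index by omega]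
    exact odd_big hN
  have hK := card_cent_g hN hMn hM hT hg
  have hno : ∀ k ∈ M, k * C.g * k⁻¹ ∉ N := by
    intro k hk hkN
    obtain ⟨n, hn, hrep⟩ := rep_pairs hN hkN
      (by rw [show k * C.g * k⁻¹ * (k * C.g * k⁻¹) = k * (C.g * C.g) * k⁻¹ by group, C.gg, mul_one,
        mul_inv_cancel])
      (fun h => g_not_pairs hN (by rw [conj_eq_one_iff.1 h]; exact one_mem _))
    set l := n * k
    have hl : l ∈ M := mul_mem (hNM hn) hk
    have hle : ∀ (z : G), l * C.g * l⁻¹ = z → ∀ (S : Subgroup G), S ≤ M →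
        (∀ s ∈ S, s * z = z * s) → Nat.card S ∣ 120 := by
      intro z hz S hSM hS
      have hcm : Nat.card (S.map (MulAut.conj l⁻¹).toMonoidHom) = Nat.card S :=
        Subgroup.card_map_of_injective (MulEquiv.injective _)
      rw [← hK, ← hcm]
      refine Subgroup.card_dvd_of_le ?_
      rintro _ ⟨s, hs, rfl⟩
      refine ⟨mem_centralizer_singleton_iff.2 ?_, ?_⟩
      · show l⁻¹ * s * l⁻¹⁻¹ * C.g = C.g * (l⁻¹ * s * l⁻¹⁻¹)
        rw [show C.g = l⁻¹ * z * l by rw [← hz]; group,
          show l⁻¹ * s * l⁻¹⁻¹ * (l⁻¹ * z * l) = l⁻¹ * (s * z) * l by group, hS s hs]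
        group
      · show l⁻¹ * s * l⁻¹⁻¹ ∈ M
        exact mul_mem (mul_mem (inv_mem hl) (hSM hs)) (inv_mem (inv_mem hl))
    have hu : ∀ S : Subgroup G, S = C.pairs hN ⊓ centralizer ({C.bp mV5} : Set G) →
        240 ≤ Nat.card S := by
      rintro S rfl
      have hcard : Nat.card (alternatingGroup (Fin 5) × K4) = 240 := by
        rw [Nat.card_prod, card_alt5, card_K4]
      rw [← hcard]
      refine Nat.card_le_card_of_injective (fun q => ⟨C.γ q.1 * C.bp q.2,
        pair_mem hN q.1.2 (K4_sign q.2.2), mem_centralizer_singleton_iff.2 ?_⟩) ?_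
      · have h1 : Commute (C.γ (q.1 : Perm (Fin 5))) (C.bp mV5) :=
          comm5 hN _ _ q.1.2 (by decide +kernel)
        have h2 : Commute (C.bp (q.2 : Perm (Fin 5))) (C.bp mV5) :=
          (C.cent_K4 (C.bp_K4_mem q.2.2) ⟨1, 0, by simp⟩)
        exact (h1.mul_left h2).eq
      · intro q r h
        obtain ⟨h1, h2⟩ := pair_inj hN q.1.2 (K4_sign q.2.2) r.1.2 (K4_sign r.2.2)
          (congrArg Subtype.val h :)
        exact Prod.ext (Subtype.ext h1) (Subtype.ext h2)
    have hrepl : l * C.g * l⁻¹ = n * (k * C.g * k⁻¹) * n⁻¹ := by simp only [l]; group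
    have hbig : ∀ l' : G, l' ∈ M → l' * C.g * l'⁻¹ = C.bp mV5 → False := by
      intro l' hl' hz
      have := hu _ rfl
      have hd : Nat.card (C.pairs hN ⊓ centralizer ({C.bp mV5} : Set G) : Subgroup G) ∣ 120 := by
        have hcm : Nat.card ((C.pairs hN ⊓ centralizer ({C.bp mV5} : Set G)).map
            (MulAut.conj l'⁻¹).toMonoidHom) =
            Nat.card (C.pairs hN ⊓ centralizer ({C.bp mV5} : Set G) : Subgroup G) :=
          Subgroup.card_map_of_injective (MulEquiv.injective _)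
        rw [← hK, ← hcm]
        refine Subgroup.card_dvd_of_le ?_
        rintro _ ⟨s, hs, rfl⟩
        refine ⟨mem_centralizer_singleton_iff.2 ?_, ?_⟩
        · show l'⁻¹ * s * l'⁻¹⁻¹ * C.g = C.g * (l'⁻¹ * s * l'⁻¹⁻¹)
          rw [show C.g = l'⁻¹ * C.bp mV5 * l' by rw [← hz]; group,
            show l'⁻¹ * s * l'⁻¹⁻¹ * (l'⁻¹ * C.bp mV5 * l') = l'⁻¹ * (s * C.bp mV5) * l' by group,
            mem_centralizer_singleton_iff.1 hs.2]
          group
        · show l'⁻¹ * s * l'⁻¹⁻¹ ∈ M
          exact mul_mem (mul_mem (inv_mem hl') (hNM hs.1)) (inv_mem (inv_mem hl'))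
      have := Nat.le_of_dvd (by norm_num) hd
      omega
    rcases hrep with e | e | e <;> rw [← hrepl] at e
    · refine hbig (C.g * l) (mul_mem hg hl) ?_
      rw [show C.g * l * C.g * (C.g * l)⁻¹ = C.g * (l * C.g * l⁻¹) * C.g⁻¹ by group, e, C.g_γ]
    · exact hbig l hl e
    · obtain ⟨S, hS2, hS16, hSle, hScomm⟩ := two_group hN
      have hd := hle _ e S (hSle.trans (sup_le ((sq16_le hN).trans hNM) (zpowers_le.2 hg))) hScomm
      rw [show (120 : ℕ) = 8 * 15 from rfl] at hd
      exact two_power_not_dvd hS2 hS16 (by norm_num) (by norm_num) hd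
  obtain ⟨L0, hL0n, hL02, hgL0⟩ := exists_normal_two (Y.subgroupOf M) (N.subgroupOf M)
    (show Odd (Y.subgroupOf M).index from hYodd)
    (by rw [relIndex_subgroupOf hYM]; exact pairs_relIndex hN)
    (t := (⟨C.g, hg⟩ : M)) (Subtype.ext C.gg)
    (fun k h => hno k k.2 (by simpa [mem_subgroupOf] using h))
  set L := L0.map M.subtype
  have hL : L.relIndex M = 2 := by
    rw [show L.relIndex M = (L.subgroupOf M).index from rfl,
      show L.subgroupOf M = L0 from comap_map_eq_self_of_injective M.subtype_injective L0]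
    exact hL02
  have hNL : N ≤ L := pairs_le_of_odd hN L fun x hx h15 => by
    refine ⟨⟨x, hNM hx⟩, mem_of_index_two_of_pow hL02 (Subtype.ext (by simpa using h15)), rfl⟩
  refine ⟨L, map_subtype_le _, hL, ?_, hNL, ?_, ?_⟩
  · rintro ⟨w, hw, hwg⟩
    exact hgL0 (show (⟨C.g, hg⟩ : M) ∈ L0 from (show w = ⟨C.g, hg⟩ from Subtype.ext hwg) ▸ hw)
  · rintro x hx _ ⟨w, hw, rfl⟩
    exact ⟨⟨x, hx⟩ * w * ⟨x, hx⟩⁻¹, hL0n.conj_mem _ hw _, rfl⟩
  · have h1 := relIndex_mul_relIndex N L M hNL (map_subtype_le _)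
    have h2 := relIndex_mul_relIndex N Y M hNY hYM
    rw [hL] at h1
    rw [pairs_relIndex hN] at h2
    rw [show N.relIndex L = Y.relIndex M by linarith]
    exact hYodd

end Ctx

end CfsgLib.ThreeLocalSymEight
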