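import Cfsg.Agent.ThreeLocalSymEight.Normal
import Cfsg.Agent.S3333
import Mathlib.GroupTheory.Perm.Cycle.Type

/-!
The centralizer of `τ`: it normalises the Sylow 3-subgroup or has order 1440. In the second case
the centralizer of a four-group of `C(z)` has order at least 48.
-/

set_option autoImplicit false
set_option maxRecDepth 100000

namespace CfsgLib.ThreeLocalSymEight

open Subgroup Equiv Equiv.Perm
open CfsgLib.ThreeLocalEight (c3 t3 c5 fin3_ne zpowers_three mem_normalizer_zpowers_of)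

universe u

/-- first involution of the four-group fixing 3 -/
def mV5 : Perm (Fin 5) := swap 0 4 * swap 1 2
/-- second involution of the four-group fixing 3 -/
def mW5 : Perm (Fin 5) := swap 1 4 * swap 0 2
/-- carries `u5`, `v5` to the four-group fixing 3 -/
def r23 : Perm (Fin 5) := swap 0 1 * swap 2 3

theorem norm_u5 : ∀ p : Perm (Fin 5), p * t5 = t5 * p ∧ p * u5 = u5 * p →
    ∃ j k : Fin 2, p = s5 ^ j.val * t5 ^ k.val := by decide +kernel

theorem kern_elt : ∀ i : Fin 3, ∀ j k : Fin 2,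
    ((c3 ^ i.val, s5 ^ j.val * t5 ^ k.val) : P35) ^ 4 = eZ ^ i.val := by decide +kernel

theorem pZ_cases : ∀ i : Fin 3, i ≠ 0 → (i.val = 1 ∨ i.val = 2) := by decide

theorem no_three_commute : ∀ p : Perm (Fin 6), (swap 0 1 * swap 2 3) * p = p * (swap 0 1 * swap 2 3) →
    p ^ 3 = 1 → p = 1 := by decide +kernel

theorem cent_one : Nat.card {p : Perm (Fin 6) // swap 0 1 * p = p * swap 0 1} = 48 := by
  rw [Nat.card_eq_fintype_card]; decide +kernel

theorem cent_three : Nat.card {p : Perm (Fin 6) //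
    (swap 0 1 * swap 2 3 * swap 4 5) * p = p * (swap 0 1 * swap 2 3 * swap 4 5)} = 48 := by
  rw [Nat.card_eq_fintype_card]; decide +kernel

/-- An involution of `Sym(6)` commuting with an element of order 3 has centralizer of order 48. -/
theorem invol_six {p z : Perm (Fin 6)} (hp : p * p = 1) (hp1 : p ≠ 1) (hz : z ^ 3 = 1) (hz1 : z ≠ 1)
    (h : p * z = z * p) : Nat.card (centralizer ({p} : Set (Perm (Fin 6)))) = 48 := by
  haveI : Fact (Nat.Prime 2) := ⟨Nat.prime_two⟩
  obtain ⟨n, hn⟩ := Equiv.Perm.cycleType_prime_order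
    (show (orderOf p).Prime by rw [orderOf_eq_prime (by rw [sq, hp]) hp1]; exact Nat.prime_two)
  rw [orderOf_eq_prime (p := 2) (by rw [sq, hp]) hp1] at hn
  have hle : p.cycleType.sum ≤ 6 := by
    rw [sum_cycleType]
    exact (Finset.card_le_univ _).trans (by simp)
  have hn2 : n ≤ 2 := by
    rw [hn, Multiset.sum_replicate, smul_eq_mul] at hle
    omega
  have hcard : ∀ r : Perm (Fin 6), p.cycleType = r.cycleType →
      Nat.card {q : Perm (Fin 6) // r * q = q * r} =
        Nat.card (centralizer ({p} : Set (Perm (Fin 6)))) := by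
    intro r hr
    obtain ⟨c, hc⟩ := isConj_iff.1 (isConj_iff_cycleType_eq.2 hr)
    rw [← CfsgLib.ThreeLocalEight.card_centralizer_conj c p, hc]
    exact Nat.card_congr (Equiv.subtypeEquivRight fun q => by
      rw [mem_centralizer_singleton_iff]; exact eq_comm)
  interval_cases n
  · rw [← hcard (swap 0 1) (by rw [hn]; decide +kernel), cent_one]
  · exfalso
    obtain ⟨c, hc⟩ := isConj_iff.1 (isConj_iff_cycleType_eq.2
      (show p.cycleType = (swap 0 1 * swap 2 3 : Perm (Fin 6)).cycleType by rw [hn]; decide +kernel))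
    have h' : c * p * c⁻¹ * (c * z * c⁻¹) = c * z * c⁻¹ * (c * p * c⁻¹) :=
      ((show Commute p z from h).map (MulAut.conj c).toMonoidHom).eq
    rw [hc] at h'
    have h'' := no_three_commute _ h' (by rw [conj_pow, hz, mul_one, mul_inv_cancel])
    exact hz1 (conj_eq_one_iff.1 h'')
  · rw [← hcard (swap 0 1 * swap 2 3 * swap 4 5) (by rw [hn]; decide +kernel), cent_three]

namespace Ctx

variable {G : Type u} [Group G] (C : Ctx G)

/-- The centralizer of `τ`. -/
abbrev CT : Subgroup G := centralizer ({C.β eT} : Set G)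

theorem T_sq : C.β eT * C.β eT = 1 := by
  rw [← map_mul, show eT * eT = 1 by decide +kernel, map_one]

theorem T_mem : C.β eT ∈ C.CT := mem_centralizer_singleton_iff.2 rfl

theorem T_ne_one : C.β eT ≠ 1 := fun h => by
  rw [← map_one C.β] at h
  exact absurd (C.inj h) (by decide +kernel)

theorem mem_zpowers_T {x : G} (hx : x ∈ zpowers (C.β eT)) : x = 1 ∨ x = C.β eT := by
  obtain ⟨k, rfl⟩ := mem_zpowers_iff.1 hx
  have h2 : C.β eT ^ (2 : ℤ) = 1 := by rw [zpow_ofNat, sq, C.T_sq]
  rcases Int.emod_two_eq_zero_or_one k with h | h <;>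
    conv => congr <;> rw [← Int.emod_add_mul_ediv k 2, zpow_add, zpow_mul, h2, one_zpow, mul_one, h]
  · left; exact zpow_zero _
  · right; exact zpow_one _

theorem three_exact {y d : G} (hy : y ^ 3 = 1) (hd : d ^ 3 = 1) (hc : Commute d (C.β eT))
    (h : y = d ∨ y = d * C.β eT) : y = d := by
  refine h.resolve_right fun e => C.T_ne_one ?_
  rw [e, hc.mul_pow, hd, one_mul, pow_succ, sq, C.T_sq, one_mul] at hy
  exact hy

variable [Finite G]

instance zT_normal : ((zpowers (C.β eT)).subgroupOf C.CT).Normal := by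
  constructor
  intro n hn w
  rw [mem_subgroupOf] at hn ⊢
  have hw := mem_centralizer_singleton_iff.1 w.2
  rcases C.mem_zpowers_T hn with h | h
  · simp [h]
  · simpa [h, hw] using mem_zpowers (C.β eT)

/-- `C(τ)` modulo `⟨τ⟩`. -/
abbrev K := ↥C.CT ⧸ (zpowers (C.β eT)).subgroupOf C.CT

/-- The quotient map. -/
def π : C.CT →* C.K := QuotientGroup.mk' _

theorem π_surj : Function.Surjective C.π := QuotientGroup.mk'_surjective _

theorem π_eq_iff {x y : C.CT} :
    C.π x = C.π y ↔ (y : G) = x ∨ (y : G) = x * C.β eT := by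
  rw [π, QuotientGroup.mk'_apply, QuotientGroup.mk'_apply, QuotientGroup.eq, mem_subgroupOf]
  simp only [Subgroup.coe_mul, Subgroup.coe_inv]
  constructor
  · intro h
    rcases C.mem_zpowers_T h with h | h
    · exact Or.inl (inv_mul_eq_one.1 h).symm
    · exact Or.inr (inv_mul_eq_iff_eq_mul.1 h)
  · rintro (h | h) <;> rw [h]
    · simp
    · rw [inv_mul_cancel_left]; exact mem_zpowers _

/-- The image of `D`. -/
def S : Subgroup C.K := (C.D.subgroupOf C.CT).map C.π

theorem π_mem_S {x : C.CT} :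
    C.π x ∈ C.S ↔ ∃ d ∈ C.D, (x : G) = d ∨ (x : G) = d * C.β eT := by
  rw [S, mem_map]
  constructor
  · rintro ⟨w, hw, h⟩
    exact ⟨w, mem_subgroupOf.1 hw, C.π_eq_iff.1 h⟩
  · rintro ⟨d, hd, h⟩
    exact ⟨⟨d, C.D_le_centT hd⟩, mem_subgroupOf.2 hd, C.π_eq_iff.2 h⟩

theorem card_S : Nat.card C.S = 9 := by
  rw [← C.card_D, ← Nat.card_congr (subgroupOfEquivOfLe C.D_le_centT).toEquiv]
  refine Nat.card_congr (Equiv.ofBijective
    (fun w : C.D.subgroupOf C.CT => (⟨C.π w.1, mem_map_of_mem _ w.2⟩ : C.S)) ⟨?_, ?_⟩).symm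
  · intro w w' h
    have h' : C.π w.1 = C.π w'.1 := congrArg Subtype.val h
    have hw := mem_subgroupOf.1 w.2
    have hw' := mem_subgroupOf.1 w'.2
    exact Subtype.ext (Subtype.ext (C.three_exact (C.D_cube hw') (C.D_cube hw) (C.T_comm_D hw)
      (C.π_eq_iff.1 h')).symm)
  · rintro ⟨s, w, hw, rfl⟩
    exact ⟨⟨w, hw⟩, rfl⟩

theorem π_comm_exact {x : C.CT} {d : G} (hd : d ∈ C.D)
    (h : C.π x * C.π ⟨d, C.D_le_centT hd⟩ = C.π ⟨d, C.D_le_centT hd⟩ * C.π x) :
    (x : G) * d = d * x := by
  rw [← mul_inv_eq_iff_eq_mul, ← map_inv, ← map_mul, ← map_mul, eq_comm] at h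
  refine mul_inv_eq_iff_eq_mul.1 (C.three_exact ?_ (C.D_cube hd) (C.T_comm_D hd) (C.π_eq_iff.1 h))
  rw [conj_pow, C.D_cube hd, mul_one, mul_inv_cancel]

theorem π_normalizes {x : C.CT} (h : C.π x ∈ normalizer (C.S : Set C.K)) : C.NormD (x : G) := by
  intro i j
  have hd := C.dd_mem i j
  have h1 : C.π x * C.π ⟨_, C.D_le_centT hd⟩ * (C.π x)⁻¹ ∈ C.S :=
    (mem_normalizer_iff.1 h _).1 (C.π_mem_S.2 ⟨_, hd, Or.inl rfl⟩)
  rw [← map_inv, ← map_mul, ← map_mul, C.π_mem_S] at h1
  obtain ⟨d, hdD, hd'⟩ := h1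
  obtain ⟨i', j', rfl⟩ := hdD
  refine ⟨i', j', C.three_exact ?_ (C.D_cube (C.dd_mem i' j')) (C.T_comm_D (C.dd_mem i' j')) ?_⟩
  · rw [conj_pow, C.D_cube hd, mul_one, mul_inv_cancel]
  · simpa using hd'

theorem normD_π {x : C.CT} (h : C.NormD (x : G)) : C.π x ∈ normalizer (C.S : Set C.K) := by
  have key : ∀ s ∈ C.S, C.π x * s * (C.π x)⁻¹ ∈ C.S := by
    rintro _ ⟨w, hw, rfl⟩
    rw [← map_inv, ← map_mul, ← map_mul]
    obtain ⟨i, j, hij⟩ := mem_subgroupOf.1 hw
    obtain ⟨i', j', h'⟩ := h i j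
    exact C.π_mem_S.2 ⟨_, C.dd_mem i' j', Or.inl (by simpa [hij] using h')⟩
  have hle : C.S.map (MulAut.conj (C.π x)).toMonoidHom ≤ C.S := by
    rintro _ ⟨w, hw, rfl⟩; exact key w hw
  have heq := eq_of_le_of_card_ge hle (Subgroup.card_map_of_injective (MulEquiv.injective _)).ge
  rw [mem_normalizer_iff]
  refine fun y => ⟨key y, fun hy => ?_⟩
  rw [← heq] at hy
  obtain ⟨w, hw, hw'⟩ := hy
  exact (show w = y by simpa using hw') ▸ hw

theorem tau_cases [hcn : ((centralizer (C.D : Set G)).subgroupOf (normalizer (C.D : Set G))).Normal]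
    (eNC : normalizer (C.D : Set G) ⧸ (centralizer (C.D : Set G)).subgroupOf
      (normalizer (C.D : Set G)) ≃* DihedralGroup 4) :
    C.NCase ∨ ∃ e : C.K ≃* Perm (Fin 6), Nat.card C.CT = 1440 := by
  classical
  haveI : Fact (Nat.Prime 3) := ⟨Nat.prime_three⟩
  -- a Sylow subgroup
  have hSp : IsPGroup 3 C.S := IsPGroup.of_card (n := 2) (by rw [C.card_S]; norm_num)
  obtain ⟨P, hP⟩ := hSp.exists_le_sylow
  have hPS : C.S = (P : Subgroup C.K) := by
    refine eq_of_le_of_card_ge hP ?_
    obtain ⟨m, hm⟩ := IsPGroup.iff_card.1 P.2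
    have hdvd : 3 ^ m ∣ Nat.card G :=
      hm ▸ ((Subgroup.card_subgroup_dvd_card _).trans (Subgroup.card_quotient_dvd_card _)).trans
        (Subgroup.card_subgroup_dvd_card C.CT)
    obtain ⟨R, hR⟩ := Sylow.exists_subgroup_card_pow_prime 3 hdvd
    rw [hm, C.card_S]
    exact Nat.le_of_dvd (by norm_num) (hR ▸ C.sylow_bound R (IsPGroup.of_card hR))
  -- self-centralising
  have hcen : centralizer (C.S : Set C.K) = C.S := by
    refine le_antisymm (fun k hk => ?_) fun k hk => ?_
    · obtain ⟨x, rfl⟩ := C.π_surj k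
      have hc : ∀ d, ∀ hd : d ∈ C.D, (x : G) * d = d * x := fun d hd =>
        C.π_comm_exact hd (mem_centralizer_iff.1 hk _ (C.π_mem_S.2 ⟨d, hd, Or.inl rfl⟩)).symm
      obtain ⟨a, b, e, he⟩ := C.cD x (hc _ C.Z_mem_D) (hc _ C.Z'_mem_D)
      refine C.π_mem_S.2 ⟨_, C.dd_mem a b, ?_⟩
      rcases fin2_or e with rfl | rfl
      · exact Or.inl (by simpa using he)
      · exact Or.inr (by simpa [map_mul] using he)
    · rw [mem_centralizer_iff]
      rintro _ ⟨w, hw, rfl⟩
      obtain ⟨w', hw', rfl⟩ := hk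
      rw [← map_mul, ← map_mul]
      refine congrArg C.π (Subtype.ext ?_)
      show (w : G) * (w' : G) = (w' : G) * (w : G)
      haveI := C.D_comm
      exact congrArg Subtype.val (IsMulCommutative.is_comm.comm
        (⟨_, mem_subgroupOf.1 hw⟩ : C.D) ⟨_, mem_subgroupOf.1 hw'⟩)
  have hcent : ∀ s ∈ C.S, s ≠ 1 → centralizer ({s} : Set C.K) ≤ normalizer (C.S : Set C.K) := by
    rintro _ ⟨w, hw, rfl⟩ hne k hk
    obtain ⟨x, rfl⟩ := C.π_surj k
    obtain ⟨a, b, hab⟩ := mem_subgroupOf.1 hw
    have hw' : C.π ⟨(w : G), C.D_le_centT (mem_subgroupOf.1 hw)⟩ = C.π w := rfl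
    have hxd := C.π_comm_exact (mem_subgroupOf.1 hw) (x := x)
      (by rw [hw']; exact mem_centralizer_singleton_iff.1 hk)
    rw [hab] at hxd
    refine C.normD_π (C.normD_of_T (mem_centralizer_singleton_iff.1 x.2) ?_ hxd)
    rintro ⟨rfl, rfl⟩
    apply hne
    rw [dd_zero, map_one] at hab
    rw [show w = 1 from Subtype.ext hab, map_one]
  -- the automizer
  have hle : ∀ x : normalizer (C.D : Set G), (x : G) ∈ C.CT := fun x =>
    mem_centralizer_singleton_iff.2 (C.normD_comm_T (C.normD_iff.2 x.2))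
  let ι : normalizer (C.D : Set G) →* normalizer (C.S : Set C.K) :=
    { toFun := fun x => ⟨C.π ⟨x, hle x⟩, C.normD_π (C.normD_iff.2 x.2)⟩
      map_one' := Subtype.ext (map_one C.π)
      map_mul' := fun x y => Subtype.ext (map_mul C.π ⟨x, hle x⟩ ⟨y, hle y⟩) }
  haveI : (C.S.subgroupOf (normalizer (C.S : Set C.K))).Normal := normal_in_normalizer
  let ψ := (QuotientGroup.mk' (C.S.subgroupOf (normalizer (C.S : Set C.K)))).comp ι
  have hψ : Function.Surjective ψ := by
    intro q
    obtain ⟨⟨k, hk⟩, rfl⟩ := QuotientGroup.mk'_surjective _ q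
    obtain ⟨x, rfl⟩ := C.π_surj k
    exact ⟨⟨x, C.normD_iff.1 (C.π_normalizes hk)⟩, rfl⟩
  have hker : ψ.ker = (centralizer (C.D : Set G)).subgroupOf (normalizer (C.D : Set G)) := by
    ext x
    rw [MonoidHom.mem_ker, MonoidHom.comp_apply, QuotientGroup.mk'_apply, QuotientGroup.eq_one_iff,
      mem_subgroupOf, mem_subgroupOf]
    show C.π ⟨x, hle x⟩ ∈ C.S ↔ _
    rw [C.π_mem_S]
    constructor
    · rintro ⟨d, hd, h⟩
      rw [mem_centralizer_iff]
      intro w hw
      haveI := C.D_comm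
      have h1 : w * d = d * w :=
        congrArg Subtype.val (IsMulCommutative.is_comm.comm (⟨w, hw⟩ : C.D) ⟨d, hd⟩)
      change (x : G) = d ∨ (x : G) = d * C.β eT at h
      rcases h with h | h <;> rw [h]
      · exact h1
      · exact (Commute.mul_right (h1 : Commute w d) (C.T_comm_D hw)).eq
    · intro h
      obtain ⟨a, b, e, he⟩ := C.cD x (mem_centralizer_iff.1 h _ C.Z_mem_D).symm
        (mem_centralizer_iff.1 h _ C.Z'_mem_D).symm
      refine ⟨_, C.dd_mem a b, ?_⟩
      show (x : G) = _ ∨ (x : G) = _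
      rcases fin2_or e with rfl | rfl
      · exact Or.inl (by simpa using he)
      · exact Or.inr (by simpa [map_mul] using he)
  have eN : normalizer (C.S : Set C.K) ⧸ C.S.subgroupOf (normalizer (C.S : Set C.K)) ≃*
      DihedralGroup 4 :=
    ((QuotientGroup.quotientMulEquivOfEq hker.symm).trans
      (QuotientGroup.quotientKerEquivOfSurjective ψ hψ)).symm.trans eNC
  rcases Cfsg.Agent.S3333.result P C.S hPS C.card_S hcen eN hcent with h | ⟨⟨e⟩⟩
  · left
    intro x hx
    exact C.π_normalizes (x := ⟨x, mem_centralizer_singleton_iff.2 hx⟩) (by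
      rw [normalizer_eq_top_iff.2 h]; exact mem_top _)
  · right
    refine ⟨e, ?_⟩
    have h2 : Nat.card ((zpowers (C.β eT)).subgroupOf C.CT) = 2 := by
      rw [Nat.card_congr (subgroupOfEquivOfLe (zpowers_le.2 C.T_mem)).toEquiv, Nat.card_zpowers,
        orderOf_eq_prime (by rw [sq, C.T_sq]) C.T_ne_one]
    rw [Subgroup.card_eq_card_quotient_mul_card_subgroup ((zpowers (C.β eT)).subgroupOf C.CT), h2,
      Nat.card_congr e.toEquiv, Nat.card_perm, Nat.card_fin]
    rfl

/-- The centralizer of the four-group fixing 3. -/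
def CV : Subgroup G := centralizer ({C.bp mV5, C.bp mW5} : Set G)

theorem mem_cent_pair {x a b : G} :
    x ∈ centralizer ({a, b} : Set G) ↔ x * a = a * x ∧ x * b = b * x := by
  constructor
  · intro h
    exact ⟨(mem_centralizer_iff.1 h _ (Or.inl rfl)).symm, (mem_centralizer_iff.1 h _ (Or.inr rfl)).symm⟩
  · rintro ⟨h1, h2⟩
    rw [mem_centralizer_iff]
    rintro w (rfl | rfl)
    · exact h1.symm
    · exact h2.symm

theorem six_counts (e : C.K ≃* Perm (Fin 6)) :
    24 ≤ Nat.card (centralizer ({C.β eT, C.bp u5, C.bp v5} : Set G)) ∧ 48 ≤ Nat.card C.CV := by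
  classical
  haveI : Fact (Nat.Prime 3) := ⟨Nat.prime_three⟩
  set T := C.β eT
  set u := C.bp u5
  set v := C.bp v5
  have hbe : ∀ p : Perm (Fin 5), p * t5 = t5 * p → C.bp p * T = T * C.bp p := fun p hp => by
    show C.bp p * C.β eT = C.β eT * C.bp p
    rw [← C.bp_t5, ← map_mul, ← map_mul, hp]
  have huT : u * T = T * u := hbe _ (by decide +kernel)
  let uK : C.CT := ⟨u, mem_centralizer_singleton_iff.2 huT⟩
  let zK : C.CT := ⟨C.β eZ, C.D_le_centT C.Z_mem_D⟩
  have hu2 : u * u = 1 := by rw [← map_mul, show u5 * u5 = 1 by decide +kernel, map_one]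
  have hK48 : Nat.card (centralizer ({C.π uK} : Set C.K)) = 48 := by
    have h := invol_six (p := e (C.π uK)) (z := e (C.π zK)) ?_ ?_ ?_ ?_ ?_
    · rw [← h]
      refine Nat.card_congr (e.toEquiv.subtypeEquiv fun k => ?_)
      show k ∈ centralizer _ ↔ e k ∈ centralizer _
      rw [mem_centralizer_singleton_iff, mem_centralizer_singleton_iff, ← map_mul, ← map_mul,
        e.injective.eq_iff]
    · rw [← map_mul, ← map_mul, show uK * uK = 1 from Subtype.ext hu2, map_one, map_one]
    · rw [ne_eq, EmbeddingLike.map_eq_one_iff, ← map_one C.π, C.π_eq_iff]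
      rintro (h | h)
      · exact absurd (C.bp_inj (h.symm.trans (map_one C.bp).symm)) (by decide +kernel)
      · change (1 : G) = C.bp u5 * C.β eT at h
        rw [← C.bp_t5, ← map_mul, ← map_one C.bp] at h
        exact absurd (C.bp_inj h) (by decide +kernel)
    · rw [← map_pow, ← map_pow, show zK ^ 3 = 1 from Subtype.ext (by
        simpa using C.D_cube C.Z_mem_D), map_one, map_one]
    · rw [ne_eq, EmbeddingLike.map_eq_one_iff, ← map_one C.π, C.π_eq_iff]
      rintro (h | h)
      · exact absurd (C.inj ((h.symm : C.β eZ = 1).trans (map_one C.β).symm)) (by decide +kernel)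
      · change (1 : G) = C.β eZ * T at h
        rw [← map_mul, ← map_one C.β] at h
        exact absurd (C.inj h) (by decide +kernel)
    · rw [← map_mul, ← map_mul, ← map_mul, ← map_mul,
        show uK * zK = zK * uK from Subtype.ext (C.bp_comm_Z u5)]
  -- the preimage
  let M' : Subgroup C.CT := (centralizer ({C.π uK} : Set C.K)).comap C.π
  let M : Subgroup G := centralizer ({T, u} : Set G)
  have hM'96 : Nat.card M' = 96 := by
    have hZle : (zpowers T).subgroupOf C.CT ≤ M' := by
      intro w hw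
      have : C.π w = 1 := (QuotientGroup.eq_one_iff w).2 hw
      rw [mem_comap, this]; exact one_mem _
    rw [Subgroup.card_eq_card_quotient_mul_card_subgroup
      (((zpowers T).subgroupOf C.CT).subgroupOf M'),
      Nat.card_congr (subgroupOfEquivOfLe hZle).toEquiv]
    have h2 : Nat.card ((zpowers T).subgroupOf C.CT) = 2 := by
      rw [Nat.card_congr (subgroupOfEquivOfLe (zpowers_le.2 C.T_mem)).toEquiv, Nat.card_zpowers,
        orderOf_eq_prime (by rw [sq, C.T_sq]) C.T_ne_one]
    have hq : Nat.card (M' ⧸ ((zpowers T).subgroupOf C.CT).subgroupOf M') = 48 := by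
      rw [← hK48]
      haveI : (((zpowers T).subgroupOf C.CT).subgroupOf M').Normal :=
        (C.zT_normal).subgroupOf M'
      have hker : (C.π.comp M'.subtype).ker = ((zpowers T).subgroupOf C.CT).subgroupOf M' := by
        ext w
        rw [MonoidHom.mem_ker, MonoidHom.comp_apply]
        exact QuotientGroup.eq_one_iff _
      rw [← hker, Nat.card_congr (QuotientGroup.quotientKerEquivRange _).toEquiv]
      have hr : (C.π.comp M'.subtype).range = centralizer ({C.π uK} : Set C.K) := by
        ext k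
        constructor
        · rintro ⟨w, rfl⟩; exact w.2
        · intro hk
          obtain ⟨x, rfl⟩ := C.π_surj k
          exact ⟨⟨x, hk⟩, rfl⟩
      rw [hr]
    rw [hq, h2]
  have hMle : ∀ x ∈ M, ∃ hx : x ∈ C.CT, (⟨x, hx⟩ : C.CT) ∈ M' := by
    intro x hx
    obtain ⟨h1, h2⟩ := mem_cent_pair.1 hx
    refine ⟨mem_centralizer_singleton_iff.2 h1, mem_comap.2 (mem_centralizer_singleton_iff.2 ?_)⟩
    rw [← map_mul, ← map_mul]
    exact congrArg C.π (Subtype.ext h2)
  have hM96 : Nat.card M ≤ 96 := by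
    rw [← hM'96]
    refine Nat.card_le_card_of_injective
      (fun x : M => (⟨⟨x, (hMle x x.2).choose⟩, (hMle x x.2).choose_spec⟩ : M')) fun x y h => ?_
    exact Subtype.ext (congrArg (fun w : M' => ((w : C.CT) : G)) h)
  have hM48 : 48 ≤ Nat.card M := by
    have hcases : ∀ w : M', (w : G) * u * (w : G)⁻¹ = u ∨ (w : G) * u * (w : G)⁻¹ = u * T := by
      intro w
      have h : C.π w.1 * C.π uK = C.π uK * C.π w.1 := mem_centralizer_singleton_iff.1 w.2
      rw [← mul_inv_eq_iff_eq_mul, ← map_inv, ← map_mul, ← map_mul, eq_comm, C.π_eq_iff] at h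
      simpa [uK] using h
    by_cases hex : ∃ w : M', (w : G) * u * (w : G)⁻¹ = u * T
    · obtain ⟨w0, hw0⟩ := hex
      have hmem : ∀ w : M', (w : G) * u * (w : G)⁻¹ = u → (w : G) ∈ M := fun w h =>
        mem_cent_pair.2 ⟨mem_centralizer_singleton_iff.1 w.1.2, mul_inv_eq_iff_eq_mul.1 h⟩
      have hmem' : ∀ w : M', (w : G) * u * (w : G)⁻¹ = u * T → ((w0⁻¹ * w : M') : G) ∈ M := by
        intro w h
        refine hmem _ ?_
        have hTw : (w0 : G)⁻¹ * (u * T) * (w0 : G) = u := by rw [← hw0]; group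
        calc ((w0⁻¹ * w : M') : G) * u * ((w0⁻¹ * w : M') : G)⁻¹
            = (w0 : G)⁻¹ * ((w : G) * u * (w : G)⁻¹) * (w0 : G) := by simp; group
          _ = u := by rw [h, hTw]
      let f : M' → M × Fin 2 := fun w =>
        if h : (w : G) * u * (w : G)⁻¹ = u then (⟨w, hmem w h⟩, 0)
        else (⟨_, hmem' w ((hcases w).resolve_left h)⟩, 1)
      have hf : Function.Injective f := by
        intro w w' h
        simp only [f] at h
        split_ifs at h with h1 h2 h2
        · exact Subtype.ext (Subtype.ext (congrArg (fun q : M × Fin 2 => (q.1 : G)) h :))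
        · exact absurd (congrArg Prod.snd h) (by simp)
        · exact absurd (congrArg Prod.snd h) (by simp)
        · have := (congrArg (fun q : M × Fin 2 => (q.1 : G)) h :)
          exact Subtype.ext (Subtype.ext (by simpa using this))
      have := Nat.card_le_card_of_injective f hf
      rw [hM'96, Nat.card_prod, Nat.card_fin] at this
      omega
    · push Not at hex
      have : 96 ≤ Nat.card M := by
        rw [← hM'96]
        refine Nat.card_le_card_of_injective (fun w : M' => (⟨(w : G), mem_cent_pair.2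
          ⟨mem_centralizer_singleton_iff.1 w.1.2,
            mul_inv_eq_iff_eq_mul.1 ((hcases w).resolve_right (hex w))⟩⟩ : M)) fun x y h => ?_
        exact Subtype.ext (Subtype.ext (congrArg Subtype.val h :))
      omega
  -- the Sylow 3-subgroups of `M`
  have hZT : C.β eZ * T = T * C.β eZ := C.T_comm_D C.Z_mem_D
  have hZM : C.β eZ ∈ M := mem_cent_pair.2 ⟨hZT, (C.bp_comm_Z u5).symm⟩
  let zM : M := ⟨C.β eZ, hZM⟩
  have hNM : ∀ x : M, (x : G) * C.β eZ * (x : G)⁻¹ ∈ zpowers (C.β eZ) →
      ∃ (s : Perm (Fin 3)) (j k : Fin 2), (x : G) = C.β (s, s5 ^ j.val * t5 ^ k.val) := by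
    intro x hx
    obtain ⟨m, hm⟩ : (x : G) ∈ C.β.range := by
      rw [C.range_eq]; exact mem_normalizer_zpowers_of hx
    obtain ⟨h1, h2⟩ := mem_cent_pair.1 x.2
    rw [← hm] at h2
    change C.β m * C.β (1, u5) = C.β (1, u5) * C.β m at h2
    rw [← map_mul, ← map_mul] at h2
    rw [← hm, ← map_mul, ← map_mul] at h1
    obtain ⟨j, k, hp⟩ := norm_u5 m.2 ⟨congrArg Prod.snd (C.inj h1), congrArg Prod.snd (C.inj h2)⟩
    exact ⟨m.1, j, k, hm.symm.trans (congrArg C.β (Prod.ext rfl hp))⟩
  have hzM3 : orderOf zM = 3 := by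
    rw [Subgroup.orderOf_mk]
    exact orderOf_eq_prime (C.D_cube C.Z_mem_D) (fun h => by
      rw [← map_one C.β] at h; exact absurd (C.inj h) (by decide +kernel))
  have hz3 : zM ^ 3 = 1 := by rw [← hzM3]; exact pow_orderOf_eq_one zM
  have hPex : IsPGroup 3 (zpowers zM) := IsPGroup.of_card (n := 1) (by
    rw [Nat.card_zpowers, hzM3, pow_one])
  obtain ⟨P, hP⟩ := hPex.exists_le_sylow
  have hPz : (P : Subgroup M) = zpowers zM := by
    refine le_antisymm (fun x hx => ?_) hP
    set R := (P : Subgroup M).map M.subtype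
    have hdvd := C.sylow_bound R (P.2.map _)
    have hxR : (x : G) ∈ R := ⟨x, hx, rfl⟩
    have hzR : C.β eZ ∈ R := ⟨zM, hP (mem_zpowers _), rfl⟩
    have hx9 : (x : G) ^ 9 = 1 :=
      orderOf_dvd_iff_pow_eq_one.1 ((Subgroup.orderOf_dvd_natCard R hxR).trans hdvd)
    have hcomm : (x : G) * C.β eZ = C.β eZ * x := by
      have h9 : Nat.card R = 3 ∨ Nat.card R = 9 := by
        have h3 : 3 ∣ Nat.card R := by
          have h := Subgroup.orderOf_dvd_natCard R hzR
          rwa [← Subgroup.orderOf_mk (C.β eZ) hZM, hzM3] at h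
        have h' : Nat.card R ∈ Nat.divisors 9 := Nat.mem_divisors.2 ⟨hdvd, by norm_num⟩
        rw [show Nat.divisors 9 = {1, 3, 9} by decide] at h'
        simp only [Finset.mem_insert, Finset.mem_singleton] at h'
        omega
      rcases h9 with h | h
      · haveI := isCyclic_of_prime_card (α := R) (p := 3) h
        exact congrArg Subtype.val (IsCyclic.commGroup.mul_comm (⟨x, hxR⟩ : R) ⟨_, hzR⟩)
      · exact congrArg Subtype.val
          ((IsPGroup.commGroupOfCardEqPrimeSq (p := 3) (by rw [h]; norm_num)).mul_comm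
            (⟨(x : G), hxR⟩ : R) ⟨_, hzR⟩)
    obtain ⟨s, j, k, hxe⟩ := hNM x (by rw [hcomm, mul_inv_cancel_right]; exact mem_zpowers _)
    rw [hxe, ← map_pow, ← map_one C.β] at hx9
    have k1 : ∀ s : Perm (Fin 3), ∀ j k : Fin 2, ((s, s5 ^ j.val * t5 ^ k.val) : P35) ^ 9 = 1 →
        ∃ i : Fin 3, ((s, s5 ^ j.val * t5 ^ k.val) : P35) = eZ ^ i.val := by decide +kernel
    obtain ⟨i, hi⟩ := k1 s j k (C.inj hx9)
    rw [show x = zM ^ i.val from Subtype.ext (by simp [zM, hxe, hi])]
    exact pow_mem (mem_zpowers _) _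
  have hN24 : Nat.card (normalizer ((P : Subgroup M) : Set M)) = 24 := by
    have h24 : Nat.card (Perm (Fin 3) × Fin 2 × Fin 2) = 24 := by
      rw [Nat.card_eq_fintype_card]; decide
    rw [← h24]
    have hmem : ∀ q : Perm (Fin 3) × Fin 2 × Fin 2,
        C.β (q.1, s5 ^ q.2.1.val * t5 ^ q.2.2.val) ∈ M := by
      rintro ⟨s, j, k⟩
      rw [mem_cent_pair]
      have k1 : ∀ j k : Fin 2, s5 ^ j.val * t5 ^ k.val * t5 = t5 * (s5 ^ j.val * t5 ^ k.val) ∧
          s5 ^ j.val * t5 ^ k.val * u5 = u5 * (s5 ^ j.val * t5 ^ k.val) := by decide +kernel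
      simp only [u, T, bp_apply, ← map_mul]
      exact ⟨congrArg C.β (Prod.ext (by simp [eT]) (k1 j k).1),
        congrArg C.β (Prod.ext (by simp) (k1 j k).2)⟩
    refine (Nat.card_congr (Equiv.ofBijective (fun q => (⟨⟨_, hmem q⟩, ?_⟩ :
      normalizer ((P : Subgroup M) : Set M))) ⟨?_, ?_⟩)).symm
    · rw [hPz]
      refine mem_normalizer_zpowers_of ?_
      rcases normD_sign q.1 with hk | hk
      · rw [show (⟨_, hmem q⟩ : M) * zM * (⟨_, hmem q⟩ : M)⁻¹ = zM from Subtype.ext (by
          simp only [zM, Subgroup.coe_mul, Subgroup.coe_inv, ← map_inv, ← map_mul]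
          exact congrArg C.β (Prod.ext (by simp [eZ, hk]) (by simp [eZ])))]
        exact mem_zpowers _
      · rw [show (⟨_, hmem q⟩ : M) * zM * (⟨_, hmem q⟩ : M)⁻¹ = zM⁻¹ from Subtype.ext (by
          simp only [zM, Subgroup.coe_mul, Subgroup.coe_inv, ← map_inv, ← map_mul]
          exact congrArg C.β (Prod.ext (by simp [eZ, hk]) (by simp [eZ])))]
        exact inv_mem (mem_zpowers _)
    · intro q r h
      have h' := C.inj (congrArg (fun w : normalizer ((P : Subgroup M) : Set M) => ((w : M) : G)) h :)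
      have k2 : ∀ j k j' k' : Fin 2, s5 ^ j.val * t5 ^ k.val = s5 ^ j'.val * t5 ^ k'.val →
          j = j' ∧ k = k' := by decide +kernel
      obtain ⟨h1, h2⟩ := k2 _ _ _ _ (congrArg Prod.snd h')
      exact Prod.ext (congrArg Prod.fst h' :) (Prod.ext h1 h2)
    · rintro ⟨x, hx⟩
      rw [hPz] at hx
      have := CfsgLib.ThreeLocalEight.conj_mem_zpowers hx
      obtain ⟨i, hi⟩ := mem_zpowers_iff.1 this
      obtain ⟨s, j, k, hxe⟩ := hNM x (by
        refine mem_zpowers_iff.2 ⟨i, ?_⟩
        simpa [zM] using congrArg Subtype.val hi)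
      exact ⟨(s, j, k), Subtype.ext (Subtype.ext hxe.symm)⟩
  have hsyl : Nat.card (Sylow 3 M) = 4 ∧ Nat.card M = 96 := by
    have h1 : Nat.card (Sylow 3 M) = (normalizer ((P : Subgroup M) : Set M)).index :=
      P.card_eq_index_normalizer
    have h2 := Subgroup.card_mul_index (normalizer ((P : Subgroup M) : Set M))
    rw [hN24, ← h1] at h2
    have h3 := card_sylow_modEq_one 3 M
    unfold Nat.ModEq at h3
    constructor <;> omega
  -- `v` normalises `M` and fixes its Sylow 3-subgroups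
  have hv2 : v * v = 1 := by rw [← map_mul, show v5 * v5 = 1 by decide +kernel, map_one]
  have hvi : v⁻¹ = v := inv_eq_of_mul_eq_one_right hv2
  have hvu : v * u = u * v := by rw [← map_mul, ← map_mul]; exact congrArg C.bp (by decide +kernel)
  have hvM : ∀ x ∈ M, v * x * v ∈ M := by
    intro x hx
    obtain ⟨h1, h2⟩ := mem_cent_pair.1 hx
    have hvT : v * T * v = T * u := by
      simp only [v, T, u, ← C.bp_t5, ← map_mul]; exact congrArg C.bp (by decide +kernel)
    refine mem_cent_pair.2 ⟨?_, ?_⟩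
    · have hxu : Commute x (T * u) := Commute.mul_right h1 h2
      calc v * x * v * T = v * x * (v * T * v) * v := by
            rw [show v * x * (v * T * v) * v = v * x * v * T * (v * v) by group, hv2, mul_one]
        _ = v * (v * T * v) * x * v := by rw [hvT, mul_assoc v x, hxu.eq]; group
        _ = T * (v * x * v) := by
            rw [show v * (v * T * v) * x * v = (v * v) * T * (v * x * v) by group, hv2, one_mul]
    · calc v * x * v * u = v * (x * u) * v := by rw [mul_assoc (v * x), hvu]; group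
        _ = v * u * x * v := by rw [h2]; group
        _ = u * (v * x * v) := by rw [hvu]; group
  let σ : M →* M :=
    { toFun := fun x => ⟨v * x * v, hvM x x.2⟩
      map_one' := Subtype.ext (by simp [hv2])
      map_mul' := fun x y => Subtype.ext (by
        show v * ((x : G) * y) * v = v * x * v * (v * y * v)
        rw [show v * (x : G) * v * (v * y * v) = v * x * (v * v) * y * v by group, hv2, mul_one]
        group) }
  have hσσ : ∀ x, σ (σ x) = x := fun x => Subtype.ext (by
    show v * (v * x * v) * v = x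
    rw [show v * (v * (x : G) * v) * v = (v * v) * x * (v * v) by group, hv2, one_mul, mul_one])
  have hσz : σ zM = zM := Subtype.ext (by
    show v * C.β eZ * v = C.β eZ
    rw [C.bp_comm_Z v5, mul_assoc, hv2, mul_one])
  -- all subgroups of order 3
  have hfix : ∀ x : M, x ^ 3 = 1 → σ x ∈ zpowers x := by
    intro x hx
    rcases eq_or_ne x 1 with rfl | hx1
    · rw [map_one]; exact one_mem _
    have hall : ∀ y : M, y ^ 3 = 1 → y ≠ 1 → ∃ Q : Sylow 3 M, (Q : Subgroup M) = zpowers y := by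
      intro y hy hy1
      have hc : Nat.card (zpowers y) = Nat.card (P : Subgroup M) := by
        rw [hPz, Nat.card_zpowers, Nat.card_zpowers, hzM3, orderOf_eq_prime hy hy1]
      exact ⟨Sylow.ofCard (zpowers y) (by rw [hc, Sylow.card_eq_multiplicity]), rfl⟩
    have hQcard : ∀ Q : Sylow 3 M, Nat.card (Q : Subgroup M) = 3 := fun Q => by
      rw [Sylow.card_eq_multiplicity, ← Sylow.card_eq_multiplicity P, hPz, Nat.card_zpowers, hzM3]
    obtain ⟨Qx, hQx⟩ := hall x hx hx1
    have hsig : ∀ Q : Sylow 3 M, ∃ Q' : Sylow 3 M, (Q' : Subgroup M) = (Q : Subgroup M).map σ := by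
      intro Q
      have hinj : Function.Injective σ := fun a b h => by rw [← hσσ a, h, hσσ]
      refine ⟨Sylow.ofCard ((Q : Subgroup M).map σ) ?_, rfl⟩
      rw [Subgroup.card_map_of_injective hinj]; exact Q.card_eq_multiplicity
    choose S' hS' using hsig
    have hS'S' : ∀ Q, S' (S' Q) = Q := fun Q => Sylow.ext (by
      rw [hS', hS', Subgroup.map_map]
      ext w
      simp only [mem_map, MonoidHom.comp_apply, hσσ, exists_eq_right])
    have hS'z : ∀ Q, S' (zM • Q) = zM • S' Q := fun Q => Sylow.ext (by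
      rw [hS', Sylow.coe_subgroup_smul, Sylow.coe_subgroup_smul, hS']
      ext w
      simp only [mem_map, Subgroup.mem_pointwise_smul_iff_inv_smul_mem, MulAut.smul_def,
        MulAut.conj_apply]
      constructor
      · rintro ⟨a, ha, rfl⟩
        refine ⟨zM⁻¹ * a * zM, by simpa [mul_assoc] using ha, ?_⟩
        simp [map_mul, hσz, mul_assoc]
      · rintro ⟨a, ha, hw⟩
        refine ⟨zM * a * zM⁻¹, by simpa [mul_assoc] using ha, ?_⟩
        rw [map_mul, map_mul, map_inv, hσz, hw]
        simp [mul_assoc])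
    have hPfix : S' P = P := Sylow.ext (by
      rw [hS', hPz, MonoidHom.map_zpowers, hσz])
    have hnofix : ∀ Q : Sylow 3 M, zM • Q = Q → Q = P := by
      intro Q h
      have hz : zM ∈ normalizer ((Q : Subgroup M) : Set M) := Sylow.smul_eq_iff_mem_normalizer.1 h
      have hp : IsPGroup 3 (zpowers zM ⊔ (Q : Subgroup M) : Subgroup M) :=
        hPex.to_sup_of_normal_right' Q.2 (zpowers_le.2 hz)
      have hQ := Q.3 hp le_sup_right
      refine Sylow.ext ?_
      rw [hPz]
      exact (eq_of_le_of_card_ge (hQ ▸ le_sup_left) (by rw [hQcard, Nat.card_zpowers, hzM3])).symm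
    have hkey : ∀ Q, S' Q = Q := by
      intro Q
      by_contra hQ
      have hQP : Q ≠ P := fun h => hQ (h ▸ hPfix)
      have h3 : zM • zM • zM • Q = Q := by
        rw [smul_smul, smul_smul, show zM * zM * zM = 1 by
          rw [← pow_three']; exact hz3, one_smul]
      have hQ1 : zM • Q ≠ P := fun h => hQP (by
        have hfix : zM • P = P := Sylow.smul_eq_iff_mem_normalizer.2 (by
          show zM ∈ normalizer ((P : Subgroup M) : Set M)
          rw [hPz]; exact le_normalizer (mem_zpowers _))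
        rw [← hfix] at h; exact smul_left_cancel _ h)
      have hQ2 : zM • zM • Q ≠ P := fun h => hQP (by
        have hfix : zM • P = P := Sylow.smul_eq_iff_mem_normalizer.2 (by
          show zM ∈ normalizer ((P : Subgroup M) : Set M)
          rw [hPz]; exact le_normalizer (mem_zpowers _))
        rw [← hfix] at h
        have h' := smul_left_cancel _ h
        rw [← hfix] at h'
        exact smul_left_cancel _ h')
      have n1 : zM • Q ≠ Q := fun h => hQP (hnofix Q h)
      have n2 : zM • zM • Q ≠ Q := fun h => n1 (by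
        have := congrArg (zM • ·) h
        simp only [h3] at this
        exact this.symm)
      have n3 : zM • zM • Q ≠ zM • Q := fun h => n1 (smul_left_cancel _ h)
      haveI : Fintype (Sylow 3 M) := Fintype.ofFinite _
      have huniv : ({P, Q, zM • Q, zM • zM • Q} : Finset (Sylow 3 M)) = Finset.univ := by
        apply Finset.eq_univ_of_card
        rw [← Nat.card_eq_fintype_card, hsyl.1]
        simp [Finset.card_insert_of_notMem, hQP.symm, hQ1.symm, hQ2.symm, n1.symm, n2.symm, n3.symm]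
      have hm := Finset.mem_univ (S' Q)
      rw [← huniv] at hm
      simp only [Finset.mem_insert, Finset.mem_singleton] at hm
      rcases hm with h | h | h | h
      · exact hQP (by rw [← hS'S' Q, h, hPfix])
      · exact hQ h
      · have := hS'S' Q
        rw [h, hS'z, h] at this
        exact n2 this
      · have := hS'S' Q
        rw [h, hS'z, hS'z, h] at this
        have e3 : zM • zM • zM • zM • Q = zM • Q := by rw [h3]
        exact n1 (e3.symm.trans this)
    have h := hkey Qx
    have h' : σ x ∈ (S' Qx : Subgroup M) := by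
      rw [hS']; exact mem_map_of_mem σ (hQx ▸ mem_zpowers x)
    rwa [h, hQx] at h'
  -- the commutator with `v`
  let W : Subgroup M :=
    { carrier := {x | ∃ j k : Fin 2, (x : G) = C.bp (s5 ^ j.val * t5 ^ k.val)}
      one_mem' := ⟨0, 0, by simp⟩
      mul_mem' := by
        rintro x y ⟨j, k, hx⟩ ⟨j', k', hy⟩
        have k1 : ∀ j k j' k' : Fin 2, s5 ^ j.val * t5 ^ k.val * (s5 ^ j'.val * t5 ^ k'.val) =
            s5 ^ (j + j').val * t5 ^ (k + k').val := by decide +kernel
        exact ⟨j + j', k + k', by rw [Subgroup.coe_mul, hx, hy, ← map_mul, k1]⟩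
      inv_mem' := by
        rintro x ⟨j, k, hx⟩
        have k1 : ∀ j k : Fin 2, (s5 ^ j.val * t5 ^ k.val)⁻¹ = s5 ^ j.val * t5 ^ k.val := by
          decide +kernel
        exact ⟨j, k, by rw [Subgroup.coe_inv, hx, ← map_inv, k1]⟩ }
  have hWc : ∀ w ∈ W, ∀ x : M, w * x = x * w := by
    rintro w ⟨j, k, hw⟩ x
    apply Subtype.ext
    show (w : G) * x = x * w
    have k1 : ∀ j k : Fin 2, s5 ^ j.val * t5 ^ k.val =
        u5 ^ j.val * t5 ^ (j + k).val := by decide +kernel
    rw [hw, k1, map_mul, map_pow, map_pow, C.bp_t5]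
    obtain ⟨h1, h2⟩ := mem_cent_pair.1 x.2
    exact ((Commute.mul_right ((show Commute (x : G) u from h2).pow_right _)
      ((show Commute (x : G) T from h1).pow_right _)).symm).eq
  have hker : ∀ y : M, (∀ w : M, w ^ 3 = 1 → y * w * y⁻¹ ∈ zpowers w) → y ∈ W := by
    intro y hy
    obtain ⟨s, j, k, hys⟩ := hNM y (by
      obtain ⟨i, hi⟩ := mem_zpowers_iff.1 (hy zM (hz3))
      exact mem_zpowers_iff.2 ⟨i, by simpa [zM] using congrArg Subtype.val hi⟩)
    by_contra hyW
    -- some power or commutator of `y` is a generator of `⟨z⟩` with the same property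
    have hmove : ¬ ∀ w : M, w ^ 3 = 1 → zM * w * zM⁻¹ ∈ zpowers w := by
      intro hz
      have huniq : ∀ Q : Sylow 3 M, Q = P := by
        intro Q
        obtain ⟨g1, hg1⟩ := MulAction.exists_smul_eq M P Q
        have hw3 : (g1 * zM * g1⁻¹) ^ 3 = 1 := by
          rw [conj_pow, hz3, mul_one, mul_inv_cancel]
        have hmemQ : g1 * zM * g1⁻¹ ∈ (Q : Subgroup M) := by
          rw [← hg1, Sylow.coe_subgroup_smul]
          exact Subgroup.smul_mem_pointwise_smul zM (MulAut.conj g1) _ (hP (mem_zpowers _))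
        have hQ : (Q : Subgroup M) = zpowers (g1 * zM * g1⁻¹) := by
          refine (eq_of_le_of_card_ge (zpowers_le.2 hmemQ) (le_of_eq ?_)).symm
          rw [Nat.card_zpowers, Q.card_eq_multiplicity, ← P.card_eq_multiplicity, hPz,
            Nat.card_zpowers]
          exact (orderOf_injective (MulAut.conj g1).toMonoidHom (MulEquiv.injective _) zM).symm
        by_contra hQP
        have hfix : zM • Q ≠ Q := fun h => by
          have hz' : zM ∈ normalizer ((Q : Subgroup M) : Set M) :=
            Sylow.smul_eq_iff_mem_normalizer.1 h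
          have hp : IsPGroup 3 (zpowers zM ⊔ (Q : Subgroup M) : Subgroup M) :=
            hPex.to_sup_of_normal_right' Q.2 (zpowers_le.2 hz')
          have hle : zpowers zM ≤ (Q : Subgroup M) := by
            rw [← Q.3 hp le_sup_right]; exact le_sup_left
          refine hQP (Sylow.ext ((eq_of_le_of_card_ge (hPz ▸ hle) ?_).symm))
          rw [Sylow.card_eq_multiplicity, Sylow.card_eq_multiplicity]
        exact hfix (Sylow.smul_eq_iff_mem_normalizer.2 (by
          show zM ∈ normalizer ((Q : Subgroup M) : Set M)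
          rw [hQ]; exact mem_normalizer_zpowers_of (hz _ hw3)))
      have h4 := hsyl.1
      haveI : Subsingleton (Sylow 3 M) := ⟨fun a b => by rw [huniq a, huniq b]⟩
      rw [Nat.card_of_subsingleton P] at h4
      omega
    apply hmove
    intro w hw
    let H : Subgroup M := ⨅ w : {w : M // w ^ 3 = 1}, normalizer (zpowers (w : M) : Set M)
    have hmemH : ∀ {x : M}, (∀ w : M, w ^ 3 = 1 → x * w * x⁻¹ ∈ zpowers w) → x ∈ H := fun hx =>
      mem_iInf.2 fun w => mem_normalizer_zpowers_of (hx w.1 w.2)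
    have hyH := hmemH hy
    suffices hzH : zM ∈ H from
      CfsgLib.ThreeLocalEight.conj_mem_zpowers (mem_iInf.1 hzH ⟨w, hw⟩)
    have hzyH : zM * y * zM⁻¹ ∈ H := by
      refine hmemH fun w hw => ?_
      have hw' : (zM⁻¹ * w * zM) ^ 3 = 1 := by
        rw [show zM⁻¹ * w * zM = MulAut.conj zM⁻¹ w by simp, ← map_pow, hw, map_one]
      obtain ⟨i, hi⟩ := mem_zpowers_iff.1 (hy _ hw')
      refine mem_zpowers_iff.2 ⟨i, ?_⟩
      have := congrArg (fun t => zM * t * zM⁻¹) hi
      simp only [← conj_zpow] at this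
      convert this using 1 <;> group
    by_cases hs : s * c3 = c3 * s
    · have k1 : ∀ s : Perm (Fin 3), s * c3 = c3 * s → ∃ i : Fin 3, s = c3 ^ i.val := by decide
      obtain ⟨i, hi⟩ := k1 s hs
      have hy4 : y ^ 4 = zM ^ i.val := Subtype.ext (by
        simp only [zM, Subgroup.coe_pow, hys, hi, ← map_pow, kern_elt])
      have hi0 : i ≠ 0 := by
        rintro rfl
        exact hyW ⟨j, k, by rw [hys, hi]; rfl⟩
      rcases pZ_cases i hi0 with h | h <;> rw [h] at hy4
      · rw [pow_one] at hy4; exact hy4 ▸ pow_mem hyH 4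
      · have : zM = (y ^ 4)⁻¹ := by
          rw [hy4, eq_inv_iff_mul_eq_one, ← pow_succ']; exact hz3
        exact this ▸ inv_mem (pow_mem hyH 4)
    · have hinv : y * zM⁻¹ * y⁻¹ = zM := Subtype.ext (by
        simp only [zM, Subgroup.coe_mul, Subgroup.coe_inv, hys, ← map_inv, ← map_mul]
        have k1 : ∀ s : Perm (Fin 3), s * c3 ≠ c3 * s → s * c3⁻¹ * s⁻¹ = c3 := by decide
        exact congrArg C.β (Prod.ext (by simp [eZ, k1 s hs]) (by simp [eZ])))
      have h2 : zM * y * zM⁻¹ * y⁻¹ ∈ H := mul_mem hzyH (inv_mem hyH)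
      rw [show zM * y * zM⁻¹ * y⁻¹ = zM * (y * zM⁻¹ * y⁻¹) by group, hinv] at h2
      have : zM = (zM * zM)⁻¹ := by
        rw [eq_inv_iff_mul_eq_one, ← pow_three]; exact hz3
      exact this ▸ inv_mem h2
  have hk : ∀ x : M, x⁻¹ * σ x ∈ W := by
    intro x
    refine hker _ fun w hw => ?_
    have h1 : σ w ∈ zpowers w := hfix w hw
    have h2 := hfix (x * w * x⁻¹) (by rw [conj_pow, hw, mul_one, mul_inv_cancel])
    obtain ⟨i, hi⟩ := mem_zpowers_iff.1 h2
    have h1' : w ∈ zpowers (σ w) := by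
      have h := hfix (σ w) (by rw [← map_pow, hw, map_one])
      rwa [hσσ] at h
    obtain ⟨l, hl⟩ := mem_zpowers_iff.1 h1'
    have e : x⁻¹ * σ x * σ w * (x⁻¹ * σ x)⁻¹ = w ^ i := by
      rw [show x⁻¹ * σ x * σ w * (x⁻¹ * σ x)⁻¹ = x⁻¹ * (σ x * σ w * (σ x)⁻¹) * x by group,
        ← map_inv, ← map_mul, ← map_mul, ← hi, conj_zpow]
      group
    refine mem_zpowers_iff.2 ⟨i * l, ?_⟩
    have e' := congrArg (fun t => t ^ l) e
    simp only [conj_zpow, hl, ← zpow_mul] at e'
    exact e'.symm
  let f : M →* M :=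
    { toFun := fun x => x⁻¹ * σ x
      map_one' := by simp
      map_mul' := fun x y => by
        rw [map_mul, mul_inv_rev, show y⁻¹ * x⁻¹ * (σ x * σ y) = y⁻¹ * ((x⁻¹ * σ x) * σ y) by group,
          hWc _ (hk x) (σ y), ← mul_assoc, hWc _ (hk x) (y⁻¹ * σ y)] }
  have hker24 : 24 ≤ Nat.card f.ker := by
    have h := Subgroup.card_mul_index f.ker
    rw [Subgroup.index_ker, hsyl.2] at h
    have hW4 : Nat.card W ≤ 4 := by
      have : Nat.card (Fin 2 × Fin 2) = 4 := by simp
      rw [← this]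
      refine Nat.card_le_card_of_surjective
        (fun q : Fin 2 × Fin 2 => (⟨⟨C.bp (s5 ^ q.1.val * t5 ^ q.2.val), ?_⟩, q.1, q.2, rfl⟩ : W)) ?_
      · rw [mem_cent_pair]
        have k1 : ∀ j k : Fin 2, s5 ^ j.val * t5 ^ k.val * t5 = t5 * (s5 ^ j.val * t5 ^ k.val) ∧
            s5 ^ j.val * t5 ^ k.val * u5 = u5 * (s5 ^ j.val * t5 ^ k.val) := by decide +kernel
        exact ⟨hbe _ (k1 q.1 q.2).1, by rw [← map_mul, ← map_mul, (k1 q.1 q.2).2]⟩
      · rintro ⟨x, j, k, hx⟩
        exact ⟨(j, k), Subtype.ext (Subtype.ext hx.symm)⟩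
    have hr : Nat.card f.range ≤ 4 :=
      (card_le_of_le (show f.range ≤ W by rintro _ ⟨x, rfl⟩; exact hk x)).trans hW4
    by_contra hlt
    have : Nat.card f.ker * Nat.card f.range ≤ 23 * 4 := Nat.mul_le_mul (by omega) hr
    omega
  -- the centralizer of `{u, v}`
  let CW : Subgroup G := centralizer ({u, v} : Set G)
  have hkle : f.ker.map M.subtype ≤ CW := by
    rintro _ ⟨x, hx, rfl⟩
    have e : σ x = x := (inv_mul_eq_one.1 (hx : f x = 1)).symm
    refine mem_cent_pair.2 ⟨(mem_cent_pair.1 x.2).2, ?_⟩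
    have e' : v * (x : G) * v = x := congrArg Subtype.val e
    calc (x : G) * v = v * (x : G) * v * v := by rw [e']
      _ = v * x := by rw [mul_assoc, hv2, mul_one]
  have hCW : 48 ≤ Nat.card CW := by
    have hdvd := Subgroup.card_dvd_of_le hkle
    rw [Subgroup.card_map_of_injective (Subgroup.subtype_injective _)] at hdvd
    obtain ⟨c, hc⟩ := hdvd
    have hc0 : c ≠ 0 := fun h => by rw [h, mul_zero] at hc; exact (Nat.card_pos (α := CW)).ne' hc
    have hc1 : c ≠ 1 := by
      rintro rfl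
      have hcm : Nat.card (f.ker.map M.subtype) = Nat.card f.ker :=
        Subgroup.card_map_of_injective M.subtype_injective
      rw [mul_one, ← hcm] at hc
      have heq := eq_of_le_of_card_ge hkle hc.le
      have hvC : v ∈ CW := mem_cent_pair.2 ⟨hvu, rfl⟩
      rw [← heq] at hvC
      obtain ⟨x, -, hx⟩ := hvC
      have := (mem_cent_pair.1 x.2).1
      rw [show (x : G) = v from hx] at this
      change C.bp v5 * C.β eT = C.β eT * C.bp v5 at this
      rw [← C.bp_t5, ← map_mul, ← map_mul] at this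
      exact absurd (C.bp_inj this) (by decide +kernel)
    calc 48 = 24 * 2 := rfl
      _ ≤ Nat.card f.ker * c := Nat.mul_le_mul hker24 (by omega)
      _ = Nat.card CW := hc.symm
  refine ⟨?_, hCW.trans (le_of_eq ?_)⟩
  · refine hker24.trans ((Subgroup.card_map_of_injective M.subtype_injective).ge.trans
      (card_le_of_le fun y hy => ?_))
    obtain ⟨x, hx, rfl⟩ := hy
    have h := mem_cent_pair.1 (hkle ⟨x, hx, rfl⟩)
    rw [mem_centralizer_iff]
    rintro w (rfl | rfl | rfl)
    · exact (mem_cent_pair.1 x.2).1.symm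
    · exact h.1.symm
    · exact h.2.symm

  have hmap : CW.map (MulAut.conj (C.bp r23)).toMonoidHom = C.CV := by
    have e1 : ∀ w : G, w ∈ C.CV ↔ w * C.bp (r23 * u5 * r23⁻¹) = C.bp (r23 * u5 * r23⁻¹) * w ∧
        w * C.bp (r23 * v5 * r23⁻¹) = C.bp (r23 * v5 * r23⁻¹) * w := by
      intro w
      rw [CV, mem_cent_pair]
      have k1 : r23 * u5 * r23⁻¹ = mV5 * mW5 ∨ r23 * u5 * r23⁻¹ = mV5 ∨
          r23 * u5 * r23⁻¹ = mW5 := by decide +kernel
      constructor
      · rintro ⟨h1, h2⟩
        have h3 : Commute w (C.bp (mV5 * mW5)) := by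
          rw [map_mul]; exact Commute.mul_right h1 h2
        constructor
        · rcases k1 with k | k | k <;> rw [k]
          exacts [h3, h1, h2]
        · rcases (show r23 * v5 * r23⁻¹ = mV5 * mW5 ∨ r23 * v5 * r23⁻¹ = mV5 ∨
            r23 * v5 * r23⁻¹ = mW5 by decide +kernel) with k | k | k <;> rw [k]
          exacts [h3, h1, h2]
      · rintro ⟨h1, h2⟩
        have h3 : Commute w (C.bp ((r23 * u5 * r23⁻¹) * (r23 * v5 * r23⁻¹))) := by
          rw [map_mul]; exact Commute.mul_right h1 h2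
        constructor
        · rcases (show mV5 = r23 * u5 * r23⁻¹ ∨ mV5 = r23 * v5 * r23⁻¹ ∨
            mV5 = (r23 * u5 * r23⁻¹) * (r23 * v5 * r23⁻¹) by decide +kernel) with k | k | k <;> rw [k]
          exacts [h1, h2, h3]
        · rcases (show mW5 = r23 * u5 * r23⁻¹ ∨ mW5 = r23 * v5 * r23⁻¹ ∨
            mW5 = (r23 * u5 * r23⁻¹) * (r23 * v5 * r23⁻¹) by decide +kernel) with k | k | k <;> rw [k]
          exacts [h1, h2, h3]
    have key : ∀ (a b w : G), Commute (a * w * a⁻¹) (a * b * a⁻¹) ↔ Commute w b := by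
      intro a b w
      exact ⟨fun h => by simpa [mul_assoc] using h.map (MulAut.conj a⁻¹).toMonoidHom,
        fun h => h.map (MulAut.conj a).toMonoidHom⟩
    ext w
    rw [e1, mem_map]
    simp only [map_mul, map_inv]
    constructor
    · rintro ⟨x, hx, rfl⟩
      obtain ⟨h1, h2⟩ := mem_cent_pair.1 hx
      exact ⟨(key _ _ _).2 h1, (key _ _ _).2 h2⟩
    · rintro ⟨h1, h2⟩
      refine ⟨(C.bp r23)⁻¹ * w * C.bp r23, mem_cent_pair.2 ⟨?_, ?_⟩, by simp [mul_assoc]⟩
      · exact ((key (C.bp r23) _ _).1 (by simpa [mul_assoc, u, commute_iff_eq] using h1)).eq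
      · exact ((key (C.bp r23) _ _).1 (by simpa [mul_assoc, v, commute_iff_eq] using h2)).eq
  rw [← hmap, Subgroup.card_map_of_injective (MulEquiv.injective _)]

end Ctx

end CfsgLib.ThreeLocalSymEight
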