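import Cfsg.Agent.ThreeLocalSymEight.Setup
import Mathlib.GroupTheory.PGroup

/-!
Elementary consequences of the local data: the normalizer of the Sylow 3-subgroup, centralizers of
the elements of order 3 and tests excluding conjugacy to the involution centralising the Sylow
3-subgroup.
-/

set_option autoImplicit false
set_option maxRecDepth 100000

namespace CfsgLib.ThreeLocalSymEight

open Subgroup Equiv Equiv.Perm
open CfsgLib.ThreeLocalEight (c3 t3 c5 card_centralizer_conj centralizer_inv_singleton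
  zpowers_three mem_normalizer_zpowers_of fin3_ne three_fst)

universe u

theorem normD_snd : ∀ p : Perm (Fin 5), (∃ b : Fin 3, p * c5 * p⁻¹ = c5 ^ b.val) → p * t5 = t5 * p := by
  decide +kernel

theorem normD_sign : ∀ s : Perm (Fin 3), s * c3 * s⁻¹ = c3 ∨ s * c3 * s⁻¹ = c3⁻¹ := by decide

theorem three_snd : ∀ p : Perm (Fin 5), p ^ 3 = 1 ∧ (∃ b : Fin 3, p * c5 * p⁻¹ = c5 ^ b.val) →
    ∃ b : Fin 3, p = c5 ^ b.val := by decide +kernel

theorem three_fst' : ∀ s : Perm (Fin 3), s ^ 3 = 1 → ∃ a : Fin 3, s = c3 ^ a.val := by decide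

theorem four_snd : ∀ p : Perm (Fin 5), p * (s5 * t5) = (s5 * t5) * p ∧
    (∃ b : Fin 3, p * c5 * p⁻¹ = c5 ^ b.val) → ∃ j k : Fin 2, p = s5 ^ j.val * t5 ^ k.val := by
  decide +kernel

theorem four_fst : ∀ s : Perm (Fin 3), s * t3 * s⁻¹ = t3 → ∃ i : Fin 2, s = t3 ^ i.val := by decide

theorem conj_t3_ne : ∀ s : Perm (Fin 3), s * t3 * s⁻¹ ≠ 1 := by decide

namespace Ctx

variable {G : Type u} [Group G] (C : Ctx G)

theorem ginv : C.g⁻¹ = C.g := inv_eq_of_mul_eq_one_right C.gg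

theorem gconj (x : G) : C.g * (C.g * x * C.g⁻¹) * C.g⁻¹ = x := by
  rw [C.ginv, show C.g * (C.g * x * C.g) * C.g = (C.g * C.g) * x * (C.g * C.g) by group, C.gg]
  group

/-- `β (1, p)`. -/
def bp : Perm (Fin 5) →* G := C.β.comp (MonoidHom.inr _ _)

/-- The image of the second factor under `g`. -/
def γ : Perm (Fin 5) →* G := (MulAut.conj C.g).toMonoidHom.comp C.bp

theorem bp_apply (p : Perm (Fin 5)) : C.bp p = C.β (1, p) := rfl

theorem γ_apply (p : Perm (Fin 5)) : C.γ p = C.g * C.bp p * C.g⁻¹ := rfl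

theorem g_γ (p : Perm (Fin 5)) : C.g * C.γ p * C.g⁻¹ = C.bp p := C.gconj _

theorem bp_inj : Function.Injective C.bp := fun p q h => congrArg Prod.snd (C.inj h)

theorem γ_inj : Function.Injective C.γ := fun _ _ h => C.bp_inj ((MulAut.conj C.g).injective h)

theorem bp_c5 : C.bp c5 = C.β eZ' := rfl

theorem bp_t5 : C.bp t5 = C.β eT := rfl

theorem γ_c5 : C.γ c5 = C.β eZ := C.gz'

theorem γ_t5 : C.γ t5 = C.β eT := by
  rw [γ_apply, bp_t5, C.gT, mul_inv_cancel_right]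

theorem g_a : C.g * C.β eA * C.g⁻¹ = C.bp (s5 * t5 ^ C.tw.val) := by
  rw [C.ga]
  exact congrArg C.β (Prod.ext (by simp [eC, eT]) (by simp [eC, eT]))

theorem γ_a : C.γ (s5 * t5 ^ C.tw.val) = C.β eA := by
  rw [γ_apply, ← C.g_a, C.gconj]

theorem bp_comm_fst (p : Perm (Fin 5)) (s : Perm (Fin 3)) :
    C.bp p * C.β (s, 1) = C.β (s, 1) * C.bp p := by
  rw [bp_apply, ← map_mul, ← map_mul]
  exact congrArg C.β (Prod.ext (by simp) (by simp))

theorem bp_comm_Z (p : Perm (Fin 5)) : C.bp p * C.β eZ = C.β eZ * C.bp p := C.bp_comm_fst p c3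

theorem bp_comm_a (p : Perm (Fin 5)) : C.bp p * C.β eA = C.β eA * C.bp p := C.bp_comm_fst p t3

theorem γ_comm {p : Perm (Fin 5)} {x : G} (h : C.bp p * (C.g * x * C.g⁻¹) = C.g * x * C.g⁻¹ * C.bp p) :
    C.γ p * x = x * C.γ p := by
  have := congrArg (fun w => C.g * w * C.g⁻¹) h
  rwa [show C.g * (C.bp p * (C.g * x * C.g⁻¹)) * C.g⁻¹ =
      (C.g * C.bp p * C.g⁻¹) * (C.g * (C.g * x * C.g⁻¹) * C.g⁻¹) by group,
    show C.g * (C.g * x * C.g⁻¹ * C.bp p) * C.g⁻¹ =
      (C.g * (C.g * x * C.g⁻¹) * C.g⁻¹) * (C.g * C.bp p * C.g⁻¹) by group, C.gconj] at this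

theorem γ_comm_Z' (p : Perm (Fin 5)) : C.γ p * C.β eZ' = C.β eZ' * C.γ p :=
  C.γ_comm (by rw [C.gz']; exact C.bp_comm_Z p)

theorem γ_comm_u (p : Perm (Fin 5)) :
    C.γ p * C.bp (s5 * t5 ^ C.tw.val) = C.bp (s5 * t5 ^ C.tw.val) * C.γ p :=
  C.γ_comm (by rw [← C.g_a, C.gconj]; exact C.bp_comm_a p)

theorem mem_range_of_normalize [Finite G] {x : G}
    (h : x * C.β eZ * x⁻¹ = C.β eZ ∨ x * C.β eZ * x⁻¹ = (C.β eZ)⁻¹) : ∃ m, C.β m = x := by
  have : x ∈ C.β.range := by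
    rw [C.range_eq]
    refine mem_normalizer_zpowers_of ?_
    rcases h with h | h <;> rw [h]
    · exact mem_zpowers _
    · exact inv_mem (mem_zpowers _)
  exact this

theorem cent_Z [Finite G] {x : G} (h : x * C.β eZ = C.β eZ * x) :
    ∃ (i : Fin 3) (p : Perm (Fin 5)), x = C.β (c3 ^ i.val, p) := by
  obtain ⟨m, rfl⟩ := C.mem_range_of_normalize (Or.inl (mul_inv_eq_iff_eq_mul.2 h))
  rw [← map_mul, ← map_mul] at h
  have e : m.1 * c3 = c3 * m.1 := congrArg Prod.fst (C.inj h)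
  have k : ∀ s : Perm (Fin 3), s * c3 = c3 * s → ∃ i : Fin 3, s = c3 ^ i.val := by decide
  obtain ⟨i, hi⟩ := k _ e
  exact ⟨i, m.2, congrArg C.β (Prod.ext hi rfl)⟩

theorem cent_Z' [Finite G] {x : G} (h : x * C.β eZ' = C.β eZ' * x) :
    ∃ (i : Fin 3) (p : Perm (Fin 5)), x = C.bp (c5 ^ i.val) * C.γ p := by
  obtain ⟨i, p, hx⟩ := C.cent_Z (x := C.g * x * C.g⁻¹) (by
    rw [← C.gz']
    calc C.g * x * C.g⁻¹ * (C.g * C.β eZ' * C.g⁻¹) = C.g * (x * C.β eZ') * C.g⁻¹ := by group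
      _ = C.g * (C.β eZ' * x) * C.g⁻¹ := by rw [h]
      _ = C.g * C.β eZ' * C.g⁻¹ * (C.g * x * C.g⁻¹) := by group)
  refine ⟨i, p, ?_⟩
  have := congrArg (fun w => C.g * w * C.g⁻¹) hx
  simp only [C.gconj] at this
  rw [this, γ_apply, bp_apply, bp_apply,
    show (c3 ^ i.val, p) = eZ ^ i.val * (1, p) from Prod.ext (by simp [eZ]) (by simp [eZ]), map_mul,
    show ((1 : Perm (Fin 3)), c5 ^ i.val) = eZ' ^ i.val from Prod.ext (by simp [eZ']) (by simp [eZ']),
    map_pow, map_pow, ← C.gz, conj_pow]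
  group

/-- The Sylow 3-subgroup. -/
def D : Subgroup G where
  carrier := {x | ∃ a b : Fin 3, x = C.β (dd a b)}
  one_mem' := ⟨0, 0, by rw [dd_zero, map_one]⟩
  mul_mem' := by
    rintro _ _ ⟨a, b, rfl⟩ ⟨a', b', rfl⟩
    exact ⟨a + a', b + b', by rw [← map_mul, dd_mul]⟩
  inv_mem' := by
    rintro _ ⟨a, b, rfl⟩
    exact ⟨-a, -b, by rw [← map_inv, dd_inv]⟩

theorem dd_mem (a b : Fin 3) : C.β (dd a b) ∈ C.D := ⟨a, b, rfl⟩

theorem Z_mem_D : C.β eZ ∈ C.D := ⟨1, 0, by rw [dd_one_zero]⟩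

theorem Z'_mem_D : C.β eZ' ∈ C.D := ⟨0, 1, by rw [dd_zero_one]⟩

theorem card_D : Nat.card C.D = 9 := by
  have h : Nat.card C.D = Nat.card (Fin 3 × Fin 3) := by
    refine Nat.card_congr (Equiv.ofBijective (fun q => (⟨C.β (dd q.1 q.2), q.1, q.2, rfl⟩ : C.D))
      ⟨?_, ?_⟩).symm
    · intro q r h
      obtain ⟨h1, h2⟩ := dd_inj _ _ _ _ (C.inj (congrArg Subtype.val h :))
      exact Prod.ext h1 h2
    · rintro ⟨x, a, b, rfl⟩
      exact ⟨(a, b), rfl⟩
  simp [h]

theorem D_comm : IsMulCommutative C.D :=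
  ⟨⟨fun x y => by
    obtain ⟨a, b, hx⟩ := x.2
    obtain ⟨a', b', hy⟩ := y.2
    apply Subtype.ext
    show (x : G) * y = y * x
    rw [hx, hy, ← map_mul, ← map_mul, dd_mul, dd_mul, add_comm a, add_comm b]⟩⟩

theorem D_cube {x : G} (hx : x ∈ C.D) : x ^ 3 = 1 := by
  obtain ⟨a, b, rfl⟩ := hx
  rw [← map_pow, dd_cube, map_one]

theorem D_not_cyclic : ¬ IsCyclic C.D := by
  intro h
  obtain ⟨x, hx⟩ := h.exists_generator
  have h1 := orderOf_eq_card_of_forall_mem_zpowers hx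
  have h2 := Nat.le_of_dvd (by norm_num) (orderOf_dvd_of_pow_eq_one
    (show x ^ 3 = 1 from Subtype.ext (by simpa using C.D_cube x.2)))
  rw [C.card_D] at h1
  omega

theorem T_comm_D {d : G} (hd : d ∈ C.D) : d * C.β eT = C.β eT * d := by
  obtain ⟨a, b, rfl⟩ := hd
  rw [← map_mul, ← map_mul]
  refine congrArg C.β ?_
  revert a b
  decide +kernel

theorem card_Z' [Finite G] : Nat.card (centralizer ({C.β eZ'} : Set G)) = 360 := by
  rw [← C.gz, card_centralizer_conj]; exact C.card_z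

theorem card_axis [Finite G] (a b : Fin 3) (hne : ¬ (a = 0 ∧ b = 0)) (h : a = 0 ∨ b = 0) :
    Nat.card (centralizer ({C.β (dd a b)} : Set G)) = 360 := by
  rcases h with rfl | rfl
  · rcases fin3_ne b (fun h => hne ⟨rfl, h⟩) with rfl | rfl
    · rw [dd_zero_one]; exact C.card_Z'
    · rw [show dd 0 (-1) = eZ'⁻¹ by decide +kernel, map_inv, centralizer_inv_singleton]
      exact C.card_Z'
  · rcases fin3_ne a (fun h => hne ⟨h, rfl⟩) with rfl | rfl
    · rw [dd_one_zero]; exact C.card_z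
    · rw [show dd (-1) 0 = eZ⁻¹ by decide +kernel, map_inv, centralizer_inv_singleton]
      exact C.card_z

/-- `x` normalises `D`. -/
def NormD (x : G) : Prop :=
  ∀ i j : Fin 3, ∃ i' j' : Fin 3, x * C.β (dd i j) * x⁻¹ = C.β (dd i' j')

theorem normD_of_off (a b : Fin 3) (ha : a ≠ 0) (hb : b ≠ 0) {x : G}
    (h : x * C.β (dd a b) = C.β (dd a b) * x) : C.NormD x := C.norm_off a b ha hb x h

theorem normD_iff [Finite G] {x : G} : C.NormD x ↔ x ∈ normalizer (C.D : Set G) := by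
  constructor
  · intro h
    have hle : C.D.map (MulAut.conj x).toMonoidHom ≤ C.D := by
      rintro _ ⟨w, ⟨a, b, rfl⟩, rfl⟩; exact h a b
    have heq := eq_of_le_of_card_ge hle
      (Subgroup.card_map_of_injective (MulEquiv.injective _)).ge
    rw [mem_normalizer_iff]
    intro y
    constructor
    · intro hy; rw [← heq]; exact ⟨y, hy, rfl⟩
    · intro hy
      rw [← heq] at hy
      obtain ⟨w, hw, hw'⟩ := hy
      exact (show w = y by simpa using hw') ▸ hw
  · intro h i j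
    exact (mem_normalizer_iff.1 h _).1 (C.dd_mem i j)

theorem normD_cases [Finite G] {x : G} (h : C.NormD x) : ∃ m : P35,
    (∃ b : Fin 3, m.2 * c5 * m.2⁻¹ = c5 ^ b.val) ∧ (x = C.β m ∨ x = C.g * C.β m) := by
  have hfin : ∀ (y : G), C.NormD y →
      (y * C.β eZ * y⁻¹ = C.β eZ ∨ y * C.β eZ * y⁻¹ = (C.β eZ)⁻¹) →
      ∃ m : P35, (∃ b : Fin 3, m.2 * c5 * m.2⁻¹ = c5 ^ b.val) ∧ y = C.β m := by
    intro y hy hyz
    obtain ⟨m, rfl⟩ := C.mem_range_of_normalize hyz
    obtain ⟨i, j, hij⟩ := hy 0 1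
    refine ⟨m, ⟨j, ?_⟩, rfl⟩
    rw [← map_inv, ← map_mul, ← map_mul] at hij
    have := congrArg Prod.snd (C.inj hij)
    simpa [dd] using this
  obtain ⟨i, j, hij⟩ := h 1 0
  rw [dd_one_zero] at hij
  have hne : ¬ (i = 0 ∧ j = 0) := by
    rintro ⟨rfl, rfl⟩
    rw [dd_zero, map_one, conj_eq_one_iff, ← map_one C.β] at hij
    exact absurd (C.inj hij) (by decide +kernel)
  have h360 : Nat.card (centralizer ({C.β (dd i j)} : Set G)) = 360 := by
    rw [← hij, card_centralizer_conj]; exact C.card_z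
  by_cases hj : j = 0
  · subst hj
    rcases fin3_ne i (fun h => hne ⟨h, rfl⟩) with rfl | rfl
    · obtain ⟨m, hm, rfl⟩ := hfin x h (Or.inl (by rw [hij, dd_one_zero]))
      exact ⟨m, hm, Or.inl rfl⟩
    · obtain ⟨m, hm, rfl⟩ := hfin x h (Or.inr (by
        rw [hij, show dd (-1) 0 = eZ⁻¹ by decide +kernel, map_inv]))
      exact ⟨m, hm, Or.inl rfl⟩
  · have hi : i = 0 := by
      by_contra hi
      rw [C.card_off i j hi hj] at h360
      omega
    subst hi
    have hgN : C.NormD C.g := by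
      intro a b
      refine ⟨b, a, ?_⟩
      rw [show dd a b = eZ ^ a.val * eZ' ^ b.val by simp [dd, eZ, eZ'], map_mul, map_pow, map_pow,
        show C.g * (C.β eZ ^ a.val * C.β eZ' ^ b.val) * C.g⁻¹ =
          (C.g * C.β eZ ^ a.val * C.g⁻¹) * (C.g * C.β eZ' ^ b.val * C.g⁻¹) by group,
        ← conj_pow, ← conj_pow, C.gz, C.gz', ← map_pow, ← map_pow, ← map_mul, swap_lin]
    have hgx : C.NormD (C.g * x) := by
      rw [C.normD_iff] at h hgN ⊢
      exact mul_mem hgN h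
    obtain ⟨m, hm, hgm⟩ := hfin (C.g * x) hgx (by
      rw [show C.g * x * C.β eZ * (C.g * x)⁻¹ = C.g * (x * C.β eZ * x⁻¹) * C.g⁻¹ by group, hij]
      rcases fin3_ne j hj with rfl | rfl
      · exact Or.inl (by rw [dd_zero_one, C.gz'])
      · exact Or.inr (by
          rw [show dd 0 (-1) = eZ'⁻¹ by decide +kernel, map_inv, ← conj_inv, C.gz']))
    exact ⟨m, hm, Or.inr (by rw [← hgm, ← mul_assoc, C.gg, one_mul])⟩

theorem g_normD [Finite G] : C.NormD C.g := by
  intro a b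
  refine ⟨b, a, ?_⟩
  rw [show dd a b = eZ ^ a.val * eZ' ^ b.val by simp [dd, eZ, eZ'], map_mul, map_pow, map_pow,
    show C.g * (C.β eZ ^ a.val * C.β eZ' ^ b.val) * C.g⁻¹ =
      (C.g * C.β eZ ^ a.val * C.g⁻¹) * (C.g * C.β eZ' ^ b.val * C.g⁻¹) by group,
    ← conj_pow, ← conj_pow, C.gz, C.gz', ← map_pow, ← map_pow, ← map_mul, swap_lin]

theorem normD_comm_T [Finite G] {x : G} (h : C.NormD x) : x * C.β eT = C.β eT * x := by
  obtain ⟨m, hm, hx⟩ := C.normD_cases h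
  have h1 : C.β m * C.β eT = C.β eT * C.β m := by
    rw [← map_mul, ← map_mul]
    exact congrArg C.β (Prod.ext (by simp [eT]) (normD_snd _ hm))
  rcases hx with rfl | rfl
  · exact h1
  · exact ((show Commute C.g (C.β eT) from C.gT).mul_left h1).eq

theorem normD_three [Finite G] {x : G} (h : C.NormD x) (hx : x ^ 3 = 1) : x ∈ C.D := by
  obtain ⟨m, hm, hxm⟩ := C.normD_cases h
  have hxr : ∃ n, C.β n = x := by
    rcases hxm with rfl | rfl
    · exact ⟨m, rfl⟩
    · refine C.mem_range_of_normalize ?_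
      set X := C.g * C.β m with hX
      have h2 : ∀ n : P35, (∃ b : Fin 3, n.2 * c5 * n.2⁻¹ = c5 ^ b.val) → C.β n * C.β eZ * (C.β n)⁻¹ = C.β eZ ∨
          C.β n * C.β eZ * (C.β n)⁻¹ = (C.β eZ)⁻¹ := by
        intro n _
        rw [← map_inv, ← map_mul, ← map_mul, ← map_inv]
        rcases normD_sign n.1 with hk | hk
        · exact Or.inl (congrArg C.β (Prod.ext (by simp [eZ, hk]) (by simp [eZ])))
        · exact Or.inr (congrArg C.β (Prod.ext (by simp [eZ, hk]) (by simp [eZ])))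
      have h3 : C.β m * C.β eZ' * (C.β m)⁻¹ = C.β eZ' ∨
          C.β m * C.β eZ' * (C.β m)⁻¹ = (C.β eZ')⁻¹ := by
        rw [← map_inv, ← map_mul, ← map_mul, ← map_inv]
        rcases norm_c5 _ hm with hk | hk
        · exact Or.inl (congrArg C.β (Prod.ext (by simp [eZ']) (by simp [eZ', hk])))
        · exact Or.inr (congrArg C.β (Prod.ext (by simp [eZ']) (by simp [eZ', hk])))
      have e1 : X * C.β eZ * X⁻¹ = C.β eZ' ∨ X * C.β eZ * X⁻¹ = (C.β eZ')⁻¹ := by
        rw [hX, show C.g * C.β m * C.β eZ * (C.g * C.β m)⁻¹ =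
          C.g * (C.β m * C.β eZ * (C.β m)⁻¹) * C.g⁻¹ by group]
        rcases h2 m hm with hk | hk <;> rw [hk]
        · exact Or.inl C.gz
        · exact Or.inr (by rw [← conj_inv, C.gz])
      have e2 : X * C.β eZ' * X⁻¹ = C.β eZ ∨ X * C.β eZ' * X⁻¹ = (C.β eZ)⁻¹ := by
        rw [hX, show C.g * C.β m * C.β eZ' * (C.g * C.β m)⁻¹ =
          C.g * (C.β m * C.β eZ' * (C.β m)⁻¹) * C.g⁻¹ by group]
        rcases h3 with hk | hk <;> rw [hk]
        · exact Or.inl C.gz'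
        · exact Or.inr (by rw [← conj_inv, C.gz'])
      have hi : X = (X * X)⁻¹ := by
        rw [eq_inv_iff_mul_eq_one, show X * (X * X) = X ^ 3 by simp [pow_succ, mul_assoc], hx]
      have h4 : (X * X) * C.β eZ * (X * X)⁻¹ = C.β eZ ∨
          (X * X) * C.β eZ * (X * X)⁻¹ = (C.β eZ)⁻¹ := by
        rw [show X * X * C.β eZ * (X * X)⁻¹ = X * (X * C.β eZ * X⁻¹) * X⁻¹ by group]
        rcases e1 with e1 | e1 <;> rw [e1]
        · exact e2
        · rw [← conj_inv]; rcases e2 with e2 | e2 <;> rw [e2] <;> simp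
      rw [hi, inv_inv]
      rcases h4 with h4 | h4
      · left
        conv_lhs => rw [← h4]
        group
      · right
        have h5 := congrArg (fun w => (X * X)⁻¹ * w⁻¹ * (X * X)) h4
        simp only [inv_inv] at h5
        rw [← h5]; group
  obtain ⟨n, rfl⟩ := hxr
  obtain ⟨i, j, hij⟩ := h 0 1
  rw [← map_inv, ← map_mul, ← map_mul] at hij
  have e := congrArg Prod.snd (C.inj hij)
  have hn3 : n ^ 3 = 1 := C.inj (by rw [map_pow, map_one, hx])
  obtain ⟨b, hb⟩ := three_snd n.2 ⟨congrArg Prod.snd hn3, j, by simpa [dd] using e⟩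
  obtain ⟨a, ha⟩ := three_fst' n.1 (congrArg Prod.fst hn3)
  exact ⟨a, b, congrArg C.β (Prod.ext ha hb)⟩

/-- The elements of `N(D)` centralising `a` and `u`. -/
theorem normD_four [Finite G] {x : G} (h : C.NormD x) (ha : x * C.β eA = C.β eA * x)
    (hu : x * C.bp (s5 * t5) = C.bp (s5 * t5) * x) :
    ∃ i j k : Fin 2, x = C.β (t3 ^ i.val, s5 ^ j.val * t5 ^ k.val) := by
  obtain ⟨m, hm, hx⟩ := C.normD_cases h
  rcases hx with rfl | rfl
  · rw [bp_apply, ← map_mul, ← map_mul] at hu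
    rw [← map_mul, ← map_mul] at ha
    obtain ⟨j, k, hp⟩ := four_snd m.2 ⟨congrArg Prod.snd (C.inj hu), hm⟩
    obtain ⟨i, hi⟩ := four_fst m.1 (mul_inv_eq_iff_eq_mul.2 (congrArg Prod.fst (C.inj ha)))
    exact ⟨i, j, k, congrArg C.β (Prod.ext hi hp)⟩
  · exfalso
    have h1 := congrArg (fun w => C.g * w * C.g⁻¹) (mul_inv_eq_iff_eq_mul.2 ha)
    rw [C.g_a, show C.g * (C.g * C.β m * C.β eA * (C.g * C.β m)⁻¹) * C.g⁻¹ =
      C.g * (C.g * (C.β m * C.β eA * (C.β m)⁻¹) * C.g⁻¹) * C.g⁻¹ by group, C.gconj, bp_apply,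
      ← map_inv, ← map_mul, ← map_mul] at h1
    exact conj_t3_ne m.1 (congrArg Prod.fst (C.inj h1))

/-- An element commuting with `τ` and with a nontrivial element of `D` normalises `D`. -/
theorem normD_of_T [Finite G] {x : G} (hT : x * C.β eT = C.β eT * x) {a b : Fin 3}
    (hne : ¬ (a = 0 ∧ b = 0)) (h : x * C.β (dd a b) = C.β (dd a b) * x) : C.NormD x := by
  by_cases ha : a = 0
  swap
  · by_cases hb : b = 0
    swap
    · exact C.normD_of_off a b ha hb h
    subst hb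
    have hZ : x * C.β eZ = C.β eZ * x := by
      rcases fin3_ne a ha with rfl | rfl
      · rwa [dd_one_zero] at h
      · rw [show dd (-1) 0 = eZ⁻¹ by decide +kernel, map_inv] at h
        simpa using (Commute.inv_right (h : Commute x _)).eq
    obtain ⟨i, p, rfl⟩ := C.cent_Z hZ
    rw [← map_mul, ← map_mul] at hT
    have hp : p * t5 = t5 * p := congrArg Prod.snd (C.inj hT)
    intro i' j'
    obtain ⟨i'', hi⟩ := conj_dd (c3 ^ i.val) i'
    have hj : ∃ j'' : Fin 3, p * c5 ^ j'.val * p⁻¹ = c5 ^ j''.val := by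
      rw [← conj_pow]
      have k : ∀ b : Fin 3, c5⁻¹ ^ b.val = c5 ^ (-b).val := by decide +kernel
      rcases centT_z p hp with h | h <;> rw [h]
      · exact ⟨j', rfl⟩
      · exact ⟨-j', k j'⟩
    obtain ⟨j'', hj⟩ := hj
    refine ⟨i'', j'', ?_⟩
    rw [← map_inv, ← map_mul, ← map_mul]
    exact congrArg C.β (Prod.ext (by simp [dd, ← hi]) (by simp [dd, ← hj]))
  subst ha
  have hb : b ≠ 0 := fun h => hne ⟨rfl, h⟩
  have hZ' : x * C.β eZ' = C.β eZ' * x := by
    rcases fin3_ne b hb with rfl | rfl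
    · rwa [dd_zero_one] at h
    · rw [show dd 0 (-1) = eZ'⁻¹ by decide +kernel, map_inv] at h
      simpa using (Commute.inv_right (h : Commute x _)).eq
  set w := C.g * x * C.g⁻¹
  have hwT : w * C.β eT = C.β eT * w := by
    have hgT : Commute C.g (C.β eT) := C.gT
    exact (((hgT.mul_left hT).mul_left hgT.inv_left)).eq
  have hwZ : w * C.β eZ = C.β eZ * w := by
    rw [← C.gz']
    calc w * (C.g * C.β eZ' * C.g⁻¹) = C.g * (x * C.β eZ') * C.g⁻¹ := by simp only [w]; group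
      _ = C.g * (C.β eZ' * x) * C.g⁻¹ := by rw [hZ']
      _ = C.g * C.β eZ' * C.g⁻¹ * w := by simp only [w]; group
  obtain ⟨i, p, hip⟩ := C.cent_Z hwZ
  have hw : C.NormD w := by
    rw [hip] at hwT ⊢
    rw [← map_mul, ← map_mul] at hwT
    have hp : p * t5 = t5 * p := congrArg Prod.snd (C.inj hwT)
    intro i' j'
    obtain ⟨i'', hi⟩ := conj_dd (c3 ^ i.val) i'
    have hj : ∃ j'' : Fin 3, p * c5 ^ j'.val * p⁻¹ = c5 ^ j''.val := by
      rw [← conj_pow]
      have k : ∀ b : Fin 3, c5⁻¹ ^ b.val = c5 ^ (-b).val := by decide +kernel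
      rcases centT_z p hp with h | h <;> rw [h]
      · exact ⟨j', rfl⟩
      · exact ⟨-j', k j'⟩
    obtain ⟨j'', hj⟩ := hj
    refine ⟨i'', j'', ?_⟩
    rw [← map_inv, ← map_mul, ← map_mul]
    exact congrArg C.β (Prod.ext (by simp [dd, ← hi]) (by simp [dd, ← hj]))
  rw [C.normD_iff] at hw ⊢
  have hg := C.normD_iff.1 C.g_normD
  have := mul_mem (mul_mem (inv_mem hg) hw) hg
  rwa [show C.g⁻¹ * w * C.g = x by simp only [w]; group] at this

/-- Elements of order 3 of a subgroup containing `D` are conjugate into `D` inside it. -/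
theorem conj_into_D [Finite G] (K : Subgroup G) (hK : C.D ≤ K) {x : G} (hx : x ∈ K)
    (h3 : x ^ 3 = 1) : ∃ h ∈ K, h * x * h⁻¹ ∈ C.D := by
  haveI : Fact (Nat.Prime 3) := ⟨Nat.prime_three⟩
  have hDp : IsPGroup 3 (C.D.subgroupOf K) := IsPGroup.of_card (n := 2) (by
    rw [Nat.card_congr (subgroupOfEquivOfLe hK).toEquiv, C.card_D]; norm_num)
  obtain ⟨P, hP⟩ := hDp.exists_le_sylow
  have hPD : (P : Subgroup K).map K.subtype = C.D := by
    refine (eq_of_le_of_card_ge (fun d hd => mem_map.2 ⟨⟨d, hK hd⟩, hP (mem_subgroupOf.2 hd), rfl⟩) ?_).symm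
    rw [C.card_D]
    exact Nat.le_of_dvd (by norm_num) (C.sylow_bound _ (P.2.map _))
  have hX : IsPGroup 3 (zpowers (⟨x, hx⟩ : K)) := by
    intro w
    obtain ⟨k, hk⟩ := mem_zpowers_iff.1 w.2
    refine ⟨1, Subtype.ext ?_⟩
    have h3' : (⟨x, hx⟩ : K) ^ 3 = 1 := Subtype.ext (by simpa using h3)
    rw [SubmonoidClass.coe_pow, ← hk, pow_one, ← zpow_natCast, ← zpow_mul, mul_comm, zpow_mul,
      zpow_natCast, h3', one_zpow]
    rfl
  obtain ⟨Q, hQ⟩ := hX.exists_le_sylow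
  obtain ⟨k, hk⟩ := MulAction.exists_smul_eq K Q P
  refine ⟨k, k.2, ?_⟩
  rw [← hPD]
  refine ⟨k * ⟨x, hx⟩ * k⁻¹, ?_, rfl⟩
  rw [← hk, Sylow.coe_subgroup_smul]
  exact ⟨⟨x, hx⟩, hQ (mem_zpowers _), by simp⟩

theorem D_le_centT : C.D ≤ centralizer ({C.β eT} : Set G) := fun _ hd =>
  mem_centralizer_singleton_iff.2 (C.T_comm_D hd)

/-- An element commuting with an off-axis element is not conjugate to `τ`, unless equal to it. -/
theorem eq_T_of_off [Finite G] (a b : Fin 3) (ha : a ≠ 0) (hb : b ≠ 0) {t k : G}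
    (ht : t * C.β (dd a b) = C.β (dd a b) * t) (hk : k * t * k⁻¹ = C.β eT) : t = C.β eT := by
  set d := C.β (dd a b)
  set d' := k * d * k⁻¹ with hd'
  have hd'T : d' ∈ centralizer ({C.β eT} : Set G) := by
    refine mem_centralizer_singleton_iff.2 ?_
    rw [← hk, hd']
    calc k * d * k⁻¹ * (k * t * k⁻¹) = k * (d * t) * k⁻¹ := by group
      _ = k * (t * d) * k⁻¹ := by rw [ht]
      _ = k * t * k⁻¹ * (k * d * k⁻¹) := by group
  obtain ⟨h, hh, i, j, hij⟩ := C.conj_into_D _ C.D_le_centT hd'T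
    (by rw [hd', conj_pow, C.D_cube (C.dd_mem a b), mul_one, mul_inv_cancel])
  have hne : ¬ (i = 0 ∧ j = 0) := by
    rintro ⟨rfl, rfl⟩
    rw [dd_zero, map_one, conj_eq_one_iff, hd', conj_eq_one_iff, ← map_one C.β] at hij
    exact ha (dd_inj _ _ _ _ ((C.inj hij).trans dd_zero.symm)).1
  have hij0 : i ≠ 0 ∧ j ≠ 0 := by
    by_contra hc
    have h' : i = 0 ∨ j = 0 := by tauto
    have := C.card_axis i j hne h'
    rw [← hij, hd', card_centralizer_conj, card_centralizer_conj, C.card_off a b ha hb] at this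
    omega
  obtain ⟨m, hm, hmd⟩ := dd_move i j a b hij0.1 hij0.2 ha hb
  have hmT : C.β m * C.β eT = C.β eT * C.β m := by
    rw [← map_mul, ← map_mul]
    refine congrArg C.β ?_
    rcases hm with rfl | rfl | rfl | rfl <;> decide +kernel
  set k' := C.β m * h * k
  have e1 : k' * t * k'⁻¹ = C.β eT := by
    rw [show k' * t * k'⁻¹ = C.β m * (h * (k * t * k⁻¹) * h⁻¹) * (C.β m)⁻¹ by simp only [k']; group,
      hk, mem_centralizer_singleton_iff.1 hh, mul_inv_cancel_right, hmT, mul_inv_cancel_right]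
  have e2 : k' * d * k'⁻¹ = d := by
    rw [show k' * d * k'⁻¹ = C.β m * (h * (k * d * k⁻¹) * h⁻¹) * (C.β m)⁻¹ by simp only [k']; group,
      hij, ← map_inv, ← map_mul, ← map_mul, hmd]
  have h3 := C.normD_comm_T (C.normD_of_off a b ha hb (mul_inv_eq_iff_eq_mul.1 e2))
  calc t = k'⁻¹ * (k' * t * k'⁻¹) * k' := by group
    _ = k'⁻¹ * C.β eT * k' := by rw [e1]
    _ = C.β eT := by rw [mul_assoc, ← h3, inv_mul_cancel_left]

/-- A conjugate of `τ` commuting with `z` is conjugate to it in `N(⟨z⟩)`. -/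
theorem conj_T_of_Z [Finite G] {m : P35} (hm : m * eZ = eZ * m) {k : G}
    (hk : k * C.β m * k⁻¹ = C.β eT) : ∃ q : P35, q * m * q⁻¹ = eT := by
  set d' := k * C.β eZ * k⁻¹ with hd'
  have hd'T : d' ∈ centralizer ({C.β eT} : Set G) := by
    refine mem_centralizer_singleton_iff.2 ?_
    rw [← hk, hd']
    calc k * C.β eZ * k⁻¹ * (k * C.β m * k⁻¹) = k * (C.β eZ * C.β m) * k⁻¹ := by group
      _ = k * (C.β m * C.β eZ) * k⁻¹ := by rw [← map_mul, ← hm, map_mul]
      _ = k * C.β m * k⁻¹ * (k * C.β eZ * k⁻¹) := by group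
  obtain ⟨h, hh, i, j, hij⟩ := C.conj_into_D _ C.D_le_centT hd'T
    (by rw [hd', conj_pow, C.D_cube C.Z_mem_D, mul_one, mul_inv_cancel])
  have hne : ¬ (i = 0 ∧ j = 0) := by
    rintro ⟨rfl, rfl⟩
    rw [dd_zero, map_one, conj_eq_one_iff, hd', conj_eq_one_iff, ← map_one C.β] at hij
    exact absurd (C.inj hij) (by decide +kernel)
  have h360 : Nat.card (centralizer ({C.β (dd i j)} : Set G)) = 360 := by
    rw [← hij, hd', card_centralizer_conj, card_centralizer_conj]; exact C.card_z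
  obtain ⟨n, hnT, hn⟩ : ∃ n : G, n * C.β eT = C.β eT * n ∧
      n * C.β (dd i j) * n⁻¹ = C.β eZ := by
    have hA : C.β eA * C.β eT = C.β eT * C.β eA := by
      rw [← map_mul, ← map_mul]; exact congrArg C.β (by decide +kernel)
    by_cases hj : j = 0
    · subst hj
      rcases fin3_ne i (fun h => hne ⟨h, rfl⟩) with rfl | rfl
      · exact ⟨1, by simp, by simp [dd_one_zero]⟩
      · refine ⟨C.β eA, hA, ?_⟩
        rw [← map_inv, ← map_mul, ← map_mul]
        exact congrArg C.β (by decide +kernel)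
    · have hi : i = 0 := by
        by_contra hi
        rw [C.card_off i j hi hj] at h360
        omega
      subst hi
      rcases fin3_ne j hj with rfl | rfl
      · exact ⟨C.g, C.gT, by rw [dd_zero_one, C.gz']⟩
      · refine ⟨C.β eA * C.g, (Commute.mul_left hA C.gT).eq, ?_⟩
        rw [show C.β eA * C.g * C.β (dd 0 (-1)) * (C.β eA * C.g)⁻¹ =
          C.β eA * (C.g * C.β (dd 0 (-1)) * C.g⁻¹) * (C.β eA)⁻¹ by group,
          show dd 0 (-1) = eZ'⁻¹ by decide +kernel, map_inv, ← conj_inv, C.gz', ← map_inv,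
          ← map_inv, ← map_mul, ← map_mul]
        exact congrArg C.β (by decide +kernel)
  set k' := n * h * k
  have e1 : k' * C.β m * k'⁻¹ = C.β eT := by
    rw [show k' * C.β m * k'⁻¹ = n * (h * (k * C.β m * k⁻¹) * h⁻¹) * n⁻¹ by simp only [k']; group,
      hk, mem_centralizer_singleton_iff.1 hh, mul_inv_cancel_right, hnT, mul_inv_cancel_right]
  have e2 : k' * C.β eZ * k'⁻¹ = C.β eZ := by
    rw [show k' * C.β eZ * k'⁻¹ = n * (h * (k * C.β eZ * k⁻¹) * h⁻¹) * n⁻¹ by simp only [k']; group,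
      hij, hn]
  obtain ⟨q, hq⟩ := C.mem_range_of_normalize (Or.inl e2)
  refine ⟨q, C.inj ?_⟩
  rw [map_mul, map_mul, map_inv, hq]
  exact e1

end Ctx

end CfsgLib.ThreeLocalSymEight
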