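import Cfsg.Agent.ThreeLocalSymEight.Model
import Cfsg.Agent.ThreeLocalEight.Setup

/-!
The normalised local data: a copy of `Sym(3) × Sym(5)` normalising `⟨z⟩`, and an involution
exchanging the two axes of the Sylow 3-subgroup.
-/

set_option autoImplicit false
set_option maxRecDepth 100000

namespace CfsgLib.ThreeLocalSymEight

open Subgroup Equiv Equiv.Perm
open CfsgLib.ThreeLocalEight (c3 t3 c5 card_centralizer_conj centralizer_inv_singleton
  conj_mem_zpowers zpowers_three mem_normalizer_zpowers_of fin3_ne fin3_pairs three_conj three_fst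
  three_normal_aux)

universe u

/-- The local data, normalised. -/
structure Ctx (G : Type u) [Group G] where
  β : P35 →* G
  inj : Function.Injective β
  range_eq : β.range = normalizer (zpowers (β eZ) : Set G)
  g : G
  gg : g * g = 1
  gz : g * β eZ * g⁻¹ = β eZ'
  gz' : g * β eZ' * g⁻¹ = β eZ
  gT : g * β eT = β eT * g
  tw : Fin 2
  ga : g * β eA * g⁻¹ = β (eC * eT ^ tw.val)
  cD : ∀ x : G, x * β eZ = β eZ * x → x * β eZ' = β eZ' * x →
    ∃ a b : Fin 3, ∃ e : Fin 2, x = β (dd a b * eT ^ e.val)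
  card_z : Nat.card (centralizer ({β eZ} : Set G)) = 360
  card_off : ∀ a b : Fin 3, a ≠ 0 → b ≠ 0 → Nat.card (centralizer ({β (dd a b)} : Set G)) = 36
  norm_off : ∀ a b : Fin 3, a ≠ 0 → b ≠ 0 → ∀ x : G, x * β (dd a b) = β (dd a b) * x →
    ∀ i j : Fin 3, ∃ i' j' : Fin 3, x * β (dd i j) * x⁻¹ = β (dd i' j')
  sylow_bound : ∀ R : Subgroup G, IsPGroup 3 R → Nat.card R ∣ 9

variable {G : Type u} [Group G]

/-- A commutator of two elements each fixing or inverting `x` centralises `x`. -/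
theorem comm_fix {x p q : G} (hp : p * x * p⁻¹ = x ∨ p * x * p⁻¹ = x⁻¹)
    (hq : q * x * q⁻¹ = x ∨ q * x * q⁻¹ = x⁻¹) :
    (p * q) * x * (p * q)⁻¹ = (q * p) * x * (q * p)⁻¹ := by
  have e1 : (p * q) * x * (p * q)⁻¹ = p * (q * x * q⁻¹) * p⁻¹ := by group
  have e2 : (q * p) * x * (q * p)⁻¹ = q * (p * x * p⁻¹) * q⁻¹ := by group
  rw [e1, e2]
  rcases hp with hp | hp <;> rcases hq with hq | hq <;> simp [hp, hq, ← conj_inv]

theorem exists_ctx [Finite G] (P : Sylow 3 G) (D : Subgroup G) (hDP : D = P) (y z : G)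
    (hgen : Subgroup.closure {y, z} = D) (hcomm : IsMulCommutative D) (hcard : Nat.card D = 9)
    (hexp : ∀ a ∈ D, a ^ 3 = 1) (hC : Nat.card (Subgroup.centralizer (D : Set G)) = 18)
    (eN : Subgroup.normalizer (D : Set G) ⧸ D.subgroupOf (Subgroup.normalizer (D : Set G)) ≃* D82)
    [hcn : ((Subgroup.centralizer (D : Set G)).subgroupOf
      (Subgroup.normalizer (D : Set G))).Normal]
    (eNC : Subgroup.normalizer (D : Set G) ⧸ (Subgroup.centralizer (D : Set G)).subgroupOf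
      (Subgroup.normalizer (D : Set G)) ≃* DihedralGroup 4)
    (hyn : (D.subgroupOf (Subgroup.centralizer ({y} : Set G))).Normal)
    (hycard : Nat.card (Subgroup.centralizer ({y} : Set G)) = 36)
    (hzcard : Nat.card (Subgroup.centralizer ({z} : Set G)) = 360)
    (eL : Subgroup.normalizer (Subgroup.zpowers z : Set G) ≃* P35) :
    ∃ C : Ctx G, ∀ x ∈ D, ∃ a b : Fin 3, x = C.β (dd a b) := by
  classical
  have hyD : y ∈ D := hgen ▸ subset_closure (by simp)
  have hzD : z ∈ D := hgen ▸ subset_closure (by simp)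
  have hcommD : ∀ a ∈ D, ∀ b ∈ D, a * b = b * a := fun a ha b hb => by
    haveI := hcomm
    exact congrArg Subtype.val (hcomm.is_comm.comm (⟨a, ha⟩ : D) ⟨b, hb⟩)
  have hz3 : z ^ 3 = 1 := hexp z hzD
  have hzne : z ≠ 1 := by
    intro h1
    have hD' : D ≤ zpowers y := by
      rw [← hgen, closure_le]
      intro x hx
      rcases hx with rfl | rfl
      · exact mem_zpowers _
      · rw [h1]; exact one_mem _
    have h3 : Nat.card (zpowers y) ≤ 3 := by
      rw [Nat.card_zpowers]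
      exact Nat.le_of_dvd (by norm_num) (orderOf_dvd_of_pow_eq_one (hexp y hyD))
    have := card_le_of_le hD'
    omega
  -- the first coordinates
  let β0 : P35 →* G := (normalizer (zpowers z : Set G)).subtype.comp eL.symm.toMonoidHom
  have hinj0 : Function.Injective β0 := (Subgroup.subtype_injective _).comp eL.symm.injective
  have hr0 : β0.range = normalizer (zpowers z : Set G) := by
    ext x
    constructor
    · rintro ⟨m, rfl⟩; exact (eL.symm m).2
    · intro hx; exact ⟨eL ⟨x, hx⟩, by simp [β0]⟩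
  obtain ⟨m0, hm0⟩ : z ∈ β0.range := hr0 ▸ le_normalizer (mem_zpowers z)
  have hm3 : m0 ^ 3 = 1 := hinj0 (by rw [map_pow, map_one, hm0, hz3])
  have hm0ne : m0 ≠ 1 := fun h => hzne (by rw [← hm0, h, map_one])
  have hcomp : ∀ p : Perm (Fin 5), p * m0.2 = m0.2 * p ∨ p * m0.2 = m0.2⁻¹ * p := by
    intro p
    have hn : β0 (1, p) ∈ normalizer (zpowers z : Set G) := hr0 ▸ ⟨_, rfl⟩
    rcases zpowers_three hz3 (conj_mem_zpowers hn) with h1 | h1 | h1
    · exact absurd (conj_eq_one_iff.1 h1) hzne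
    · rw [← hm0, ← map_inv, ← map_mul, ← map_mul] at h1
      exact Or.inl (mul_inv_eq_iff_eq_mul.1 (congrArg Prod.snd (hinj0 h1)))
    · rw [← hm0, ← map_inv β0, ← map_inv β0, ← map_mul, ← map_mul] at h1
      exact Or.inr (mul_inv_eq_iff_eq_mul.1 (congrArg Prod.snd (hinj0 h1)))
  have hsnd : m0.2 = 1 := three_normal_aux _ ⟨congrArg Prod.snd hm3, hcomp _, hcomp _⟩
  have hz0 : β0 eZ = z ∨ β0 eZ = z⁻¹ := by
    rcases three_fst _ (congrArg Prod.fst hm3) with h | h | h
    · exact absurd (Prod.ext h hsnd) hm0ne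
    · exact Or.inl (by rw [← hm0, show m0 = eZ from Prod.ext h hsnd])
    · refine Or.inr (eq_inv_of_mul_eq_one_left ?_)
      rw [← hm0, ← map_mul, show m0 = (c3 * c3, 1) from Prod.ext h hsnd,
        show eZ * (c3 * c3, 1) = 1 by decide +kernel, map_one]
  -- the second coordinate
  obtain ⟨d, hdD, hdz⟩ : ∃ d ∈ D, d ∉ zpowers z := by
    by_contra! h
    have h1 := card_le_of_le (show D ≤ zpowers z from h)
    have h2 : Nat.card (zpowers z) ≤ 3 := by
      rw [Nat.card_zpowers]; exact Nat.le_of_dvd (by norm_num) (orderOf_dvd_of_pow_eq_one hz3)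
    omega
  obtain ⟨md, hmd⟩ : d ∈ β0.range := hr0 ▸ mem_normalizer_zpowers_of (by
    rw [hcommD d hdD z hzD, mul_inv_cancel_right]; exact mem_zpowers z)
  have hz0mem : β0 eZ ∈ zpowers z := by
    rcases hz0 with h | h <;> rw [h]
    · exact mem_zpowers z
    · exact inv_mem (mem_zpowers z)
  have hmd3 : md ^ 3 = 1 := hinj0 (by rw [map_pow, map_one, hmd, hexp d hdD])
  obtain ⟨a, hae⟩ : ∃ a : Fin 3, md.1 = c3 ^ a.val := by
    rcases three_fst _ (congrArg Prod.fst hmd3) with h | h | h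
    · exact ⟨0, h⟩
    · exact ⟨1, by rw [h]; simp⟩
    · exact ⟨2, by rw [h]; decide⟩
  have hmd2 : md.2 ≠ 1 := by
    intro h2
    apply hdz
    have hmd' : md = eZ ^ a.val := Prod.ext (by simp [hae, eZ]) (by simp [h2, eZ])
    rw [← hmd, hmd', map_pow]
    exact pow_mem hz0mem _
  obtain ⟨p, -, hpc⟩ := three_conj _ (congrArg Prod.snd hmd3) hmd2
  let n0 : P35 := (1, p)
  let β : P35 →* G := β0.comp (MulAut.conj n0).toMonoidHom
  have hinj : Function.Injective β := hinj0.comp (MulEquiv.injective _)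
  have hβZ : β eZ = β0 eZ := by
    show β0 (n0 * eZ * n0⁻¹) = β0 eZ
    congr 1
    ext1 <;> simp [n0, eZ]
  have hzp : zpowers (β eZ) = zpowers z := by
    rw [hβZ]; rcases hz0 with h | h <;> rw [h]
    exact zpowers_inv
  have hrange : β.range = normalizer (zpowers (β eZ) : Set G) := by
    rw [hzp, ← hr0]
    ext x
    constructor
    · rintro ⟨m, rfl⟩; exact ⟨_, rfl⟩
    · rintro ⟨m, rfl⟩; exact ⟨n0⁻¹ * m * n0, by simp [β, mul_assoc]⟩
  have hcardz : Nat.card (centralizer ({β eZ} : Set G)) = 360 := by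
    rw [hβZ]; rcases hz0 with h | h <;> rw [h]
    · exact hzcard
    · rw [centralizer_inv_singleton]; exact hzcard
  have hZD : β eZ ∈ D := (zpowers_le.2 hzD) (hzp ▸ mem_zpowers _)
  have hZ'D : β eZ' ∈ D := by
    have he : md = eZ ^ a.val * (n0 * eZ' * n0⁻¹) := by
      refine Prod.ext ?_ ?_
      · simp [hae, n0, eZ, eZ']
      · simp [n0, eZ, eZ', hpc]
    have h : d = β0 (eZ ^ a.val) * β eZ' := by rw [← hmd, he, map_mul]; rfl
    have hd0 : β0 (eZ ^ a.val) ∈ D := by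
      rw [map_pow]; exact pow_mem ((zpowers_le.2 hzD) hz0mem) _
    have := mul_mem (inv_mem hd0) hdD
    rwa [h, inv_mul_cancel_left] at this
  have hdd : ∀ a b, β (dd a b) ∈ D := fun a b => by
    rw [show dd a b = eZ ^ a.val * eZ' ^ b.val by simp [dd, eZ, eZ'], map_mul, map_pow, map_pow]
    exact mul_mem (pow_mem hZD _) (pow_mem hZ'D _)
  have hmemD : ∀ x ∈ D, ∃ a b, x = β (dd a b) := by
    let f : Fin 3 × Fin 3 → D := fun q => ⟨β (dd q.1 q.2), hdd _ _⟩
    have hf : Function.Injective f := fun q r h => by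
      have h' : β (dd q.1 q.2) = β (dd r.1 r.2) := (congrArg Subtype.val h :)
      obtain ⟨h1, h2⟩ := dd_inj _ _ _ _ (hinj h')
      exact Prod.ext h1 h2
    have hb := (Nat.bijective_iff_injective_and_card f).2 ⟨hf, by simp [hcard]⟩
    intro x hx
    obtain ⟨q, hq⟩ := hb.2 ⟨x, hx⟩
    exact ⟨q.1, q.2, (congrArg Subtype.val hq).symm⟩
  have hcentD : ∀ x : G, x * β eZ = β eZ * x → x * β eZ' = β eZ' * x →
      x ∈ centralizer (D : Set G) := by
    intro x h1 h2
    rw [mem_centralizer_iff]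
    intro w hw
    obtain ⟨a, b, rfl⟩ := hmemD w hw
    rw [show dd a b = eZ ^ a.val * eZ' ^ b.val by simp [dd, eZ, eZ'], map_mul, map_pow, map_pow]
    exact ((Commute.pow_right (h1 : Commute x _) _).mul_right
      (Commute.pow_right (h2 : Commute x _) _)).symm.eq
  set CD := centralizer (D : Set G)
  have hCmem : ∀ x ∈ CD, ∃ a b : Fin 3, ∃ e : Fin 2, x = β (dd a b * eT ^ e.val) := by
    have hin : ∀ a b : Fin 3, ∀ e : Fin 2, β (dd a b * eT ^ e.val) ∈ CD := by
      intro a b e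
      have k : ∀ a b : Fin 3, ∀ e : Fin 2, dd a b * eT ^ e.val * eZ = eZ * (dd a b * eT ^ e.val) ∧
          dd a b * eT ^ e.val * eZ' = eZ' * (dd a b * eT ^ e.val) := by decide +kernel
      exact hcentD _ (by rw [← map_mul, (k a b e).1, map_mul]) (by rw [← map_mul, (k a b e).2, map_mul])
    let f : Fin 3 × Fin 3 × Fin 2 → CD := fun q => ⟨β (dd q.1 q.2.1 * eT ^ q.2.2.val), hin _ _ _⟩
    have hf : Function.Injective f := fun q r h => by
      have h' := hinj (congrArg Subtype.val h :)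
      obtain ⟨h1, h2, h3⟩ := dd_inj2 _ _ _ _ _ _ h'
      exact Prod.ext h1 (Prod.ext h2 h3)
    have hb := (Nat.bijective_iff_injective_and_card f).2 ⟨hf, by simp [hC]⟩
    intro x hx
    obtain ⟨q, hq⟩ := hb.2 ⟨x, hx⟩
    exact ⟨q.1, q.2.1, q.2.2, (congrArg Subtype.val hq).symm⟩
  set ND := normalizer (D : Set G)
  have hNmem : ∀ m : P35, (∃ b : Fin 3, m.2 * c5 * m.2⁻¹ = c5 ^ b.val) → β m ∈ ND := by
    intro m hm
    have key : ∀ x ∈ D, β m * x * (β m)⁻¹ ∈ D := by
      intro x hx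
      obtain ⟨a', b', rfl⟩ := hmemD x hx
      obtain ⟨a'', ha''⟩ := conj_dd m.1 a'
      obtain ⟨b, hb⟩ := hm
      have hb'' : ∃ b'' : Fin 3, m.2 * c5 ^ b'.val * m.2⁻¹ = c5 ^ b''.val := by
        rw [← conj_pow, hb]
        exact ⟨b * b', c5_pow_pow b b'⟩
      obtain ⟨b'', hb''⟩ := hb''
      have e : m * dd a' b' * m⁻¹ = dd a'' b'' := Prod.ext (by simp [dd, ← ha''])
        (by simp [dd, ← hb''])
      rw [← map_mul, ← map_inv, ← map_mul, e]
      exact hdd _ _
    rw [Subgroup.mem_normalizer_iff]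
    intro x
    refine ⟨key x, fun hx => ?_⟩
    have hle : D.map (MulAut.conj (β m)).toMonoidHom ≤ D := by
      rintro _ ⟨w, hw, rfl⟩; exact key w hw
    have heq := eq_of_le_of_card_ge hle
      (Subgroup.card_map_of_injective (MulEquiv.injective _)).ge
    rw [← heq] at hx
    obtain ⟨w, hw, hw'⟩ := hx
    exact (show w = x by simpa using hw') ▸ hw
  have hconjD : ∀ x ∈ ND, ∀ i j : Fin 3, ∃ i' j' : Fin 3, x * β (dd i j) * x⁻¹ = β (dd i' j') :=
    fun x hx i j => hmemD _ ((Subgroup.mem_normalizer_iff.1 hx _).1 (hdd i j))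
  -- some element moves the first axis
  have hfix : ∀ m : P35, β m ∈ ND → m.2 * c5 * m.2⁻¹ = c5 ∨ m.2 * c5 * m.2⁻¹ = c5⁻¹ := by
    intro m hm
    obtain ⟨i, j, h⟩ := hconjD _ hm 0 1
    rw [← map_inv, ← map_mul, ← map_mul] at h
    have e := congrArg Prod.snd (hinj h)
    exact norm_c5 _ ⟨j, by simpa [dd] using e⟩
  obtain ⟨n, hn, hnr⟩ : ∃ n ∈ ND, n ∉ β.range := by
    by_contra! h
    obtain ⟨q1, q2, hq⟩ := d8_not_comm
    apply hq
    obtain ⟨⟨x, hx⟩, hxq⟩ := QuotientGroup.mk'_surjective _ (eNC.symm q1)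
    obtain ⟨⟨w, hw⟩, hwq⟩ := QuotientGroup.mk'_surjective _ (eNC.symm q2)
    obtain ⟨m, rfl⟩ := h x hx
    obtain ⟨n, rfl⟩ := h w hw
    have hsg : ∀ m : P35, β m * β eZ * (β m)⁻¹ = β eZ ∨ β m * β eZ * (β m)⁻¹ = (β eZ)⁻¹ := by
      intro m
      have k : ∀ s : Perm (Fin 3), s * c3 * s⁻¹ = c3 ∨ s * c3 * s⁻¹ = c3⁻¹ := by decide
      rw [← map_inv, ← map_mul, ← map_mul, ← map_inv]
      rcases k m.1 with hk | hk
      · exact Or.inl (congrArg β (Prod.ext (by simp [eZ, hk]) (by simp [eZ])))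
      · exact Or.inr (congrArg β (Prod.ext (by simp [eZ, hk]) (by simp [eZ])))
    have hsg' : ∀ m : P35, β m ∈ ND →
        β m * β eZ' * (β m)⁻¹ = β eZ' ∨ β m * β eZ' * (β m)⁻¹ = (β eZ')⁻¹ := by
      intro m hm
      rw [← map_inv, ← map_mul, ← map_mul, ← map_inv]
      rcases hfix m hm with hk | hk
      · exact Or.inl (congrArg β (Prod.ext (by simp [eZ']) (by simp [eZ', hk])))
      · exact Or.inr (congrArg β (Prod.ext (by simp [eZ']) (by simp [eZ', hk])))
    have e1 := comm_fix (hsg m) (hsg n)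
    have e2 := comm_fix (hsg' m hx) (hsg' n hw)
    set X := β m * β n
    set Y := β n * β m
    have hmemC : Y⁻¹ * X ∈ CD := by
      refine hcentD _ ?_ ?_
      · calc Y⁻¹ * X * β eZ = Y⁻¹ * (X * β eZ * X⁻¹) * X := by group
          _ = Y⁻¹ * (Y * β eZ * Y⁻¹) * X := by rw [e1]
          _ = β eZ * (Y⁻¹ * X) := by group
      · calc Y⁻¹ * X * β eZ' = Y⁻¹ * (X * β eZ' * X⁻¹) * X := by group
          _ = Y⁻¹ * (Y * β eZ' * Y⁻¹) * X := by rw [e2]
          _ = β eZ' * (Y⁻¹ * X) := by group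
    apply eNC.symm.injective
    rw [map_mul, map_mul, ← hxq, ← hwq, ← map_mul, ← map_mul]
    symm
    refine QuotientGroup.eq.2 (mem_subgroupOf.2 ?_)
    simpa [X, Y, mul_inv_rev, mul_assoc] using hmemC
  -- coordinates of the image of the axes
  obtain ⟨a1, b1, hd1⟩ := hconjD n hn 1 0
  obtain ⟨a2, b2, hd2⟩ := hconjD n hn 0 1
  rw [dd_one_zero] at hd1
  rw [dd_zero_one] at hd2
  have hb1 : b1 ≠ 0 := by
    intro h; subst h
    apply hnr
    rw [hrange]
    refine mem_normalizer_zpowers_of ?_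
    rw [hd1, show dd a1 0 = eZ ^ a1.val by simp [dd, eZ], map_pow]
    exact pow_mem (mem_zpowers _) _
  have hA : β eA ∈ ND := hNmem _ ⟨1, by decide +kernel⟩
  have hCn : β eC ∈ ND := hNmem _ ⟨2, by decide +kernel⟩
  have hflip : ∀ a b : Fin 3,
      Nat.card (centralizer ({β (dd (-a) b)} : Set G)) = Nat.card (centralizer ({β (dd a b)} : Set G)) ∧
      Nat.card (centralizer ({β (dd a (-b))} : Set G)) = Nat.card (centralizer ({β (dd a b)} : Set G)) := by
    intro a b
    obtain ⟨h1, h2, -⟩ := dd_flip a b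
    constructor
    · rw [← h1, map_mul, map_mul, map_inv, card_centralizer_conj]
    · rw [← h2, map_mul, map_mul, map_inv, card_centralizer_conj]
  have hdiag : ∀ a b a' b' : Fin 3, a ≠ 0 → b ≠ 0 → a' ≠ 0 → b' ≠ 0 →
      Nat.card (centralizer ({β (dd a b)} : Set G)) = Nat.card (centralizer ({β (dd a' b')} : Set G)) := by
    have h : ∀ a b : Fin 3, a ≠ 0 → b ≠ 0 →
        Nat.card (centralizer ({β (dd a b)} : Set G)) =
          Nat.card (centralizer ({β (dd 1 1)} : Set G)) := by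
      intro a b ha hb
      rcases fin3_ne a ha with rfl | rfl <;> rcases fin3_ne b hb with rfl | rfl
      · rfl
      · rw [(hflip 1 1).2]
      · rw [(hflip 1 1).1]
      · rw [(hflip 1 (-1)).1, (hflip 1 1).2]
    intro a b a' b' ha hb ha' hb'
    rw [h a b ha hb, h a' b' ha' hb']
  have hn1 : Nat.card (centralizer ({β (dd a1 b1)} : Set G)) = 360 := by
    rw [← hd1, card_centralizer_conj]; exact hcardz
  obtain ⟨ay, byy, hy⟩ := hmemD y hyD
  have hy0 : ¬ (ay = 0 ∧ byy = 0) := by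
    rintro ⟨rfl, rfl⟩
    rw [hy, dd_zero, map_one] at hycard
    have := card_le_of_le (show centralizer ({z} : Set G) ≤ centralizer ({(1 : G)} : Set G) from
      fun x _ => mem_centralizer_singleton_iff.2 (by simp))
    omega
  have hyb : byy ≠ 0 := by
    intro h; subst h
    rcases fin3_ne ay (fun h => hy0 ⟨h, rfl⟩) with rfl | rfl
    · rw [hy, dd_one_zero, hcardz] at hycard; omega
    · rw [hy, show dd (-1) 0 = eZ⁻¹ by decide +kernel, map_inv, centralizer_inv_singleton,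
        hcardz] at hycard
      omega
  have ha1 : a1 = 0 := by
    by_contra ha1
    have hay : ay = 0 := by
      by_contra hay
      rw [hy, hdiag ay byy a1 b1 hay hyb ha1 hb1, hn1] at hycard
      omega
    subst hay
    have hZ'36 : ∀ b : Fin 3, b ≠ 0 → Nat.card (centralizer ({β (dd 0 b)} : Set G)) = 36 := by
      intro b hb
      rcases fin3_ne b hb with rfl | rfl <;> rcases fin3_ne byy hyb with rfl | rfl
      · rw [← hy]; exact hycard
      · rw [← hycard, hy]; exact (hflip 0 1).2.symm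
      · rw [← hycard, hy]; exact (hflip 0 1).2
      · rw [← hy]; exact hycard
    have h2c : Nat.card (centralizer ({β (dd a2 b2)} : Set G)) = 36 := by
      rw [← hd2, card_centralizer_conj, ← dd_zero_one]; exact hZ'36 1 (by decide)
    have ha2 : a2 = 0 := by
      by_contra ha2
      by_cases hb2 : b2 = 0
      · subst hb2
        rcases fin3_ne a2 ha2 with rfl | rfl
        · rw [dd_one_zero, hcardz] at h2c; omega
        · rw [show dd (-1) 0 = eZ⁻¹ by decide +kernel, map_inv, centralizer_inv_singleton,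
            hcardz] at h2c
          omega
      · rw [hdiag a2 b2 a1 b1 ha2 hb2 ha1 hb1, hn1] at h2c; omega
    subst ha2
    have hb2 : b2 ≠ 0 := by
      rintro rfl
      rw [dd_zero, map_one, conj_eq_one_iff, ← map_one β] at hd2
      exact absurd (hinj hd2) (by decide +kernel)
    -- an element moving `Z` off both axes and fixing the second one is no 2-element
    have hfour : ∀ m ∈ ND, ∀ a b e : Fin 3, m * β eZ * m⁻¹ = β (dd a b) →
        m * β eZ' * m⁻¹ = β (dd 0 e) → a ≠ 0 →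
        b * a * (a * a) + e * b * (a * a) + e * e * b * a + e * e * e * b = 0 := by
      intro m hm a b e h1 h2 ha
      have hlin : ∀ i j : Fin 3, m * β (dd i j) * m⁻¹ = β (dd (i * a) (i * b + j * e)) := by
        intro i j
        rw [show dd i j = eZ ^ i.val * eZ' ^ j.val by simp [dd, eZ, eZ'], map_mul, map_pow, map_pow,
          show m * (β eZ ^ i.val * β eZ' ^ j.val) * m⁻¹ =
            (m * β eZ ^ i.val * m⁻¹) * (m * β eZ' ^ j.val * m⁻¹) by group,
          ← conj_pow, ← conj_pow, h1, h2, ← map_pow, ← map_pow, ← map_mul, dd_lin]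
      have hm4 : m ^ 4 ∈ D := by
        have := congrArg eN.symm (d82_exp (eN (QuotientGroup.mk (⟨m, hm⟩ : ND))))
        rw [← map_pow eN, MulEquiv.symm_apply_apply, map_one, ← QuotientGroup.mk_pow,
          QuotientGroup.eq_one_iff, mem_subgroupOf] at this
        simpa using this
      have e4 : m ^ 4 * β eZ * (m ^ 4)⁻¹ = β eZ := by
        rw [hcommD _ hm4 _ hZD, mul_inv_cancel_right]
      rw [show m ^ 4 * β eZ * (m ^ 4)⁻¹ = m * (m * (m * (m * β eZ * m⁻¹) * m⁻¹) * m⁻¹) * m⁻¹ by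
        simp only [pow_succ, pow_zero, one_mul]; group, h1, hlin, hlin, hlin] at e4
      rw [← dd_one_zero] at e4
      have e5 := (dd_inj _ _ _ _ (hinj e4)).2
      exact four_calc a b e ha (by convert e5 using 1)
    refine no_lower a1 b1 b2 ha1 hb1 hb2 (hfour n hn a1 b1 b2 hd1 hd2 ha1) ?_
    refine hfour (n * β eA) (mul_mem hn hA) (-a1) (-b1) b2 ?_ ?_ (by simpa using ha1)
    · rw [show n * β eA * β eZ * (n * β eA)⁻¹ = n * (β eA * β eZ * (β eA)⁻¹) * n⁻¹ by group,
        ← map_inv, ← map_mul, ← map_mul, show eA * eZ * eA⁻¹ = eZ⁻¹ by decide +kernel, map_inv,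
        ← conj_inv, hd1, ← map_inv, dd_inv]
    · rw [show n * β eA * β eZ' * (n * β eA)⁻¹ = n * (β eA * β eZ' * (β eA)⁻¹) * n⁻¹ by group,
        ← map_inv, ← map_mul, ← map_mul, show eA * eZ' * eA⁻¹ = eZ' by decide +kernel, hd2]
  subst ha1
  have hZ'360 : Nat.card (centralizer ({β eZ'} : Set G)) = 360 := by
    rcases fin3_ne b1 hb1 with rfl | rfl
    · rwa [dd_zero_one] at hn1
    · rwa [show dd 0 (-1) = eZ'⁻¹ by decide +kernel, map_inv, centralizer_inv_singleton] at hn1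
  have hay : ay ≠ 0 := by
    intro h; subst h
    rcases fin3_ne byy hyb with rfl | rfl
    · rw [hy, dd_zero_one, hZ'360] at hycard; omega
    · rw [hy, show dd 0 (-1) = eZ'⁻¹ by decide +kernel, map_inv, centralizer_inv_singleton,
        hZ'360] at hycard
      omega
  have hoff : ∀ a b : Fin 3, a ≠ 0 → b ≠ 0 →
      Nat.card (centralizer ({β (dd a b)} : Set G)) = 36 := fun a b ha hb => by
    rw [hdiag a b ay byy ha hb hay hyb, ← hy]; exact hycard
  obtain ⟨ha2, rfl⟩ : a2 ≠ 0 ∧ b2 = 0 := by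
    have h2c : Nat.card (centralizer ({β (dd a2 b2)} : Set G)) = 360 := by
      rw [← hd2, card_centralizer_conj]; exact hZ'360
    have ha2 : a2 ≠ 0 := by
      intro h; subst h
      obtain ⟨c, hc⟩ := pow_axis b1 b2 hb1
      have e : β eZ' = β eZ ^ c.val := by
        have : n * β eZ' * n⁻¹ = n * β eZ ^ c.val * n⁻¹ := by
          rw [hd2, ← conj_pow, hd1, ← map_pow, hc]
        exact mul_left_cancel (mul_right_cancel this)
      rw [← map_pow] at e
      have k : ∀ c : Fin 3, eZ' ≠ eZ ^ c.val := by decide +kernel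
      exact k c (hinj e)
    refine ⟨ha2, ?_⟩
    by_contra hb
    rw [hoff a2 b2 ha2 hb] at h2c
    omega
  obtain ⟨mg, hmg, hmg1, hmg2⟩ : ∃ m : P35, β m ∈ ND ∧ m * dd 0 b1 * m⁻¹ = eZ' ∧
      m * dd a2 0 * m⁻¹ = eZ := by
    rcases fin3_ne b1 hb1 with rfl | rfl <;> rcases fin3_ne a2 ha2 with rfl | rfl
    · exact ⟨1, by rw [map_one]; exact one_mem _, by decide +kernel, by decide +kernel⟩
    · exact ⟨eA, hA, by decide +kernel, by decide +kernel⟩
    · exact ⟨eC, hCn, by decide +kernel, by decide +kernel⟩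
    · exact ⟨eA * eC, by rw [map_mul]; exact mul_mem hA hCn, by decide +kernel, by decide +kernel⟩
  set g0 := β mg * n
  have hg0 : g0 ∈ ND := mul_mem hmg hn
  have hg1 : g0 * β eZ * g0⁻¹ = β eZ' := by
    rw [show g0 * β eZ * g0⁻¹ = β mg * (n * β eZ * n⁻¹) * (β mg)⁻¹ by simp only [g0]; group, hd1,
      ← map_mul, ← map_inv, ← map_mul, hmg1]
  have hg2 : g0 * β eZ' * g0⁻¹ = β eZ := by
    rw [show g0 * β eZ' * g0⁻¹ = β mg * (n * β eZ' * n⁻¹) * (β mg)⁻¹ by simp only [g0]; group, hd2,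
      ← map_mul, ← map_inv, ← map_mul, hmg2]
  -- the involution of `C(D)` is central in `N(D)`
  have hTC : β eT ∈ CD := hcentD _
    (by rw [← map_mul, ← map_mul]; exact congrArg β (by decide +kernel))
    (by rw [← map_mul, ← map_mul]; exact congrArg β (by decide +kernel))
  have hTcent : ∀ x ∈ ND, x * β eT = β eT * x := by
    intro x hx
    have h1 : x * β eT * x⁻¹ ∈ CD := by
      rw [mem_centralizer_iff]
      intro w hw
      have hw' : x⁻¹ * w * x ∈ D := by
        simpa using (Subgroup.mem_normalizer_iff.1 (inv_mem hx) w).1 hw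
      have h := mem_centralizer_iff.1 hTC _ hw'
      calc w * (x * β eT * x⁻¹) = x * ((x⁻¹ * w * x) * β eT) * x⁻¹ := by group
        _ = x * (β eT * (x⁻¹ * w * x)) * x⁻¹ := by rw [h]
        _ = x * β eT * x⁻¹ * w := by group
    obtain ⟨a, b, e, h⟩ := hCmem _ h1
    have h2 : (dd a b * eT ^ e.val) ^ 2 = 1 ∧ dd a b * eT ^ e.val ≠ 1 := by
      constructor
      · apply hinj
        rw [map_pow, ← h, conj_pow, ← map_pow, show eT ^ 2 = 1 by decide +kernel, map_one, mul_one,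
          mul_inv_cancel]
      · intro e1
        rw [e1, map_one, conj_eq_one_iff, ← map_one β] at h
        exact absurd (hinj h) (by decide +kernel)
    have k : ∀ a b : Fin 3, ∀ e : Fin 2, ((dd a b * eT ^ e.val) ^ 2 = 1 ∧
        dd a b * eT ^ e.val ≠ 1) → dd a b * eT ^ e.val = eT := by decide +kernel
    rw [k a b e h2] at h
    exact mul_inv_eq_iff_eq_mul.1 h
  -- the square of `g0`
  have hgsqC : g0 * g0 ∈ CD := by
    refine hcentD _ ?_ ?_
    · refine mul_inv_eq_iff_eq_mul.1 ?_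
      rw [show g0 * g0 * β eZ * (g0 * g0)⁻¹ = g0 * (g0 * β eZ * g0⁻¹) * g0⁻¹ by group, hg1, hg2]
    · refine mul_inv_eq_iff_eq_mul.1 ?_
      rw [show g0 * g0 * β eZ' * (g0 * g0)⁻¹ = g0 * (g0 * β eZ' * g0⁻¹) * g0⁻¹ by group, hg2, hg1]
  obtain ⟨i, j, f, hsq⟩ := hCmem _ hgsqC
  have hlin : ∀ i j : Fin 3, g0 * β (dd i j) * g0⁻¹ = β (dd j i) := by
    intro i j
    rw [show dd i j = eZ ^ i.val * eZ' ^ j.val by simp [dd, eZ, eZ'], map_mul, map_pow, map_pow,
      show g0 * (β eZ ^ i.val * β eZ' ^ j.val) * g0⁻¹ =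
        (g0 * β eZ ^ i.val * g0⁻¹) * (g0 * β eZ' ^ j.val * g0⁻¹) by group,
      ← conj_pow, ← conj_pow, hg1, hg2, ← map_pow, ← map_pow, ← map_mul, swap_lin]
  have hij : i = j := by
    have h1 : g0 * β (dd i j * eT ^ f.val) * g0⁻¹ = β (dd i j * eT ^ f.val) := by
      rw [← hsq]; group
    rw [map_mul, show g0 * (β (dd i j) * β (eT ^ f.val)) * g0⁻¹ =
      (g0 * β (dd i j) * g0⁻¹) * (g0 * β (eT ^ f.val) * g0⁻¹) by group, hlin, map_pow,
      ← conj_pow, hTcent _ hg0, mul_inv_cancel_right, ← map_pow, ← map_mul, ← map_mul] at h1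
    exact (dd_inj2 _ _ _ _ _ _ (hinj h1)).2.1
  subst hij
  set g1 := g0 * β (dd (-i) 0)
  have hdn : ∀ a b, β (dd a b) ∈ ND := fun a b => le_normalizer (hdd a b)
  have hg1N : g1 ∈ ND := mul_mem hg0 (hdn _ _)
  have hg1sq : g1 * g1 = β (eT ^ f.val) := by
    rw [show g1 * g1 = (g0 * β (dd (-i) 0) * g0⁻¹) * (g0 * g0) * β (dd (-i) 0) by
      simp only [g1]; group, hlin, hsq, ← map_mul, ← map_mul, sq_fix]
  have hg1z : g1 * β eZ * g1⁻¹ = β eZ' ∧ g1 * β eZ' * g1⁻¹ = β eZ := by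
    have e : ∀ w, g1 * w * g1⁻¹ = g0 * (β (dd (-i) 0) * w * (β (dd (-i) 0))⁻¹) * g0⁻¹ :=
      fun w => by simp only [g1]; group
    constructor
    · rw [e, ← map_inv, ← map_mul, ← map_mul, (dd_fix (-i)).1]; exact hg1
    · rw [e, ← map_inv, ← map_mul, ← map_mul, (dd_fix (-i)).2]; exact hg2
  obtain ⟨kk, tw, hga⟩ : ∃ k : Fin 3, ∃ e : Fin 2, g1 * β eA * g1⁻¹ =
      β ((1 : Perm (Fin 3)), c5 ^ k.val * (s5 * t5 ^ e.val) * (c5 ^ k.val)⁻¹) := by
    set w := g1 * β eA * g1⁻¹ with hw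
    have hwZ : w * β eZ * w⁻¹ = β eZ := by
      rw [hw, show g1 * β eA * g1⁻¹ * β eZ * (g1 * β eA * g1⁻¹)⁻¹ =
        g1 * (β eA * (g1⁻¹ * β eZ * g1) * (β eA)⁻¹) * g1⁻¹ by group,
        show g1⁻¹ * β eZ * g1 = β eZ' by rw [← hg1z.2]; group, ← map_inv, ← map_mul, ← map_mul,
        show eA * eZ' * eA⁻¹ = eZ' by decide +kernel, hg1z.2]
    have hwZ' : w * β eZ' * w⁻¹ = (β eZ')⁻¹ := by
      rw [hw, show g1 * β eA * g1⁻¹ * β eZ' * (g1 * β eA * g1⁻¹)⁻¹ =
        g1 * (β eA * (g1⁻¹ * β eZ' * g1) * (β eA)⁻¹) * g1⁻¹ by group,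
        show g1⁻¹ * β eZ' * g1 = β eZ by rw [← hg1z.1]; group, ← map_inv, ← map_mul, ← map_mul,
        show eA * eZ * eA⁻¹ = eZ⁻¹ by decide +kernel, map_inv, ← conj_inv, hg1z.1]
    obtain ⟨m, hm⟩ : w ∈ β.range := by
      rw [hrange]; exact mem_normalizer_zpowers_of (by rw [hwZ]; exact mem_zpowers _)
    have e1 : m * eZ = eZ * m := hinj (by rw [map_mul, map_mul, hm]; exact mul_inv_eq_iff_eq_mul.1 hwZ)
    have e2 : m * eZ' = eZ'⁻¹ * m := hinj (by
      rw [map_mul, map_mul, map_inv, hm]; exact mul_inv_eq_iff_eq_mul.1 hwZ')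
    have e3 : m ^ 2 = 1 := hinj (by
      rw [map_pow, hm, hw, conj_pow, ← map_pow, show eA ^ 2 = 1 by decide +kernel, map_one, mul_one,
        mul_inv_cancel])
    have e4 : m * eT = eT * m := hinj (by
      rw [map_mul, map_mul, hm, hw]
      exact ((show Commute g1 (β eT) from hTcent _ hg1N).mul_left
        (hTcent _ hA)).mul_left (hTcent _ (inv_mem hg1N)))
    have hs : m.1 = 1 := g_image_fst _ ⟨congrArg Prod.fst e1, congrArg Prod.fst e3⟩
    obtain ⟨k, e, hp⟩ := g_image m.2 ⟨congrArg Prod.snd e3, congrArg Prod.snd e2, congrArg Prod.snd e4⟩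
    exact ⟨k, e, hm.symm.trans (congrArg β (Prod.ext hs hp))⟩
  have hf : f = 0 := by
    by_contra hf
    have hf1 : f = 1 := fin2_one f hf
    subst hf1
    have hmem : ∀ {x : G} (hx : x ∈ ND), ((eN (QuotientGroup.mk (⟨x, hx⟩ : ND))) *
        (eN (QuotientGroup.mk (⟨x, hx⟩ : ND))) = 1 ↔ x * x ∈ D) := by
      intro x hx
      rw [← map_mul, ← map_one eN, eN.injective.eq_iff, ← QuotientGroup.mk_mul,
        QuotientGroup.eq_one_iff, mem_subgroupOf]
      rfl
    have hsqT : g1 * g1 = β eT := by rw [hg1sq]; simp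
    have hT : β eT ∉ D := by
      intro h
      obtain ⟨a, b, e⟩ := hmemD _ h
      have k : ∀ a b : Fin 3, eT ≠ dd a b := by decide +kernel
      exact k a b (hinj e)
    set g2 := g1 * β eA
    have hg2N : g2 ∈ ND := mul_mem hg1N hA
    have hg2sq : g2 * g2 = g1 * β eA * g1⁻¹ * β eT * β eA := by
      rw [← hsqT]; simp only [g2]; group
    have hnc : g2 * g2 * β eZ ≠ β eZ * (g2 * g2) := by
      rw [hg2sq, hga, ← map_mul, ← map_mul, ← map_mul, ← map_mul]
      exact fun h => twisted_nc kk tw (hinj h)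
    have h2D : g2 * g2 ∉ D := fun h => hnc (hcommD _ h _ hZD)
    have h3 := d82_sq _ _ (fun h => hT (hsqT ▸ (hmem hg1N).1 h))
      (fun h => h2D ((hmem hg2N).1 h))
    rw [← map_mul, ← map_mul, eN.injective.eq_iff, ← QuotientGroup.mk_mul, ← QuotientGroup.mk_mul,
      QuotientGroup.eq, mem_subgroupOf] at h3
    simp only [Subgroup.coe_mul, Subgroup.coe_inv] at h3
    apply hnc
    rw [show g2 * g2 = g1 * g1 * ((g1 * g1)⁻¹ * (g2 * g2)) by group, hsqT]
    exact ((show Commute (β eT) (β eZ) from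
      (mem_centralizer_iff.1 hTC _ hZD).symm).mul_left (hcommD _ (hsqT ▸ h3) _ hZD)).eq
  subst hf
  -- the final shift
  set s := β (dd (-kk) kk)
  set g := g1 * s with hgdef
  have hsN : s ∈ ND := hdn _ _
  have hgN : g ∈ ND := mul_mem hg1N hsN
  have hlin1 : ∀ a b : Fin 3, g1 * β (dd a b) * g1⁻¹ = β (dd b a) := by
    intro a b
    rw [show g1 * β (dd a b) * g1⁻¹ = g0 * (β (dd (-i) 0) * β (dd a b) * (β (dd (-i) 0))⁻¹) * g0⁻¹ by
      simp only [g1]; group, hcommD _ (hdd _ _) _ (hdd a b), mul_inv_cancel_right, hlin]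
  have hgz : g * β eZ * g⁻¹ = β eZ' ∧ g * β eZ' * g⁻¹ = β eZ := by
    constructor <;>
    · rw [show ∀ w, g * w * g⁻¹ = g1 * (s * w * s⁻¹) * g1⁻¹ from fun w => by simp only [hgdef]; group,
        hcommD _ (hdd _ _) _ (by assumption), mul_inv_cancel_right]
      first | exact hg1z.1 | exact hg1z.2
  have hga' : g * β eA * g⁻¹ = β (eC * eT ^ tw.val) := by
    have e1 : s * β eA * s⁻¹ = β (dd kk 0) * β eA := by
      simp only [s]
      rw [← map_inv, ← map_mul, ← map_mul, conj_shift, map_mul]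
    rw [show g * β eA * g⁻¹ = g1 * (s * β eA * s⁻¹) * g1⁻¹ by simp only [hgdef]; group, e1,
      show g1 * (β (dd kk 0) * β eA) * g1⁻¹ =
        g1 * β (dd kk 0) * g1⁻¹ * (g1 * β eA * g1⁻¹) by group, hlin1, hga, ← map_mul, shift_image]
  refine ⟨⟨β, hinj, hrange, g, ?_, hgz.1, hgz.2, hTcent g hgN, tw, hga',
    fun x h1 h2 => hCmem _ (hcentD x h1 h2), hcardz, hoff, ?_, ?_⟩, hmemD⟩
  · rw [hgdef, show g1 * s * (g1 * s) = (g1 * s * g1⁻¹) * (g1 * g1) * s by group, hlin1, hg1sq,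
      ← map_mul, ← map_mul, shift_sq, map_one]
  · intro a b ha hb x hx i j
    obtain ⟨m, hm, hmd⟩ : ∃ m : P35, β m ∈ ND ∧ m * dd ay byy * m⁻¹ = dd a b := by
      obtain ⟨m, hm, hmd⟩ := dd_move ay byy a b hay hyb ha hb
      refine ⟨m, ?_, hmd⟩
      rcases hm with rfl | rfl | rfl | rfl
      · rw [map_one]; exact one_mem _
      · exact hA
      · exact hCn
      · rw [map_mul]; exact mul_mem hA hCn
    set w := (β m)⁻¹ * x * β m
    have h11 : β (dd a b) = β m * y * (β m)⁻¹ := by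
      rw [hy, ← map_inv, ← map_mul, ← map_mul, hmd]
    have hw : w ∈ centralizer ({y} : Set G) := by
      rw [mem_centralizer_singleton_iff]
      calc w * y = (β m)⁻¹ * (x * (β m * y * (β m)⁻¹)) * β m := by simp only [w]; group
        _ = (β m)⁻¹ * ((β m * y * (β m)⁻¹) * x) * β m := by rw [← h11, hx]
        _ = y * w := by simp only [w]; group
    have hDc : D ≤ centralizer ({y} : Set G) := fun v hv =>
      mem_centralizer_singleton_iff.2 (hcommD v hv y hyD)
    have hwD : ∀ v ∈ D, w * v * w⁻¹ ∈ D := fun v hv => by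
      have := hyn.conj_mem ⟨v, hDc hv⟩ (by simpa [Subgroup.mem_subgroupOf] using hv) ⟨w, hw⟩
      simpa [Subgroup.mem_subgroupOf] using this
    have hvD := (Subgroup.mem_normalizer_iff.1 (inv_mem hm) _).1 (hdd i j)
    have := (Subgroup.mem_normalizer_iff.1 hm _).1 (hwD _ hvD)
    apply hmemD
    convert this using 1
    simp only [w]; group
  · intro R hR
    obtain ⟨S, hS⟩ := hR.exists_le_sylow
    have h9 : Nat.card (S : Subgroup G) = 9 := by
      rw [Sylow.card_eq_multiplicity, ← Sylow.card_eq_multiplicity P, ← hDP, hcard]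
    exact h9 ▸ Subgroup.card_dvd_of_le hS

end CfsgLib.ThreeLocalSymEight
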